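/-
P15: groups with dihedral Sylow 2-subgroups (Gorenstein-Walter).  Interface, see plans/P15.md.
-/
import Cfsg.Agent.P5.Final
import Cfsg.Agent.P7.L2D
import Cfsg.Agent.P29.Defs

set_option autoImplicit false
set_option linter.unusedSectionVars false

namespace Cfsg.Agent.P15

open Subgroup Cfsg Cfsg.Agent Cfsg.Agent.FT
open Cfsg.Agent.H2 (pPrimeCoreOf layerOf fstarOf PStab)
open Cfsg.Agent.P5 (V4 Tri)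
open scoped commutatorElement

universe u

/-- Every `2`-subgroup is cyclic or dihedral. -/
def DC (G : Type u) [Group G] : Prop := ∀ T : Subgroup G, IsPGroup 2 T →
  ∃ c ∈ T, ∀ g ∈ T, g ∉ zpowers c → g * g = 1 ∧ g * c * g = c⁻¹ ∧
    ∀ g' ∈ T, g' ∉ zpowers c → g * g' ∈ zpowers c

/-- The two order formulas (`X = 1 + 2 w a`, `Y, Z = 1 + w (a ± n)`). -/
def Form (w i k₁ k₂ : ℕ) : Prop := ∃ a n : ℤ, a ≠ 0 ∧ Odd (a + n) ∧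
  4 * (i : ℤ) * a ^ 2 = ((k₁ : ℤ) + k₂) ^ 2 * (1 + 2 * w * a) * (1 + w * a) ∧
  4 * (i : ℤ) * n ^ 2 = ((k₁ : ℤ) - k₂) ^ 2 * (1 + w * (a + n)) * (1 + w * (a - n)) * (1 + w * a)

section
variable {G : Type u} [Group G]

/-- The four-group generated by `t` and `s`. -/
abbrev VV (t s : G) : Subgroup G := closure ({t, s} : Set G)

/-- `X` has the dihedral Sylow `2`-subgroup `⟨y, s⟩` of order `2 w ≥ 8`, one class of involutions,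
and `C_X(t) = U ⋊ ⟨y, s⟩`. -/
structure DH (X U : Subgroup G) (y t s : G) (w : ℕ) : Prop where
  yX : y ∈ X
  sX : s ∈ X
  ord : orderOf y = w
  pw : ∃ n, w = 2 ^ (n + 2)
  ty : y ^ (w / 2) = t
  ss : s * s = 1
  sy : s ∉ zpowers y
  inv : s * y * s = y⁻¹
  UX : U ≤ X
  Ut : U ≤ 𝐂[t]
  odd : Odd 𝐨(U)
  yU : y ∈ 𝐍(U)
  sU : s ∈ 𝐍(U)
  cover : ∀ g ∈ X ⊓ 𝐂[t], ∃ u ∈ U, ∃ z ∈ zpowers y, g = u * z ∨ g = u * z * s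
  conj : ∀ j ∈ X, j ≠ 1 → j * j = 1 → ∃ g ∈ X, g * t * g⁻¹ = j

/-- `k(s) = |U : C_U(s)|`. -/
noncomputable abbrev kk (U : Subgroup G) (s : G) : ℕ := (𝐂[s] : Subgroup G).relIndex U

/-- The local data of `A₇`. -/
structure A7 (L U : Subgroup G) (y t s : G) : Prop where
  dh : DH L U y t s 4
  cU : 𝐨(U) = 3
  cs : U ≤ 𝐂[s]
  iy : ∀ u ∈ U, y * u * y⁻¹ = u⁻¹
  max : ∀ M : Subgroup G, L ⊓ 𝐂[t] ≤ M → M ≤ L → M = L ∨ M ≤ 𝐍(VV t s)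
  card : 𝐨(L) = 2520

def D1 (X : Subgroup G) : Prop := ∀ t s, V4 t s → t ∈ X → s ∈ X → ∀ p : ℕ, p.Prime → p ≠ 2 →
  ∀ Q ≤ X, IsPGroup p Q → ⁅Q, zpowers t⁆ = Q → X ⊓ 𝐂[t] ≤ 𝐍(Q) → Q ≤ pPrimeCoreOf 2 X

/-- `N_X(V)` is transitive on the maximal `V`-invariant `p`-subgroups of `X`. -/
def KA (X : Subgroup G) : Prop := ∀ t s, V4 t s → t ∈ X → s ∈ X → ∀ p : ℕ, p.Prime → p ≠ 2 →
  ∀ A ≤ X, ∀ B ≤ X, IsPGroup p A → IsPGroup p B → VV t s ≤ 𝐍(A) → VV t s ≤ 𝐍(B) →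
    ∃ n ∈ X ⊓ 𝐍(VV t s), ∃ P : Subgroup G, IsPGroup p P ∧ VV t s ≤ 𝐍(P) ∧ A ≤ P ∧ B ^ᵍ n ≤ P

/-- Component data: `L ⊴ R` is quasisimple, `K = [O(C_L(t)), C_L(t)]`. -/
structure CL (R L K : Subgroup G) (t : G) : Prop where
  LR : L ≤ R
  nL : R ≤ 𝐍(L)
  tL : t ∈ L
  t1 : t ≠ 1
  tt : t * t = 1
  perf : ⁅L, L⁆ = L
  qs : ∀ N : Subgroup G, N ⊲ L → N = L ∨ Odd 𝐨(N)
  conj : ∀ j ∈ L, j ≠ 1 → j * j = 1 → ∃ g ∈ L, g * t * g⁻¹ = j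
  tri : ∀ s ∈ L, V4 t s → ∃ x ∈ L, Tri x t s
  ex : ∃ s ∈ L, V4 t s
  KL : K ≤ L ⊓ 𝐂[t]
  odd : Odd 𝐨(K)
  cyc : IsCyclic K
  nK : R ⊓ 𝐂[t] ≤ 𝐍(K)
  mem : ∀ s ∈ L, V4 t s → ∀ g ∈ R ⊓ 𝐂[t], Odd (orderOf g) → s * g * s = g⁻¹ → g ∈ K
  fld : ∀ s ∈ L, V4 t s → (∀ a ∈ K, s * a * s = a⁻¹) → ∀ p : ℕ, p.Prime → p ≠ 2 →
    ∀ Y ≤ R ⊓ 𝐂[t], IsPGroup p Y → L ⊓ 𝐂[t] ≤ 𝐍(Y) → Y ⊓ 𝐂[s] ≤ 𝐂(L)

/-- `L / Z(L) ≅ PSL₂(q)`, `q = k + l`, `k = (q - ε)/2`, `l = (q + ε)/2`. -/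
structure CL2 (R L K : Subgroup G) (t : G) (k l : ℕ) : Prop where
  num : l = k + 1 ∨ l + 1 = k
  three : 3 ≤ l
  two : ∀ T, IsSyl 2 T L → 𝐨(T) * 𝐨(K) = 2 * k
  dvd : 2 * 𝐨(K) ∣ k
  idx : (𝐂[t] : Subgroup G).relIndex L = (k + l) * l
  inv : ∀ j ∈ R, V4 t j → ∀ a ∈ K, j * a * j = a⁻¹
  cent : ∀ a ∈ K, a ≠ 1 → L ⊓ 𝐂[a] ≤ 𝐂[t]
  tor : ∀ a ∈ K, a ≠ 1 → ∀ Z ≤ L ⊓ 𝐂[a], IsPGroup 2 Z → 𝐨(Z) * 𝐨(K) ≤ k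
  cls : ∀ s ∈ L, V4 t s → (𝐂[s] : Subgroup G).relIndex (R ⊓ 𝐂[t]) ≤ k
  good : ∀ a ∈ K, (orderOf a).Prime → {j | ∃ g ∈ L, g * t * g⁻¹ = j ∧
    Odd 𝐨(closure ({a, g * a * g⁻¹} : Set G))}.ncard ≤ 2 * (k + l) + 1
  out : ∀ j ∈ R, j ∉ L → V4 t j → ∃ K' ≤ L ⊓ 𝐂[j], 𝐨(K') = l ∧ ∀ a ∈ K', t * a * t = a⁻¹

/-- `L / Z(L)` has the local data of `A₇`. -/
structure CL7 (R L K : Subgroup G) (t : G) : Prop where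
  card : 𝐨(K) = 3
  two : ∀ T ≤ R, IsPGroup 2 T → T ≤ L
  ex4 : ∃ z ∈ L, z * z = t
  inv4 : ∀ z ∈ R, z * z = t → ∀ a ∈ K, z * a * z⁻¹ = a⁻¹

def KC (R : Subgroup G) (t : G) : Prop := ∃ K, CL R (layerOf R) K t ∧
  ((∃ k l, CL2 R (layerOf R) K t k l) ∨ CL7 R (layerOf R) K t)

end

/-- Known simple groups. -/
def Kn (K : Type u) [Group K] : Prop :=
  (∃ (A : Subgroup K) (t s : K), P3.BSW A t s) ∨ ∃ (U : Subgroup K) (y t s : K), A7 ⊤ U y t s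

def Ind (n : ℕ) : Prop := ∀ (K : Type u) [Group K] [Finite K], Nat.card K < n → IsSimpleGroup K →
  ¬ IsMulCommutative K → DC K → Kn K

/-- Facts about four-groups in a group with `O(X) = 1`. -/
structure Bar (X : Type u) [Group X] : Prop where
  d1 : ∀ t s : X, V4 t s → ∀ p : ℕ, p.Prime → p ≠ 2 → ∀ Q : Subgroup X, IsPGroup p Q →
    ⁅Q, zpowers t⁆ = Q → 𝐂[t] ≤ 𝐍(Q) → Q = ⊥
  k1 : ∀ t s : X, V4 t s → ∀ p : ℕ, p.Prime → p ≠ 2 → ∀ W : Subgroup X, IsPGroup p W →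
    VV t s ≤ 𝐍(W) → W ≤ 𝐂[t] ∨ W ≤ 𝐂[s] ∨ W ≤ 𝐂[t * s]
  k3 : ∀ t s : X, V4 t s → ∀ p : ℕ, p.Prime → p ≠ 2 → ∀ a b : X, orderOf a = p → orderOf b = p →
    a ∈ 𝐂[t] → s * a * s = a⁻¹ → b ∈ 𝐂[s] → t * b * t = b⁻¹ → ∃ n ∈ 𝐍(VV t s), n * t * n⁻¹ = s

/-- The action of `X` on `L = π(SL₂(F))`. -/
structure Sem {X : Type u} [Group X] {F : Type} [Field F] (π : H4.SL2.SL F →* X) (L : Subgroup X) :
    Prop where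
  pg : ∀ j : X, j * j = 1 → ∃ γ, ∀ y, j * π y * j⁻¹ = π (P7.conjSL γ y)
  m3 : ∀ g j : X, Odd (orderOf g) → j * j = 1 → j * g * j = g⁻¹ → g ∈ L
  fld : ∀ x s, V4 (π x) (π s) → ∀ p : ℕ, p.Prime → p ≠ 2 → ∀ b : X, (∃ n, b ^ p ^ n = 1) →
    Commute b (π x) → Commute b (π s) → (∀ a ∈ P7.Ab π x, ∃ n, ⁅a, b⁆ ^ p ^ n = 1) → b = 1

/-- Consequences of the order formulas. -/
def NumStmt : Prop := ∀ w i k₁ k₂ : ℕ, (∃ n, w = 2 ^ (n + 2)) → Odd k₁ → Odd k₂ →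
  Form w i k₁ k₂ →
  21 * (w * (k₁ + k₂)) ^ 2 ≤ 64 * i ∧ 64 * i ≤ 45 * (w * (k₁ + k₂)) ^ 2 ∧
  k₂ < 6 * k₁ ∧ k₁ < 6 * k₂ ∧
  (k₂ = 3 * k₁ → w = 4 ∧ i = 105 * k₁ ^ 2) ∧ (k₂ = 5 * k₁ → w = 4 ∧ i = 189 * k₁ ^ 2) ∧
  (k₁ = 3 * k₂ → w = 4 ∧ i = 105 * k₂ ^ 2) ∧ (k₁ = 5 * k₂ → w = 4 ∧ i = 189 * k₂ ^ 2) ∧
  (∀ j, k₂ = k₁ * j → k₁.Coprime i → 5 ≤ k₁ → j < 3) ∧
  (∀ j, k₁ = k₂ * j → k₂.Coprime i → 5 ≤ k₂ → j < 3)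

/-- The facts used by the local analysis of a minimal counterexample. -/
structure GF (G : Type u) [Group G] : Prop where
  simple : IsSimpleGroup G
  na : ¬ IsMulCommutative G
  dc : DC G
  num : NumStmt
  d1 : ∀ X : Subgroup G, X ≠ ⊤ → D1 X
  ka : ∀ X : Subgroup G, X ≠ ⊤ → KA X
  kc : ∀ R : Subgroup G, R ≠ ⊤ → ∀ t ∈ layerOf R, t ≠ 1 → t * t = 1 → KC R t
  ch : ∀ (X U : Subgroup G) (y t s : G) (w : ℕ), DH X U y t s w →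
    Form w ((𝐂[t] : Subgroup G).relIndex X) (kk U s) (kk U (s * y))
  ca : ∀ (U : Subgroup G) (y t s : G) (w : ℕ), DH ⊤ U y t s w → y ∈ 𝐂(U) →
    ⁅U, zpowers s⁆ = U ∨ (w = 4 ∧ (𝐂[t] : Subgroup G).index = 45 * kk U s ^ 2)
  ps : ∀ (X : Type u) [Group X] [Finite X], DC X → ∀ p : ℕ, p.Prime → p ≠ 2 → PStab p X
  bt : ∀ M₁ M₂ : Subgroup G, IsCoatom M₁ → IsCoatom M₂ → fstarOf M₁ ≤ M₂ → fstarOf M₂ ≤ M₁ →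
    ∀ p : ℕ, p.Prime → p ≠ 2 → pCoreOf p M₁ ≠ ⊥ → M₁ = M₂

/-- The configuration of the second case of part B (`R = N(L)`, `Q = O_p(U)`, `P = C_Q(s)`). -/
structure TD {G : Type u} [Group G] (U L K : Subgroup G) (y t s a b : G) (w p k l : ℕ) : Prop where
  gf : GF G
  dh : DH ⊤ U y t s w
  co : IsCoatom 𝐂[t]
  cl : CL 𝐍(L) L K t
  c2 : CL2 𝐍(L) L K t k l
  sL : s ∈ L
  pp : p.Prime
  p2 : p ≠ 2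
  PL : pCoreOf p U ⊓ 𝐂[s] ≤ 𝐂(L)
  cyc : IsCyclic (pCoreOf p U ⊓ 𝐂[s] : Subgroup G)
  ha : a ∈ K ⊓ pCoreOf p U
  oa : orderOf a = p
  hb : b ∈ pCoreOf p U ⊓ 𝐂[s]
  ob : orderOf b = p
  nx : ∀ X ≤ fittingOf U ⊓ 𝐂(L), X ≠ ⊥ → 𝐍(X) ≤ 𝐍(L)
  nb : 𝐍(zpowers b) = 𝐍(L)
  dec : ∀ r : ℕ, r.Prime → ∀ g ∈ pCoreOf r U ⊓ 𝐍(L),
    ∃ c ∈ pCoreOf r U ⊓ 𝐂(L), ∃ e ∈ K ⊓ pCoreOf r U, g = c * e
  om : ∀ g ∈ pCoreOf p U ⊓ 𝐍(L), g ^ p = 1 → g ∈ zpowers a ⊔ zpowers b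
  nH : ¬ 𝐂[t] ≤ 𝐍(L)

/-! ### Chapters -/

def ChStmt : Prop := ∀ (G : Type u) [Group G] [Finite G] (X U : Subgroup G) (y t s : G) (w : ℕ),
  DH X U y t s w → Form w ((𝐂[t] : Subgroup G).relIndex X) (kk U s) (kk U (s * y))

def CaStmt : Prop := ∀ (G : Type u) [Group G] [Finite G] (U : Subgroup G) (y t s : G) (w : ℕ),
  IsSimpleGroup G → DH ⊤ U y t s w → y ∈ 𝐂(U) →
    ⁅U, zpowers s⁆ = U ∨ (w = 4 ∧ (𝐂[t] : Subgroup G).index = 45 * kk U s ^ 2)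

def PSStmt : Prop := ∀ (X : Type u) [Group X] [Finite X], DC X → ∀ p : ℕ, p.Prime → p ≠ 2 →
  PStab p X

def BTStmt : Prop := ∀ (G : Type u) [Group G] [Finite G], IsSimpleGroup G → DC G →
  ∀ M₁ M₂ : Subgroup G, IsCoatom M₁ → IsCoatom M₂ → fstarOf M₁ ≤ M₂ → fstarOf M₂ ≤ M₁ →
    ∀ p : ℕ, p.Prime → p ≠ 2 → pCoreOf p M₁ ≠ ⊥ → M₁ = M₂

def SemStmt : Prop := ∀ (X : Type u) [Group X] [Finite X] (F : Type) [Field F]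
  (π : H4.SL2.SL F →* X) (L : Subgroup X), DC X → L.Normal → 𝐂(L) = ⊥ → P7.Cov π L →
    3 < Nat.card F → Sem π L

def BarLStmt : Prop := ∀ (X : Type u) [Group X] [Finite X] (F : Type) [Field F]
  (π : H4.SL2.SL F →* X) (L : Subgroup X), DC X → L.Normal → 𝐂(L) = ⊥ → P7.Cov π L →
    3 < Nat.card F → Sem π L → Bar X

def CLLStmt : Prop := ∀ (X : Type u) [Group X] [Finite X] (F : Type) [Field F]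
  (π : H4.SL2.SL F →* X) (L : Subgroup X), DC X → L.Normal → 𝐂(L) = ⊥ → P7.Cov π L →
    3 < Nat.card F → Sem π L → ∀ t ∈ L, t ≠ 1 → t * t = 1 →
      ∃ K k l, CL ⊤ L K t ∧ CL2 ⊤ L K t k l

def K7Stmt : Prop := ∀ (X : Type u) [Group X] [Finite X] (L : Subgroup X), DC X → L.Normal →
  𝐂(L) = ⊥ → IsSimpleGroup L → (∃ (U : Subgroup L) (y t s : L), A7 ⊤ U y t s) →
    Bar X ∧ ∀ t ∈ L, t ≠ 1 → t * t = 1 → ∃ K, CL ⊤ L K t ∧ CL7 ⊤ L K t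

/-- Lifting to `D1`, `KA`. -/
def KDStmt : Prop := ∀ (G : Type u) [Group G] [Finite G] (n : ℕ), DC G → Ind.{u} n →
  ∀ X : Subgroup G, 𝐨(X) < n → D1 X ∧ KA X

/-- Lifting of the component data. -/
def KCStmt : Prop := ∀ (G : Type u) [Group G] [Finite G] (n : ℕ), DC G → Ind.{u} n →
  ∀ R : Subgroup G, 𝐨(R) < n → ∀ t ∈ layerOf R, t ≠ 1 → t * t = 1 → KC R t

/-- Part A, first half: `M` has characteristic `p`. -/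
def A1Stmt : Prop := ∀ (G : Type u) [Group G] [Finite G], GF G →
  ∀ (t s x : G) (p : ℕ) (T M : Subgroup G), V4 t s → Tri x t s → P5.MCfg (VV t s) t p T M →
    M ⊓ 𝐍(VV t s) ≤ 𝐂[t] → ∀ q : ℕ, q.Prime → q ≠ p → pCoreOf q M = ⊥

def AStmt : Prop := ∀ (G : Type u) [Group G] [Finite G], GF G →
  ∀ (U : Subgroup G) (y t s : G) (w : ℕ), DH ⊤ U y t s w →
    ∀ W : Subgroup G, Odd 𝐨(W) → 𝐂[t] ≤ 𝐍(W) → W ≤ 𝐂[t]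

def NMStmt : Prop := ∀ (G : Type u) [Group G] [Finite G], GF G →
  ∀ (U : Subgroup G) (y t s : G) (w : ℕ), DH ⊤ U y t s w → ¬ IsCoatom 𝐂[t] →
    (∀ W : Subgroup G, Odd 𝐨(W) → 𝐂[t] ≤ 𝐍(W) → W ≤ 𝐂[t]) → U = ⊥ ∨ ∃ s', A7 ⊤ U y t s'

/-- The first case of part B. -/
def FC {G : Type u} [Group G] (U : Subgroup G) (t : G) : Prop :=
  ∀ X ≤ fittingOf U, X ≠ ⊥ → ∀ R, IsCoatom R → 𝐍(X) ≤ R → t ∉ layerOf R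

def B1Stmt : Prop := ∀ (G : Type u) [Group G] [Finite G], GF G →
  ∀ (U : Subgroup G) (y t s : G) (w : ℕ), DH ⊤ U y t s w → IsCoatom 𝐂[t] → FC U t →
    y ∈ 𝐂(U) ∧ U ⊓ 𝐂[s] = ⊥

def B2Stmt : Prop := ∀ (G : Type u) [Group G] [Finite G], GF G →
  ∀ (U : Subgroup G) (y t s : G) (w : ℕ), DH ⊤ U y t s w → IsCoatom 𝐂[t] → ¬ FC U t →
    ∃ L K y' s' a b p k l, TD U L K y' t s' a b w p k l

def CountStmt : Prop := ∀ (G : Type u) [Group G] [Finite G] (U L K : Subgroup G) (y t s a b : G)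
  (w p k l : ℕ), TD U L K y t s a b w p k l → ¬ 𝐂[t] ≤ 𝐍((zpowers a ⊔ zpowers b : Subgroup G)) ∧
    16 * p ^ 6 * k ^ 2 < (𝐍(L) : Subgroup G).relIndex 𝐂[t] * (w * (kk U s + kk U (s * y))) ^ 2

/-- `Y` is an `H`-invariant subgroup of exponent `p` of `O_p(U)`. -/
def Ex {G : Type u} [Group G] (U Y : Subgroup G) (t : G) (p : ℕ) : Prop :=
  Y ≤ pCoreOf p U ∧ 𝐂[t] ≤ 𝐍(Y) ∧ ∀ g ∈ Y, g ^ p = 1

def SplitStmt : Prop := ∀ (G : Type u) [Group G] [Finite G] (U L K : Subgroup G) (y t s a b : G)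
  (w p k l : ℕ), TD U L K y t s a b w p k l → ∀ Y, Ex U Y t p → b ∈ Y ∨ Y ≤ zpowers a

def WStmt : Prop := ∀ (G : Type u) [Group G] [Finite G] (U L K : Subgroup G) (y t s a b : G)
  (w p k l : ℕ), TD U L K y t s a b w p k l → ¬ ∀ Y, Ex U Y t p → b ∈ Y ∨ Y ≤ zpowers a

end Cfsg.Agent.P15
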