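/-
P15: `p`-stability and Bender's theorem on pairs of maximal subgroups.
-/
import Cfsg.Agent.P15.Defs

set_option autoImplicit false
set_option linter.unusedSectionVars false
set_option linter.style.haveILetI false

namespace Cfsg.Agent.P15

open Subgroup Cfsg Cfsg.Agent Cfsg.Agent.H2
open scoped Pointwise commutatorElement

universe u

namespace PS

theorem of_surj {H K : Type*} [Group H] [Finite H] [Group K] (h : DC H) (f : H →* K)
    (hf : Function.Surjective f) : DC K := fun T hT => by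
  obtain ⟨S, -, hS, rfl⟩ := H1.exists_isPGroup_map_eq f (Q := ⊤) (R := T)
    (by rw [← MonoidHom.range_eq_map, MonoidHom.range_eq_top.2 hf]; exact le_top) hT
  obtain ⟨c, hc, h1⟩ := h S hS
  refine ⟨f c, ⟨c, hc, rfl⟩, ?_⟩
  rintro _ ⟨g, hg, rfl⟩ hn
  have k : ∀ {x : H}, x ∈ zpowers c → f x ∈ zpowers (f c) := fun e =>
    MonoidHom.map_zpowers f c ▸ mem_map_of_mem f e
  obtain ⟨e1, e2, e3⟩ := h1 g hg (mt k hn)
  refine ⟨by rw [← map_mul, e1, map_one], by rw [← map_mul, ← map_mul, e2, map_inv], ?_⟩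
  rintro _ ⟨g', hg', rfl⟩ hn'
  exact map_mul f g g' ▸ k (e3 g' hg' (mt k hn'))

theorem sub {H : Type*} [Group H] (h : DC H) (K : Subgroup H) : DC K := fun T hT => by
  obtain ⟨_, ⟨c, hc, rfl⟩, h1⟩ := h _ (hT.map K.subtype)
  refine ⟨c, hc, fun g hg hn => ?_⟩
  obtain ⟨e1, e2, e3⟩ := h1 g ⟨g, hg, rfl⟩ fun ⟨k, e⟩ => hn ⟨k, Subtype.ext e⟩
  refine ⟨Subtype.ext e1, Subtype.ext e2, fun g' hg' hn' => ?_⟩
  obtain ⟨k, e⟩ := e3 g' ⟨g', hg', rfl⟩ fun ⟨k, e⟩ => hn' ⟨k, Subtype.ext e⟩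
  exact ⟨k, Subtype.ext e⟩

theorem isPGroup_of_conj {H : Type*} [Group H] [Finite H] {p : ℕ} [hp : Fact p.Prime]
    (hp2 : p ≠ 2) (hgen : ∀ K : Subgroup H, (∀ g : H, (∃ k, g ^ p ^ k = 1) → g ∈ K) → K = ⊤)
    (hab : DC H) (hc : ∀ x h : H, (orderOf x).Coprime p → Commute x (h * x * h⁻¹) →
      h * x * h⁻¹ = x ∨ h * x * h⁻¹ = x⁻¹) : IsPGroup p H := by
  refine isPGroup_of_conj_eq_or_inv hp2 hgen (fun T hT => ?_) hc
  obtain ⟨c, hcT, h1⟩ := hab T hT
  by_cases h0 : T ≤ zpowers c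
  · exact FT.isMulComm_of_le h0 inferInstance
  obtain ⟨s, hs, hn⟩ := SetLike.not_le_iff_exists.1 h0
  obtain ⟨ss, e, -⟩ := h1 s hs hn
  have si := P5.inv_eq_of_sq ss
  have k1 : ∀ d ∈ zpowers c, d * d * (d * d) = 1 → d * d = 1 := fun d hd h4 => by
    have e1 : s * d * s⁻¹ = d⁻¹ := P5.inverts_of_mem_zpowers (by rwa [si]) hd
    have e2 : s * (d * d) * s⁻¹ = d * d := by
      rw [← P5.inv_eq_of_sq h4, mul_inv_rev, ← e1]
      nth_rewrite 1 [e1, e1]
      rw [← mul_inv_rev, P5.inv_eq_of_sq h4]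
      group
    have e3 : d * s * d⁻¹ = d * d * s := by rw [← e1, si, mul_assoc d s, ← mul_assoc s, ← mul_assoc s, ss]; group
    have e4 := hc s d ((Nat.Coprime.coprime_dvd_left (orderOf_dvd_of_pow_eq_one (n := 2)
      (by rw [pow_two, ss])) ((Nat.coprime_primes Nat.prime_two hp.out).2 hp2.symm))) (by
        rw [e3]
        exact (show Commute s (d * d) from mul_inv_eq_iff_eq_mul.1 e2).mul_right (Commute.refl s))
    rw [si, or_self, e3] at e4
    exact mul_eq_right.1 e4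
  have k2 : ∀ k : ℕ, ∀ d ∈ zpowers c, d ^ 2 ^ k = 1 → d * d = 1 := fun k => by
    induction k with
    | zero => intro d _ h; rw [pow_zero, pow_one] at h; rw [h, mul_one]
    | succ k ih =>
      exact fun d hd h => k1 d hd (ih _ (mul_mem hd hd) (by rw [← pow_two, ← pow_mul, ← pow_succ', h]))
  have k3 : ∀ g ∈ T, g⁻¹ = g := fun g hg => P5.inv_eq_of_sq (by
    by_cases h : g ∈ zpowers c
    · obtain ⟨k, hk⟩ := hT ⟨g, hg⟩
      exact k2 k g h (congrArg Subtype.val hk)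
    · exact (h1 g hg h).1)
  exact ⟨⟨fun a b => Subtype.ext (by
    rw [coe_mul, coe_mul, ← k3 _ (mul_mem a.2 b.2), mul_inv_rev, k3 _ a.2, k3 _ b.2])⟩⟩

theorem schur {R : Type*} [Ring R] {p : ℕ} [hp : Fact p.Prime] (hp2 : p ≠ 2)
    (hR : (p : R) = 0) {H : Type*} [Group H] [Finite H] (ρ : H →* R) {a b : H}
    (hgen : closure ({a, b} : Set H) = ⊤)
    (hab : DC H)
    (ha : (ρ a - 1) * (ρ a - 1) = 0) (hb : (ρ b - 1) * (ρ b - 1) = 0)
    (hschur : ∀ u : H, (∀ h, Commute (2 - (ρ u + ρ u⁻¹)) (ρ h)) →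
      2 - (ρ u + ρ u⁻¹) = 0 ∨ ∀ d, (2 - (ρ u + ρ u⁻¹)) * d = 0 → d = 0)
    {g : H} (hg : (orderOf g).Coprime p) : ρ g = 1 := by
  have htr : ∀ u h : H, Commute (ρ u + ρ u⁻¹) (ρ h) := fun u h => by
    obtain ⟨h1, h2⟩ := commute_trace_of_quadratic ha hb ρ (a := a) (b := b) (by simp) (by simp)
      (g := u) (hgen ▸ mem_top u)
    have hh : h ∈ Submonoid.closure ({a, b} : Set H) := by
      rw [← closure_toSubmonoid_of_finite, hgen]; exact mem_top h
    induction hh using Submonoid.closure_induction with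
    | mem x hx =>
      rcases hx with rfl | rfl
      · simpa using h1.add_right (Commute.one_right _)
      · simpa using h2.add_right (Commute.one_right _)
    | one => simp
    | mul x y _ _ k1 k2 => rw [map_mul]; exact k1.mul_right k2
  let f := ρ.toHomUnits.rangeRestrict
  have hf : Function.Surjective f := ρ.toHomUnits.rangeRestrict_surjective
  have hker : ∀ x y, f x = f y ↔ ρ x = ρ y := fun x y => by
    rw [Subtype.ext_iff, Units.ext_iff]; rfl
  have : Finite ρ.toHomUnits.range := Finite.of_surjective f hf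
  have hone : ∀ x, ρ x ^ p = 1 → f x ^ p ^ 1 = 1 := fun x hx => by
    rw [pow_one, ← map_pow, ← map_one f, hker, map_pow, hx, map_one]
  have hP : IsPGroup p ρ.toHomUnits.range := by
    refine isPGroup_of_conj hp2 (fun K hK => ?_) (of_surj hab f hf) fun x h hx hc => ?_
    · have h1 : closure ({a, b} : Set H) ≤ K.comap f := by
        rw [closure_le]
        rintro x (rfl | rfl)
        · exact hK _ ⟨1, hone _ (pow_prime_eq_one_of_sq_zero hR ha)⟩
        · exact hK _ ⟨1, hone _ (pow_prime_eq_one_of_sq_zero hR hb)⟩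
      rw [eq_top_iff]
      intro y _
      obtain ⟨x, rfl⟩ := hf y
      exact h1 (hgen ▸ mem_top x)
    · have hco := hc.inv_left.orderOf_mul_dvd_mul_orderOf
      rw [orderOf_inv, (show orderOf (h * x * h⁻¹) = orderOf x from
        (MulAut.conj h).orderOf_eq x)] at hco
      have hu := (hx.mul_left hx).coprime_dvd_left hco
      obtain ⟨x, rfl⟩ := hf x
      obtain ⟨h, rfl⟩ := hf h
      simp only [← map_inv, ← map_mul] at hc hu ⊢
      obtain ⟨y, hy⟩ : ∃ y, y = h * x * h⁻¹ := ⟨_, rfl⟩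
      rw [← hy] at hc hu ⊢
      have hc' : ρ x * ρ y = ρ y * ρ x := by
        rw [← map_mul, ← map_mul, ← hker, map_mul, map_mul]; exact hc
      have e0 : ∀ z, ρ z * ρ z⁻¹ = 1 := fun z => by rw [← map_mul, mul_inv_cancel, map_one]
      have e0' : ∀ z, ρ z⁻¹ * ρ z = 1 := fun z => by rw [← map_mul, inv_mul_cancel, map_one]
      have e1 : ρ y + ρ y⁻¹ = ρ x + ρ x⁻¹ := by
        rw [← mul_one (ρ x + ρ x⁻¹), ← e0 h, ← mul_assoc, (htr x h).eq, hy]
        simp only [mul_inv_rev, inv_inv, map_mul, mul_add, add_mul, mul_assoc]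
      have e2 : (ρ (x⁻¹ * y) - 1) * (ρ (x * y) - 1) = 0 := by
        have a1 : ρ (x⁻¹ * y) * ρ (x * y) = ρ y * ρ y := by
          rw [map_mul, map_mul, mul_assoc, ← mul_assoc (ρ y), ← hc', mul_assoc, ← mul_assoc,
            e0', one_mul]
        calc _ = ρ (x⁻¹ * y) * ρ (x * y) - (ρ x + ρ x⁻¹) * ρ y + 1 := by
              simp only [map_mul]; noncomm_ring
          _ = 0 := by rw [a1, ← e1, add_mul, e0']; noncomm_ring
      obtain ⟨u, hu'⟩ : ∃ u, u = x⁻¹ * y := ⟨_, rfl⟩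
      rw [← hu'] at hu e2
      have e3 : 2 - (ρ u + ρ u⁻¹) = (ρ u⁻¹ - 1) * (ρ u - 1) := by
        rw [sub_mul, mul_sub, mul_sub, e0', ← one_add_one_eq_two]; noncomm_ring
      rcases hschur u (fun k => (Commute.ofNat_left 2 _).sub_left (htr u k)) with h1 | h1
      · left
        have a1 : (ρ u - 1) * (ρ u - 1) = 0 := by
          calc _ = -(ρ u * ((ρ u⁻¹ - 1) * (ρ u - 1))) := by
                rw [← mul_assoc, mul_sub (ρ u), e0]; noncomm_ring
            _ = 0 := by rw [← e3, h1, mul_zero, neg_zero]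
        have a2 := hone u (pow_prime_eq_one_of_sq_zero hR a1)
        have a3 : f u = 1 := orderOf_eq_one_iff.1 (Nat.eq_one_of_dvd_coprimes hu dvd_rfl
          (by simpa using orderOf_dvd_of_pow_eq_one a2))
        rw [hu', map_mul, map_inv, inv_mul_eq_one] at a3
        exact a3.symm
      · right
        have a1 := h1 (ρ (x * y) - 1) (by rw [e3, mul_assoc, e2, mul_zero])
        rw [sub_eq_zero, ← map_one ρ, ← hker, map_mul, map_one] at a1
        rw [map_inv]
        exact eq_inv_of_mul_eq_one_right a1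
  obtain ⟨k, hk⟩ := hP (f g)
  rw [← map_one ρ, ← hker, map_one, ← orderOf_eq_one_iff]
  exact Nat.eq_one_of_dvd_coprimes (hg.pow_right k) (orderOf_map_dvd f g)
    (orderOf_dvd_of_pow_eq_one hk)

theorem rep_eq_one {p : ℕ} [hp : Fact p.Prime] (hp2 : p ≠ 2) {H : Type*} [Group H]
    [Finite H] {a b : H} (hgen : closure ({a, b} : Set H) = ⊤)
    (hab : DC H) {g : H}
    (hg : (orderOf g).Coprime p) {V : Type*} [AddCommGroup V] [Module (ZMod p) V] [Finite V]
    (ρ : Representation (ZMod p) H V) (ha : (ρ a - 1) * (ρ a - 1) = 0)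
    (hb : (ρ b - 1) * (ρ b - 1) = 0) : ρ g = 1 := by
  induction hn : Nat.card V using Nat.strong_induction_on generalizing V with
  | _ n ih =>
  have hR : (p : Module.End (ZMod p) V) = 0 := by
    rw [← map_natCast (algebraMap (ZMod p) (Module.End (ZMod p) V)), ZMod.natCast_self, map_zero]
  have sub : ∀ W : Submodule (ZMod p) V, W ≠ ⊤ → (∀ h, W ≤ W.comap (ρ h)) → ∀ w ∈ W, ρ g w = w := by
    intro W hW hinv w hw
    have h1 := ih (Nat.card W) (hn ▸ Finite.card_subtype_lt (x := (Classical.choose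
      (SetLike.exists_not_mem_of_ne_top W hW))) (Classical.choose_spec
        (SetLike.exists_not_mem_of_ne_top W hW))) (ρ.subrepresentation W hinv)
      (by
        ext v
        exact LinearMap.congr_fun ha v)
      (by
        ext v
        exact LinearMap.congr_fun hb v) rfl
    exact congrArg Subtype.val (LinearMap.congr_fun h1 ⟨w, hw⟩)
  by_contra hne
  refine hne (schur hp2 hR ρ hgen hab ha hb (fun u hc => ?_) hg)
  generalize 2 - (ρ u + ρ u⁻¹) = c at hc
  by_contra hcon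
  rw [not_or] at hcon
  have hni : ¬ Function.Injective c := fun h => hcon.2 fun d hd => by
    ext v
    exact h ((LinearMap.congr_fun hd v).trans (map_zero c).symm)
  have k1 := sub (LinearMap.ker c) (fun e => hcon.1 (LinearMap.ker_eq_top.1 e)) fun h v hv => by
    rw [Submodule.mem_comap, LinearMap.mem_ker]
    have := LinearMap.congr_fun (hc h).eq v
    simp only [Module.End.mul_apply] at this
    rw [this, LinearMap.mem_ker.1 hv, map_zero]
  have k2 := sub (LinearMap.range c) (fun e => hni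
    (Finite.injective_iff_surjective.2 (LinearMap.range_eq_top.1 e))) fun h => by
    rintro _ ⟨v, rfl⟩
    exact ⟨ρ h v, LinearMap.congr_fun (hc h).eq v⟩
  have k3 : (ρ g - 1) * (ρ g - 1) = 0 := by
    ext v
    have a1 : ρ g v - v ∈ LinearMap.ker c := by
      rw [LinearMap.mem_ker, map_sub, sub_eq_zero]
      exact (LinearMap.congr_fun (hc g).eq v).trans (k2 _ ⟨v, rfl⟩)
    simpa [sub_eq_zero] using k1 _ a1
  have k4 := pow_prime_eq_one_of_sq_zero hR k3
  refine hne (orderOf_eq_one_iff.1 (Nat.eq_one_of_dvd_coprimes hg (orderOf_map_dvd ρ g)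
    (orderOf_dvd_of_pow_eq_one k4)))

variable {G : Type*} [Group G]

open scoped IsMulCommutative in
theorem mem_cent_pair [Finite G] {p : ℕ} [hp : Fact p.Prime] (hp2 : p ≠ 2)
    {Y : Subgroup G} (hY : IsPGroup p Y) {a b : G}
    (hn : closure ({a, b} : Set G) ≤ normalizer (Y : Set G))
    (hab : DC G)
    (ha : ∀ y ∈ Y, ⁅a, ⁅a, y⁆⁆ = 1) (hb : ∀ y ∈ Y, ⁅b, ⁅b, y⁆⁆ = 1) {g : G}
    (hgE : g ∈ closure ({a, b} : Set G)) (hg : (orderOf g).Coprime p) :
    g ∈ centralizer (Y : Set G) := by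
  have := hY.isNilpotent
  have := H7.isMulCommutative_quotient_frattini (G := Y)
  let φ := (H7.quotAut (frattini Y)).comp (H1.conjAut hn)
  have he := H7.pow_eq_one_quotient_frattini hY
  have hq : ∀ c : closure ({a, b} : Set G), (∀ y ∈ Y, ⁅(c : G), ⁅(c : G), y⁆⁆ = 1) →
      (H1.autRep he φ c - 1) * (H1.autRep he φ c - 1) = 0 := fun c hc => by
    rw [← pow_two, H1.autRep_sub_one_pow_eq_zero_iff]
    intro v
    obtain ⟨y, rfl⟩ := QuotientGroup.mk_surjective v
    have h1 : (fun w => H1.conjAut hn c w * w⁻¹)^[2] y = 1 :=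
      Subtype.ext ((H1.coe_iterate_conjAut hn c 2 y).trans (hc y y.2))
    exact congrArg (QuotientGroup.mk (s := frattini Y)) h1
  have ham : a ∈ closure ({a, b} : Set G) := subset_closure (by simp)
  have hbm : b ∈ closure ({a, b} : Set G) := subset_closure (by simp)
  have h1 := rep_eq_one hp2 (a := (⟨a, ham⟩ : closure ({a, b} : Set G)))
    (b := ⟨b, hbm⟩) (by
      rw [← map_subtype_inj, MonoidHom.map_closure, Set.image_pair, ← MonoidHom.range_eq_map,
        range_subtype]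
      rfl)
    (sub hab _)
    (g := ⟨g, hgE⟩) (by rwa [← orderOf_coe]) (H1.autRep he φ) (hq _ ha) (hq _ hb)
  rw [H1.autRep_eq_one_iff] at h1
  have h2 := (H7.mem_ker_quotAut _ _).1 h1
  refine H1.le_centralizer_of_commutator_le_frattini (zpowers_le.2 (hn hgE))
    (H1.coprime_card_of_isPGroup hY (by rwa [Nat.card_zpowers])) ?_ (mem_zpowers g)
  refine H1.commutator_zpowers_le (H1.le_normalizer_frattiniOf hn hgE) fun y hy => ?_
  rw [← commutatorElement_inv]
  exact inv_mem ⟨_, h2 ⟨y, hy⟩, rfl⟩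

theorem quad [Finite G] {p : ℕ} [hp : Fact p.Prime] (hp2 : p ≠ 2)
    {M Y X : Subgroup G} (hY : IsPGroup p Y) (hMY : M ≤ normalizer (Y : Set G))
    (hab : DC G) (hXM : X ≤ M) (hq : ⁅⁅Y, X⁆, X⁆ = ⊥)
    {H : Type*} [Group H] [Finite H] (f : M →* H) (hf : Function.Surjective f)
    (hker : ∀ m : M, f m = 1 ↔ (m : G) ∈ centralizer (Y : Set G)) :
    (X.subgroupOf M).map f ≤ pCore p H := by
  rintro _ ⟨a, ha, rfl⟩
  refine L.baer_suzuki fun h => ?_
  obtain ⟨h, rfl⟩ := hf h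
  have hqa : ∀ y ∈ Y, ⁅(a : G), ⁅(a : G), y⁆⁆ = 1 := fun y hy => by
    rw [commutator_comm, commutator_comm Y] at hq
    exact mem_bot.1 (hq ▸ commutator_mem_commutator ha (commutator_mem_commutator ha hy))
  have hE : closure ({(a : G), h * a * (h : G)⁻¹} : Set G) ≤ M := by
    rw [closure_le]
    rintro _ (rfl | rfl)
    · exact a.2
    · exact (h * a * h⁻¹).2
  have key : ∀ g ∈ closure ({a, h * a * h⁻¹} : Set M), (orderOf g).Coprime p → f g = 1 := by
    intro g hg hgo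
    refine (hker g).2 (mem_cent_pair hp2 hY (hE.trans hMY)
      hab hqa (fun y hy => ?_) ?_ (by rwa [orderOf_coe]))
    · have := hqa _ (H1.conj_mem_of_le_normalizer' hMY h.2 hy)
      calc _ = h * ⁅(a : G), ⁅(a : G), (h : G)⁻¹ * y * h⁆⁆ * (h : G)⁻¹ := by
            simp only [commutatorElement_def]; group
        _ = 1 := by rw [this]; group
    · have := mem_map_of_mem M.subtype hg
      rwa [MonoidHom.map_closure, Set.image_pair] at this
  rw [← map_inv, ← map_mul, ← map_mul, ← Set.image_pair, ← MonoidHom.map_closure]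
  rintro ⟨_, g, hg, rfl⟩
  obtain ⟨u, v, hu, hv, e, -, ⟨k, hk⟩, c⟩ := H8.exists_pPart_pPrimePart hp.out g
  refine ⟨k, Subtype.ext ?_⟩
  change f g ^ p ^ k = 1
  rw [e, map_mul, key v (zpowers_le.2 hg hv) c, mul_one, ← map_pow, ← hk, pow_orderOf_eq_one,
    map_one]

theorem snIn_sup [Finite G] {p : ℕ} [hp : Fact p.Prime] (hp2 : p ≠ 2)
    {M Y X : Subgroup G} (hY : IsPGroup p Y) (hMY : M ≤ normalizer (Y : Set G))
    (hab : DC G) (hXM : X ≤ M) (hq : ⁅⁅Y, X⁆, X⁆ = ⊥) :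
    H2.SnIn M (X ⊔ M ⊓ centralizer (Y : Set G)) := by
  have hN := H1.normal_subgroupOf_of_le (H1.le_normalizer_inf le_normalizer
    (H1.le_normalizer_centralizer hMY))
  have h1 := quad hp2 hY hMY hab hXM hq
    (H1.qmk M (M ⊓ centralizer (Y : Set G))) H1.qmk_surjective
    (fun m => H1.qmk_eq_one_iff.trans ⟨fun h => h.2, fun h => ⟨m.2, h⟩⟩)
  have h2 := H2.isSubnormal_of_le_fittingSubgroup (h1.trans (L.pCore_le_fittingSubgroup hp.out))
  rw [← H1.unbar_bar inf_le_left hXM]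
  exact H2.snIn_map_subtype (h2.comap _)

theorem exists_data [Finite G] {p : ℕ} [hp : Fact p.Prime] (hp2 : p ≠ 2) {M₁ M₂ : Subgroup G}
    (hne : M₁ ≠ M₂)
    (hP₂ : ∀ A : Subgroup G, A ≠ ⊥ → A ≤ M₁ ⊓ M₂ → M₂ ≤ normalizer (A : Set G) →
      M₁ ⊓ normalizer (A : Set G) ≤ M₂)
    (hc₁ : M₁ ⊓ centralizer (pCoreOf p M₁ : Set G) ≤ pCoreOf p M₁)
    (hc₂ : M₂ ⊓ centralizer (pCoreOf p M₂ : Set G) ≤ pCoreOf p M₂)
    (hO₁ : pCoreOf p M₁ ≤ M₂) (hO₂ : pCoreOf p M₂ ≤ M₁)
    (hab : DC G) :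
    ∃ W : Subgroup G, W ≠ ⊥ ∧ W ≤ pCoreOf p M₁ ∧ W ≤ centralizer (W : Set G) ∧
      M₁ ≤ normalizer (W : Set G) ∧
      ∀ X ≤ pCoreOf p M₂, ⁅⁅W, X⁆, X⁆ = ⊥ → X ≤ pCoreOf p M₁ := by
  obtain ⟨V, h1, h2, h3, h4, -, h6⟩ := H2.exists_reduced (H2.isPGroup_pCoreOf p M₂)
    (H2.pCoreOf_ne_bot_of_pair hne.symm hc₂ hc₁ hO₁) (H2.le_normalizer_pCoreOf p M₂)
    (H2.pCoreOf_le p M₂)
  have hVc := H2.le_centralizer_of_comm h4.1
  have hVp := H2.isPGroup_of_elemAb h4
  have hVQ : V ≤ pCoreOf p M₁ := by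
    refine le_sup_left.trans ((snIn_sup hp2 (H2.isPGroup_pCoreOf p M₁)
      (H2.le_normalizer_pCoreOf p M₁) hab (h1.trans hO₂) (commutator_eq_bot_iff_le_centralizer.2
        ((le_normalizer_iff_commutator_le_right.1 (hO₁.trans h3)).trans hVc))).le_pCoreOf ?_)
    exact (IsPGroup.to_sup_of_normal_right' hVp (H2.isPGroup_pCoreOf p M₁)
      ((h1.trans hO₂).trans (H2.le_normalizer_pCoreOf p M₁))).to_le (sup_le_sup_left hc₁ _)
  have hconj : ∀ g ∈ M₁, MulAut.conj g • pCoreOf p M₁ = pCoreOf p M₁ := fun g hg =>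
    H2.mem_normalizer_iff_conj_smul.1 (H2.le_normalizer_pCoreOf p M₁ hg)
  have hWQ : H2.nclIn M₁ V ≤ pCoreOf p M₁ :=
    H2.nclIn_le_of_normal hVQ (H2.le_normalizer_pCoreOf p M₁)
  have hWV : H2.nclIn M₁ V ≤ centralizer (V : Set G) := H2.nclIn_le_iff.2 fun g hg => by
    have hN := H1.normal_subgroupOf_of_le (H1.le_normalizer_centralizer h3)
    have a0 : MulAut.conj g • V ≤ M₂ := ((H2.conj_le_nclIn V hg).trans hWQ).trans hO₁
    have a1 : V ≤ normalizer ((MulAut.conj g • V : Subgroup G) : Set G) := by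
      rw [H2.normalizer_conj_smul]
      exact (hVQ.trans (hconj g hg).ge).trans (H2.conj_smul_mono g (hO₁.trans h3))
    have a2 := quad hp2 hVp h3 hab a0
      (commutator_eq_bot_iff_le_centralizer.2 ((le_normalizer_iff_commutator_le_right.1 a1).trans
        (H2.le_centralizer_of_comm (H2.elemAb_conj_smul h4 g).1)))
      (H1.qmk M₂ (centralizer (V : Set G))) H1.qmk_surjective fun m => H1.qmk_eq_one_iff
    rw [H2.pCore_eq_bot_of_irreducible hVp h2 h3 h6 _ H1.qmk_surjective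
      fun m => H1.qmk_eq_one_iff, le_bot_iff] at a2
    exact (H1.bar_eq_bot_iff a0).1 a2
  have hMW := H2.le_normalizer_nclIn M₁ V
  refine ⟨H2.nclIn M₁ V, fun e => h2 (eq_bot_iff.2 (e ▸ H2.le_nclIn M₁ V)), hWQ, ?_, hMW,
    fun X hX hq => ?_⟩
  · refine H2.nclIn_le_iff.2 fun g hg => ?_
    rw [le_centralizer_iff, H2.centralizer_conj_smul,
      ← H2.mem_normalizer_iff_conj_smul.1 (hMW hg)]
    exact H2.conj_smul_mono g hWV
  · have a1 := snIn_sup hp2 ((H2.isPGroup_pCoreOf p M₁).to_le hWQ) hMW hab (hX.trans hO₂) hq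
    set K := M₁ ⊓ centralizer ((H2.nclIn M₁ V : Subgroup G) : Set G) with hK
    have a2 : K ≤ M₂ := le_trans (inf_le_inf_left _ (H1.le_normalizer_of_le_centralizer
      (centralizer_le (SetLike.coe_subset_coe.2 (H2.le_nclIn M₁ V)))))
      (hP₂ V h2 (h1.trans (le_inf hO₂ (H2.pCoreOf_le p M₂))) h3)
    have a3 : K ≤ normalizer (pCoreOf p M₂ : Set G) := a2.trans (H2.le_normalizer_pCoreOf p M₂)
    have a4 : M₁ ≤ normalizer (K : Set G) :=
      H1.le_normalizer_inf le_normalizer (H1.le_normalizer_centralizer hMW)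
    have a5 : X ⊔ K ≤ normalizer ((X ⊔ K ⊓ pCoreOf p M₂ : Subgroup G) : Set G) :=
      sup_le (le_sup_left.trans le_normalizer) (H2.le_normalizer_sup_of_commutator_le
        (H1.le_normalizer_inf le_normalizer a3) (le_trans (le_inf
          (le_normalizer_iff_commutator_le_right.1 ((hX.trans hO₂).trans a4))
          ((commutator_mono hX le_rfl).trans (le_normalizer_iff_commutator_le_left.1 a3)))
          le_sup_right))
    exact le_sup_left.trans (((H2.SnIn.of_normal (sup_le_sup_left inf_le_left _) a5).trans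
      a1).le_pCoreOf ((H2.isPGroup_pCoreOf p M₂).to_le (sup_le hX inf_le_right)))

end PS

theorem psStmt : PSStmt.{u} := fun X _ _ h p hp hp2 Y _ hY A hA => by
  haveI := Fact.mk hp
  have := PS.quad hp2 (M := ⊤) hY (le_top.trans (normalizer_eq_top Y).ge) h le_top hA
    ((QuotientGroup.mk' (centralizer (Y : Set X))).comp (⊤ : Subgroup X).subtype)
    ((QuotientGroup.mk'_surjective _).comp fun x => ⟨⟨x, mem_top x⟩, rfl⟩)
    (fun m => QuotientGroup.eq_one_iff _)
  rwa [← map_map, subgroupOf_map_subtype, inf_top_eq] at this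

theorem btStmt : BTStmt.{u} := fun G _ _ _ h M₁ M₂ h₁ h₂ k₁ k₂ p hp hp2 hO => by
  by_contra hne
  have hP : ∀ A : Subgroup G, A ≠ ⊥ → A ≤ M₁ ⊓ M₂ →
      (M₁ ≤ normalizer (A : Set G) → M₂ ⊓ normalizer (A : Set G) = M₁ ⊓ M₂) ∧
      (M₂ ≤ normalizer (A : Set G) → M₁ ⊓ normalizer (A : Set G) = M₁ ⊓ M₂) :=
    fun A a b => ⟨fun c => by rw [P5.Mx.norm_eq h₁ a (b.trans inf_le_left) c, inf_comm],
      fun c => by rw [P5.Mx.norm_eq h₂ a (b.trans inf_le_right) c]⟩
  obtain ⟨r, hr, c1, c2, c3⟩ := S3752.result M₁ M₂ hne hP k₁ k₂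
  have hc₁ := centralizer_map_subtype_le_iff.1 c1
  have hc₂ := centralizer_map_subtype_le_iff.1 c2
  have hO₁ : pCoreOf r M₁ ≤ M₂ := le_sup_left.trans (c3.trans inf_le_right)
  have hO₂ : pCoreOf r M₂ ≤ M₁ := le_sup_right.trans (c3.trans inf_le_left)
  obtain rfl : r = p := by
    by_contra hn
    haveI := Fact.mk hr
    haveI := Fact.mk hp
    refine hO (eq_bot_iff.2 (le_trans (le_inf le_rfl ((le_inf (pCoreOf_le p M₁)
      (P5.Mx.pCoreOf_le_cent hp hr (Ne.symm hn) M₁)).trans hc₁)) ?_))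
    exact (IsPGroup.disjoint_of_ne p r (Ne.symm hn) _ _ (isPGroup_pCoreOf p M₁)
      (isPGroup_pCoreOf r M₁)).le_bot
  haveI := Fact.mk hr
  obtain ⟨W₁, a1, a2, a3, a4, a5⟩ := PS.exists_data hp2 hne
    (fun A k1 k2 k3 => ((hP A k1 k2).2 k3).le.trans inf_le_right) hc₁ hc₂ hO₁ hO₂ h
  obtain ⟨W₂, b1, b2, b3, b4, b5⟩ := PS.exists_data hp2 (Ne.symm hne)
    (fun A k1 k2 k3 => ((hP A k1 (inf_comm M₂ M₁ ▸ k2)).1 k3).le.trans inf_le_left) hc₂ hc₁
    hO₂ hO₁ h
  have := S3753.main (p := r) (M := fun b => cond b M₁ M₂) (W := fun b => cond b W₁ W₂)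
    (by rintro (_ | _) <;> assumption) (by rintro (_ | _) <;> assumption)
    (by rintro (_ | _) <;> assumption) (by rintro (_ | _) <;> assumption)
    (by rintro (_ | _) <;> assumption)
  have a6 : nclIn (M₁ ⊔ M₂) W₁ ≠ ⊥ := fun e => a1 (eq_bot_iff.2 (e ▸ le_nclIn _ _))
  exact hne ((P5.Mx.norm_eq h₁ a6 (this.trans inf_le_left)
    (le_sup_left.trans (le_normalizer_nclIn _ _))).symm.trans (P5.Mx.norm_eq h₂ a6
      (this.trans inf_le_right) (le_sup_right.trans (le_normalizer_nclIn _ _))))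

end Cfsg.Agent.P15
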