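/-
P15, chapter A: four-groups in groups with cyclic or dihedral `2`-subgroups.
-/
import Cfsg.Agent.P15.PS
import Cfsg.Agent.P5.Max3
import Cfsg.Agent.P5.Loc

set_option autoImplicit false
set_option linter.unusedSectionVars false

namespace Cfsg.Agent.P15.PA

open Subgroup Cfsg Cfsg.Agent Cfsg.Agent.FT H2 P5 P5.Mx
open scoped commutatorElement Pointwise

universe u

variable {G : Type u} [Group G] [Finite G] {t s : G}

theorem vcomm (v : V4 t s) {a b : G} (ha : a ∈ VV t s) (hb : b ∈ VV t s) : Commute a b := by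
  have h := inv_eq_of_mul_eq_one_right (v.sq (mul_mem ha hb))
  rw [mul_inv_rev, inv_eq_of_mul_eq_one_right (v.sq ha), inv_eq_of_mul_eq_one_right (v.sq hb)] at h
  exact h.symm

theorem vle (v : V4 t s) {a : G} (ha : a ∈ VV t s) : VV t s ≤ 𝐂[a] :=
  fun _ hb => mem_cent1.2 (vcomm v hb ha)

theorem vab (v : V4 t s) : IsMulCommutative (VV t s) :=
  ⟨⟨fun a b => Subtype.ext (vcomm v a.2 b.2).eq⟩⟩

theorem vsolv (v : V4 t s) : Group.IsSolvable (VV t s) :=
  H1.isSolvable_of_isMulCommutative (vab v)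

theorem vnc (v : V4 t s) : ¬ IsCyclic (VV t s) := by
  intro h
  obtain ⟨g, hg⟩ := IsCyclic.exists_ofOrder_eq_natCard (α := VV t s)
  have : orderOf g ∣ 2 := orderOf_dvd_of_pow_eq_one (Subtype.ext (by
    simpa [pow_two] using v.sq g.2))
  rw [hg, v.card] at this
  omega

theorem vcop (v : V4 t s) {W : Subgroup G} (hW : Odd 𝐨(W)) : (𝐨(VV t s)).Coprime 𝐨(W) := by
  rw [v.card]
  exact (Nat.coprime_two_left.2 hW).pow_left 2

theorem vex (v : V4 t s) {z : G} (hz : z ∈ VV t s) (z1 : z ≠ 1) : ∃ w ∈ VV t s, V4 z w := by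
  rcases v.mem_iff.1 hz with rfl | rfl | rfl | rfl
  · exact absurd rfl z1
  · exact ⟨s, V4.s_mem, v⟩
  · exact ⟨t, V4.t_mem, v.swap⟩
  · exact ⟨s, V4.s_mem, v.rot.swap⟩

/-- There is no elementary abelian subgroup of order eight. -/
theorem mem_of_comm (h : DC G) (v : V4 t s) {z : G} (zz : z * z = 1) (h1 : Commute z t)
    (h2 : Commute z s) : z ∈ VV t s := by
  have : Fact (Nat.Prime 2) := ⟨Nat.prime_two⟩
  have hz : zpowers z ≤ 𝐂(VV t s) := zpowers_le.2 (H1.mem_centralizer_iff_le.2 (V4.le_iff.2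
    ⟨mem_cent1.2 h1.symm, mem_cent1.2 h2.symm⟩))
  have hp : IsPGroup 2 (zpowers z) := isPGroup_zpowers_of_pow_eq_one (k := 1) (by simpa [pow_two])
  obtain ⟨c, hc, hh⟩ := h _ (hp.to_sup_of_normal_right' v.isPGroup
    (hz.trans (centralizer_le_normalizer _)))
  obtain ⟨a, ha, b, hb, rfl⟩ :=
    (H1.mem_sup_iff_of_le_normalizer (hz.trans (centralizer_le_normalizer _))).1 hc
  have two : ∀ {x y : G}, x * x = 1 → y ∈ zpowers x → y = 1 ∨ y = x := by
    intro x y xx hy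
    obtain ⟨k, rfl⟩ := mem_zpowers_iff.1 hy
    have e : x ^ (2 : ℤ) = 1 := by rw [zpow_two, xx]
    rcases Int.even_or_odd' k with ⟨j, rfl | rfl⟩
    · left; rw [zpow_mul, e, one_zpow]
    · right; rw [zpow_add, zpow_mul, e, one_zpow, one_mul, zpow_one]
  by_contra hn
  have aa : a * a = 1 := by rcases two zz ha with rfl | rfl <;> simp [zz]
  have cab : Commute a b := (mem_centralizer_iff.1 (hz ha) b hb).symm
  have cc : a * b * (a * b) = 1 := by
    rw [mul_assoc, ← mul_assoc b, ← cab.eq, mul_assoc a b b, v.sq hb, mul_one, aa]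
  have mz : z ∈ zpowers z ⊔ VV t s := mem_sup_left (mem_zpowers z)
  have mt : t ∈ zpowers z ⊔ VV t s := mem_sup_right V4.t_mem
  have ms : s ∈ zpowers z ⊔ VV t s := mem_sup_right V4.s_mem
  generalize a * b = c at hh cc
  -- two of `t, s, t s` lie outside `⟨c⟩`, so `c ∈ V`
  have key : ∀ x y : G, x ∈ VV t s → y ∈ VV t s → x ∉ zpowers c → y ∉ zpowers c → x ≠ y →
      False := by
    intro x y hx hy x1 y1 xy
    have e1 := (hh x (mem_sup_right hx) x1).2.2 y (mem_sup_right hy) y1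
    have cV : c ∈ VV t s := by
      rcases two cc e1 with e | e
      · exact absurd (by rw [eq_inv_of_mul_eq_one_left e, inv_eq_of_mul_eq_one_right (v.sq hy)]) xy
      · exact e ▸ mul_mem hx hy
    have z1 : z ∉ zpowers c := fun e => hn (zpowers_le.2 cV e)
    have e2 := zpowers_le.2 cV ((hh x (mem_sup_right hx) x1).2.2 z mz z1)
    exact hn ((mul_mem_cancel_left hx).1 e2)
  have ts := mul_mem (V4.t_mem (t := t) (s := s)) V4.s_mem
  by_cases e1 : t ∈ zpowers c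
  · have e : t = c := (two cc e1).resolve_left v.t1
    subst e
    refine key s (t * s) V4.s_mem ts (fun e => ?_) (fun e => ?_) v.ts_ne_s.symm
    · exact (two cc e).elim v.s1 fun e => v.ts e.symm
    · exact (two cc e).elim v.ts1 v.ts_ne_t
  by_cases e2 : s ∈ zpowers c
  · have e : s = c := (two cc e2).resolve_left v.s1
    subst e
    exact key t (t * s) V4.t_mem ts e1 (fun e => (two cc e).elim v.ts1 v.ts_ne_s) v.ts_ne_t.symm
  exact key t s V4.t_mem V4.s_mem e1 e2 v.ts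

/-- A normal subgroup of even order of an overgroup of `V` meets `V`. -/
theorem exists_mem_of_even (h : DC G) (v : V4 t s) {X K : Subgroup G} (hV : VV t s ≤ X)
    (hK : K ≤ X) (hn : X ≤ 𝐍(K)) (he : ¬ Odd 𝐨(K)) : ∃ z ∈ VV t s, z ≠ 1 ∧ z ∈ K := by
  have : Fact (Nat.Prime 2) := ⟨Nat.prime_two⟩
  obtain ⟨T, a1, a2, a3, a4⟩ := H1.exists_sylow_of_le hV v.isPGroup
  have b1 := not_dvd_relIndex_inf a4 a2 hK (a2.trans hn)
  have b2 : T ⊓ K ≠ ⊥ := fun e => by
    rw [e, relIndex_bot_left] at b1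
    exact b1 (even_iff_two_dvd.1 (Nat.not_odd_iff_even.1 he))
  have := a3.isNilpotent
  have b3 := L.inf_centralizer_ne_bot_of_isNilpotent (N := T ⊓ K) (K := T) inf_le_left
    (H1.le_normalizer_inf le_normalizer (a2.trans hn)) b2
  obtain ⟨k, hk⟩ := IsPGroup.iff_card.1
    (a3.to_le (inf_le_left.trans inf_le_left : T ⊓ K ⊓ 𝐂(T) ≤ T))
  have b4 : 2 ∣ 𝐨((T ⊓ K ⊓ 𝐂(T) : Subgroup G)) := by
    rcases k with _ | k
    · exact absurd (card_eq_one.1 (by simpa using hk)) b3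
    · exact hk ▸ dvd_pow_self 2 k.succ_ne_zero
  obtain ⟨z, hz⟩ := exists_prime_orderOf_dvd_card' 2 b4
  have z2 : orderOf (z : G) = 2 := by rw [orderOf_coe, hz]
  have zz : (z : G) * z = 1 := by rw [← pow_two, ← z2, pow_orderOf_eq_one]
  refine ⟨z, mem_of_comm h v zz (mem_centralizer_iff.1 z.2.2 t (a1 V4.t_mem)).symm
    (mem_centralizer_iff.1 z.2.2 s (a1 V4.s_mem)).symm, fun e => ?_, z.2.1.2⟩
  rw [e, orderOf_one] at z2
  exact absurd z2 (by decide)

theorem layer_even {X : Subgroup G} (h : layerOf X ≠ ⊥) : ¬ Odd 𝐨(layerOf X) := fun ho =>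
  (H1.commutator_lt_of_isSolvable (Mx.isSolvable_of_odd ho) h).ne (commutator_layerOf X)

/-- The `ZL`-factorization of an overgroup of `V`. -/
theorem le_sup_norm_zl (h : DC G)
    (ps : ∀ (X : Type u) [Group X] [Finite X], DC X → ∀ p : ℕ, p.Prime → p ≠ 2 → PStab p X)
    (v : V4 t s) {p : ℕ} (hp : p.Prime) (hp2 : p ≠ 2) {N S : Subgroup G} (hVN : VV t s ≤ N)
    (hnc : ∀ z ∈ VV t s, z ≠ 1 → ¬ pCoreOf p N ≤ 𝐂[z]) (hSN : S ≤ N) (hS : IsPGroup p S)
    (hSi : ¬ p ∣ S.relIndex N) :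
    Odd 𝐨(pPrimeCoreOf p N) ∧ N ≤ pPrimeCoreOf p N ⊔ (N ⊓ 𝐍(zl S)) := by
  haveI := Fact.mk hp
  have hKo : Odd 𝐨(pPrimeCoreOf p N) := by
    by_contra he
    obtain ⟨z, hz, z1, zK⟩ := exists_mem_of_even h v hVN (pPrimeCoreOf_le p N)
      (le_normalizer_pPrimeCoreOf p N) he
    exact hnc z hz z1 (zpowers_le_cent_iff.1
      ((zpowers_le.2 zK).trans (pPrimeCoreOf_le_centralizer_pCoreOf hp N)))
  refine ⟨hKo, ?_⟩
  obtain ⟨K, hKd⟩ : ∃ K, K = pPrimeCoreOf p N := ⟨_, rfl⟩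
  rw [← hKd] at hKo
  have hKN : K ≤ N := hKd ▸ pPrimeCoreOf_le p N
  have hKc : (Nat.card K).Coprime p := hKd ▸ coprime_card_pPrimeCoreOf p N
  have hNK : N ≤ 𝐍(K) := hKd ▸ le_normalizer_pPrimeCoreOf p N
  haveI := H1.normal_subgroupOf_of_le hNK
  have hd : DC (N ⧸ K.subgroupOf N) := PS.of_surj (PS.sub h N) (H1.qmk N K) H1.qmk_surjective
  have hSK : S ⊓ K = ⊥ := H1.inf_eq_bot_of_coprime' (H1.coprime_card_of_isPGroup hS hKc).symm
  have hE : layerOf (⊤ : Subgroup (N ⧸ K.subgroupOf N)) = ⊥ := by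
    by_contra hE
    have ne : ∀ z : N, (z : G) ∈ VV t s → (z : G) ≠ 1 → H1.qmk N K z ≠ 1 := fun z hz z1 e => by
      have e1 := H1.inf_eq_bot_of_coprime' (vcop v hKo)
      exact z1 (mem_bot.1 (e1 ▸ mem_inf.2 ⟨hz, (H1.qmk_eq_one_iff (y := z)).1 e⟩))
    have v' := (v.subtype (hVN V4.t_mem) (hVN V4.s_mem)).map (H1.qmk N K) (ne _ V4.t_mem v.t1)
      (ne _ V4.s_mem v.s1) (ne _ (mul_mem V4.t_mem V4.s_mem) v.ts1)
    obtain ⟨z', hz', z1, zE⟩ := exists_mem_of_even hd v' le_top (layerOf_le _)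
      (le_normalizer_layerOf _) (layer_even hE)
    obtain ⟨z, hz, rfl⟩ : ∃ z : N, (z : G) ∈ VV t s ∧ H1.qmk N K z = z' := by
      rcases v'.mem_iff.1 hz' with rfl | rfl | rfl | rfl
      · exact absurd rfl z1
      · exact ⟨_, V4.t_mem, rfl⟩
      · exact ⟨_, V4.s_mem, rfl⟩
      · exact ⟨_ * _, mul_mem V4.t_mem V4.s_mem, map_mul _ _ _⟩
    haveI := H1.bar_normal (Y := N) (N := K) (le_normalizer_pCoreOf p N)
    have a1 := (zpowers_le.2 zE).trans
      (layerOf_le_centralizer_of_isSolvable (L := H1.bar N K (pCoreOf p N))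
        (SnIn.of_normal le_top (normalizer_eq_top _).ge)
        (H1.isSolvable_bar (H1.isSolvable_of_isPGroup (isPGroup_pCoreOf p N))))
    rw [← H1.bar_zpowers, H1.bar_le_centralizer_iff (zpowers_le.2 z.2) (pCoreOf_le p N),
      commutator_comm] at a1
    refine hnc z hz (fun e => z1 (by rw [show z = 1 from Subtype.ext e, map_one]))
      (comm_eq_bot_iff.1 (eq_bot_iff.2 ?_))
    rw [← H1.inf_eq_bot_of_coprime' (H1.coprime_card_of_isPGroup (isPGroup_pCoreOf p N) hKc).symm]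
    exact le_inf (H1.commutator_le_of_le_normalizer
      ((zpowers_le.2 z.2).trans (le_normalizer_pCoreOf p N))) a1
  have h0 : pPrimeCoreOf p (⊤ : Subgroup (N ⧸ K.subgroupOf N)) = ⊥ := by
    rw [← H1.bar_top, FT.pPrimeCoreOf_bar hp hKN le_rfl hKc, ← hKd, H1.bar_self]
  have hF : fittingOf (⊤ : Subgroup (N ⧸ K.subgroupOf N)) = pCore p _ := by
    rw [← pCoreOf_top]
    refine le_antisymm ?_ (pCoreOf_le_fittingOf hp _)
    have := fittingOf_le_sup hp (⊤ : Subgroup (N ⧸ K.subgroupOf N))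
    rwa [h0, sup_bot_eq] at this
  have hc := inf_centralizer_fittingOf_le_of_layerOf_eq_bot hE
  rw [hF, top_inf_eq] at hc
  have hS' : IsPGroup p (S.subgroupOf N) := hS.comap_subtype
  have hk : (H1.qmk N K).ker ⊓ S.subgroupOf N = ⊥ := by
    rw [QuotientGroup.ker_mk', eq_bot_iff]
    exact fun y hy => mem_bot.2 (Subtype.ext (mem_bot.1 (hSK ▸ mem_inf.2 ⟨hy.2, hy.1⟩)))
  have hn := (ps _ hd p hp hp2).zl_normal hc (hS'.map (H1.qmk N K))
    (fun h => hSi (h.trans (index_map_dvd _ H1.qmk_surjective)))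
  rw [zl_map hk] at hn
  have h3 := H5.normalizer_map_mk'_le (K.subgroupOf N) (by rwa [card_subgroupOf_of_le hKN])
    (hS'.to_le (zl_le _))
  rw [normalizer_eq_top] at h3
  intro u hu
  obtain ⟨n, hn1, hn2⟩ := h3 (mem_top (H1.qmk N K ⟨u, hu⟩))
  have hzl : (zl (S.subgroupOf N)).map N.subtype = zl S := by
    rw [← zl_map (ker_inf_eq_bot_of_injective N.subtype_injective _),
      subgroupOf_map_subtype, inf_of_le_left hSN]
  have e : u = u * (n : G)⁻¹ * n := by group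
  rw [e, ← hKd]
  refine mul_mem (mem_sup_left ?_) (mem_sup_right (mem_inf.2 ⟨n.2, ?_⟩))
  · refine (H1.qmk_eq_one_iff (Y := N) (N := K) (y := ⟨u, hu⟩ * n⁻¹)).1 ?_
    rw [map_mul, map_inv, ← hn2, mul_inv_cancel]
  · rw [← hzl]
    exact le_normalizer_map N.subtype (mem_map_of_mem _ hn1)

end Cfsg.Agent.P15.PA
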