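/-
P15, part A, first half: the maximal subgroup `M` has characteristic `p` (port of P5/Max2).
-/
import Cfsg.Agent.P15.Defs

set_option autoImplicit false
set_option linter.unusedSectionVars false
set_option linter.style.haveILetI false

namespace Cfsg.Agent.P15

open Cfsg Subgroup H2 P5 P5.Mx
open scoped commutatorElement Pointwise

local notation:max "𝐂[" t "]" => Subgroup.centralizer (Singleton.singleton t : Set _)
local notation:max "𝐂(" X ")" => Subgroup.centralizer (SetLike.coe X)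
local notation:max "𝐍(" X ")" => Subgroup.normalizer (SetLike.coe X)
local notation:max "𝐎(" X ")" => H2.pPrimeCoreOf 2 X

universe u

variable {G : Type u} [Group G]

/-- `V` is a four-group. -/
structure F4 (V : Subgroup G) : Prop where
  card : Nat.card V = 4
  sq : ∀ v ∈ V, v * v = 1

theorem F4.of_v4 {t s : G} (h : V4 t s) : F4 (VV t s) := ⟨h.card, fun _ hv => h.sq hv⟩

namespace F4

variable {V : Subgroup G} (hV : F4 V)
include hV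

theorem inv_eq {v : G} (hv : v ∈ V) : v⁻¹ = v := inv_eq_of_mul_eq_one_right (hV.sq v hv)

theorem comm {a b : G} (ha : a ∈ V) (hb : b ∈ V) : Commute a b := by
  have h := hV.inv_eq (mul_mem ha hb)
  rw [mul_inv_rev, hV.inv_eq ha, hV.inv_eq hb] at h
  exact h.symm

theorem le_cent : V ≤ 𝐂(V) := fun _ ha => mem_centralizer_iff.2 fun _ hb => (hV.comm hb ha).eq

theorem le_cent1 {t : G} (ht : t ∈ V) : V ≤ 𝐂[t] := fun _ ha => mem_cent1.2 (hV.comm ha ht)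

theorem isMulCommutative : IsMulCommutative V :=
  ⟨⟨fun a b => Subtype.ext (hV.comm a.2 b.2).eq⟩⟩

theorem isPGroup : IsPGroup 2 V := IsPGroup.of_card (n := 2) (by rw [hV.card]; rfl)

theorem not_isCyclic : ¬ IsCyclic V := by
  intro h
  obtain ⟨g, hg⟩ := IsCyclic.exists_ofOrder_eq_natCard (α := V)
  have : orderOf g ∣ 2 := orderOf_dvd_of_pow_eq_one (Subtype.ext (by
    simpa [pow_two] using hV.sq g g.2))
  rw [hg, hV.card] at this
  omega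

theorem coprime {W : Subgroup G} (hW : Odd (Nat.card W)) :
    (Nat.card V).Coprime (Nat.card W) := by
  rw [hV.card]
  exact (Nat.coprime_two_left.2 hW).pow_left 2

theorem mem_cases {t s : G} (ht : t ∈ V) (hs : s ∈ V) (ht1 : t ≠ 1) (hs1 : s ≠ 1) (hts : t ≠ s)
    {v : G} (hv : v ∈ V) : v = 1 ∨ v = t ∨ v = s ∨ v = t * s := by
  classical
  by_contra hcon
  push Not at hcon
  obtain ⟨h1, h2, h3, h4⟩ := hcon
  have e1 : t * s ≠ 1 := fun e => hts (by rw [eq_inv_of_mul_eq_one_left e, hV.inv_eq hs])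
  have e2 : t * s ≠ t := fun e => hs1 (by simpa using e)
  have e3 : t * s ≠ s := fun e => ht1 (by simpa using e)
  have hfin : (V : Set G).Finite := Set.finite_coe_iff.1
    (Nat.finite_of_card_ne_zero (by rw [show Nat.card (V : Set G) = 4 from hV.card]; omega))
  have hsub : (({1, t, s, t * s, v} : Finset G) : Set G) ⊆ V := by
    intro y hy
    simp only [Finset.coe_insert, Finset.coe_singleton, Set.mem_insert_iff,
      Set.mem_singleton_iff] at hy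
    rcases hy with rfl | rfl | rfl | rfl | rfl
    exacts [one_mem V, ht, hs, mul_mem ht hs, hv]
  have hle := Set.ncard_le_ncard hsub hfin
  rw [Set.ncard_coe_finset, show (V : Set G).ncard = 4 from hV.card] at hle
  rw [Finset.card_insert_of_notMem (by simp [ht1.symm, hs1.symm, e1.symm, h1.symm]),
    Finset.card_insert_of_notMem (by simp [hts, e2.symm, h2.symm]),
    Finset.card_insert_of_notMem (by simp [e3.symm, h3.symm]),
    Finset.card_insert_of_notMem (by simp [h4.symm]), Finset.card_singleton] at hle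
  omega

theorem le_of_mem {t s : G} (ht : t ∈ V) (hs : s ∈ V) (ht1 : t ≠ 1) (hs1 : s ≠ 1) (hts : t ≠ s)
    {X : Subgroup G} (h1 : t ∈ X) (h2 : s ∈ X) : V ≤ X := fun v hv => by
  rcases hV.mem_cases ht hs ht1 hs1 hts hv with rfl | rfl | rfl | rfl
  exacts [one_mem X, h1, h2, mul_mem h1 h2]

theorem mul_ne_one {t s : G} (hs : s ∈ V) (hts : t ≠ s) : t * s ≠ 1 := fun e =>
  hts (by rw [eq_inv_of_mul_eq_one_left e, hV.inv_eq hs])

theorem exists_ne (t : G) : ∃ s ∈ V, s ≠ 1 ∧ s ≠ t := by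
  by_contra hcon
  push Not at hcon
  have hsub : (V : Set G) ⊆ {1, t} := fun v hv => by
    by_cases h : v = 1
    · exact Or.inl h
    · exact Or.inr (hcon v hv h)
  have := Set.ncard_le_ncard hsub (Set.toFinite _)
  rw [show (V : Set G).ncard = 4 from hV.card] at this
  have h2 := Set.ncard_insert_le (1 : G) {t}
  rw [Set.ncard_singleton] at h2
  omega

theorem conj_mem {g : G} (hg : g ∈ 𝐍(V)) {v : G} (hv : v ∈ V) : g * v * g⁻¹ ∈ V :=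
  (mem_normalizer_iff.1 hg v).1 hv

theorem v4 {t s : G} (ht : t ∈ V) (hs : s ∈ V) (ht1 : t ≠ 1) (hs1 : s ≠ 1) (hts : t ≠ s) :
    V4 t s := ⟨ht1, hs1, hts, hV.sq t ht, hV.sq s hs, hV.comm ht hs⟩

variable [Finite G]

/-- An involution centralizing `V` lies in `V`. -/
theorem mem_of_cent (dc : DC G) {z : G} (zz : z * z = 1) (hz : z ∈ 𝐂(V)) : z ∈ V := by
  by_contra hn
  obtain ⟨t, ht, t1, -⟩ := hV.exists_ne 1
  obtain ⟨s, hs, s1, st⟩ := hV.exists_ne t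
  have hc : zpowers z ≤ 𝐂(V) := zpowers_le.2 hz
  obtain ⟨c, -, h⟩ := dc (zpowers z ⊔ V) (IsPGroup.to_sup_of_normal_right'
    (isPGroup_zpowers_of_sq zz) hV.isPGroup (hc.trans (centralizer_le_normalizer _)))
  have key : ∀ a ∈ zpowers c, ∀ b ∈ zpowers c, ¬ V4 a b := fun a ha b hb v =>
    (F4.of_v4 v).not_isCyclic (Subgroup.isCyclic_of_le (V4.le_iff.2 ⟨ha, hb⟩))
  have z1 : z ≠ 1 := fun e => hn (e ▸ one_mem V)
  have cz : ∀ v ∈ V, Commute v z := fun v hv => mem_centralizer_iff.1 hz v hv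
  have vz : ∀ v ∈ V, v ≠ 1 → V4 v z := fun v hv v1 =>
    ⟨v1, z1, fun e => hn (e ▸ hv), hV.sq v hv, zz, cz v hv⟩
  have mz : z ∈ zpowers z ⊔ V := mem_sup_left (mem_zpowers z)
  have k : ∀ {a b : G}, a ∈ zpowers z ⊔ V → b ∈ zpowers z ⊔ V → a ∉ zpowers c → b ∉ zpowers c →
      a * b ∈ zpowers c := fun ha hb na nb => (h _ ha na).2.2 _ hb nb
  obtain ⟨v, hv, v1, vc⟩ : ∃ v ∈ V, v ≠ 1 ∧ v ∈ zpowers c := by
    by_cases h1 : t ∈ zpowers c
    · exact ⟨t, ht, t1, h1⟩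
    by_cases h2 : s ∈ zpowers c
    · exact ⟨s, hs, s1, h2⟩
    exact ⟨_, mul_mem ht hs, hV.mul_ne_one hs st.symm, k (mem_sup_right ht) (mem_sup_right hs) h1 h2⟩
  by_cases h3 : z ∈ zpowers c
  · exact key v vc z h3 (vz v hv v1)
  obtain ⟨w, hw, w1, wv⟩ := hV.exists_ne v
  by_cases h4 : w ∈ zpowers c
  · exact key v vc w h4 (hV.v4 hv hw v1 w1 wv.symm)
  refine key v vc _ (k (mem_sup_right hw) mz h4 h3) ⟨v1, (vz w hw w1).ts1, fun e => hn ?_,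
    hV.sq v hv, (vz w hw w1).tsts, (hV.comm hv hw).mul_right (cz v hv)⟩
  exact (mul_mem_cancel_left hw).1 (e ▸ hv)

theorem exists_mem (dc : DC G) {N : Subgroup G} (hN : IsPGroup 2 N) (hn : V ≤ 𝐍(N)) (h1 : N ≠ ⊥) :
    ∃ v ∈ V, v ≠ 1 ∧ v ∈ N := by
  haveI := (IsPGroup.to_sup_of_normal_right' hV.isPGroup hN hn).isNilpotent
  have h2 := L.inf_centralizer_ne_bot_of_isNilpotent (le_sup_right : N ≤ V ⊔ N)
    (sup_le hn le_normalizer) h1
  obtain ⟨k, hk⟩ := IsPGroup.iff_card.1 (hN.to_le (inf_le_left : N ⊓ 𝐂(V ⊔ N) ≤ N))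
  obtain ⟨z, hz⟩ := exists_prime_orderOf_dvd_card' (G := (N ⊓ 𝐂(V ⊔ N) : Subgroup G)) 2 (by
    rw [hk]
    exact dvd_pow_self 2 fun e => h2 (card_eq_one.1 (by rw [hk, e, pow_zero])))
  rw [← orderOf_coe] at hz
  exact ⟨z, hV.mem_of_cent dc (by rw [← pow_two, ← hz, pow_orderOf_eq_one])
    (centralizer_anti le_sup_left z.2.2), fun e => by simp [e] at hz, z.2.1⟩

/-- A nontrivial layer of an overgroup of `V` contains an involution of `V`. -/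
theorem exists_mem_layer (dc : DC G) {R : Subgroup G} (hR : V ≤ R) (h : layerOf R ≠ ⊥) :
    ∃ v ∈ V, v ≠ 1 ∧ v ∈ layerOf R := by
  obtain ⟨S, hS, hVS⟩ := FT.exists_isSyl_ge Nat.prime_two hV.isPGroup hR
  have h1 := hS.inf_normal Nat.prime_two ⟨layerOf_le R, le_normalizer_layerOf R⟩
  obtain ⟨v, hv, v1, h2⟩ := hV.exists_mem dc h1.pgrp (H1.le_normalizer_inf
    (hVS.trans le_normalizer) (hR.trans (le_normalizer_layerOf R))) (h1.ne_bot Nat.prime_two (by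
      by_contra h3
      exact (H1.commutator_lt_of_isSolvable (Mx.isSolvable_of_odd (Nat.not_even_iff_odd.1
        (mt even_iff_two_dvd.1 h3))) h).ne (commutator_layerOf R)))
  exact ⟨v, hv, v1, h2.2⟩

theorem cfg_conj {t : G} {p : ℕ} {T M : Subgroup G} [IsSimpleGroup G] (c : MCfg V t p T M) {g : G}
    (hg : g ∈ 𝐍(V)) : MCfg V (g * t * g⁻¹) p (MulAut.conj g • T) (MulAut.conj g • M) where
  tV := hV.conj_mem hg c.tV
  t1 := fun e => c.t1 (by simpa using e)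
  pp := c.pp
  p2 := c.p2
  pT := c.pT.map _
  T1 := fun e => c.T1 (by rw [← conj_smul_inj (g := g), e, smul_bot])
  Tt := by rw [← conj_smul_zpowers, ← conj_smul_commutator, c.Tt]
  CT := by rw [← conj_smul_cent1, normalizer_conj_smul]; exact conj_smul_mono g c.CT
  NT := by rw [normalizer_conj_smul]; exact conj_smul_mono g c.NT
  co := isCoatom_conj_smul c.co g

end F4

variable [Finite G]

/-- The full form of the fact `D1`. -/
theorem D1.le_pCoreOf {X : Subgroup G} (h : D1 X) {t s : G} (hV : V4 t s) (ht : t ∈ X) (hs : s ∈ X)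
    {p : ℕ} (hp : p.Prime) (hp2 : p ≠ 2) {Q : Subgroup G} (hQX : Q ≤ X) (hQ : IsPGroup p Q)
    (hQt : ⁅Q, zpowers t⁆ = Q) (hn : X ⊓ 𝐂[t] ≤ 𝐍(Q)) : Q ≤ pCoreOf p X :=
  (le_pCoreOf_of_odd hp hV.tt (odd_O X) (le_normalizer_pPrimeCoreOf 2 X ht)
    (h t s hV ht hs p hp hp2 Q hQX hQ hQt hn) hQ hQt
    ((inf_le_inf_right _ (pPrimeCoreOf_le 2 X)).trans hn)).trans
    (((snIn_pCoreOf p _).trans (snIn_pPrimeCoreOf 2 X)).le_pCoreOf (isPGroup_pCoreOf p _))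

/-- The hypotheses of section A. -/
structure AH (V : Subgroup G) (p : ℕ) : Prop where
  gf : GF G
  k4 : F4 V
  cfg : ∀ t ∈ V, t ≠ 1 → ∃ T M, MCfg V t p T M

namespace AH

variable [IsSimpleGroup G] {V : Subgroup G} {p : ℕ} (h : AH V p)
include h

theorem eq_of_fitting {M₁ M₂ : Subgroup G} (h₁ : IsCoatom M₁) (h₂ : IsCoatom M₂)
    (e₁ : layerOf M₁ = ⊥) (e₂ : layerOf M₂ = ⊥) (k₁ : fittingOf M₁ ≤ M₂)
    (k₂ : fittingOf M₂ ≤ M₁) (hp : p.Prime) (p2 : p ≠ 2) (h0 : pCoreOf p M₂ ≠ ⊥) : M₁ = M₂ :=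
  (h.gf.bt _ _ h₂ h₁ (by rwa [fstarOf_eq, e₂, bot_sup_eq]) (by rwa [fstarOf_eq, e₁, bot_sup_eq])
    p hp p2 h0).symm

theorem eq_of_two {M R : Subgroup G} (hM : IsCoatom M) (hR : IsCoatom R) (eM : layerOf M = ⊥)
    (eR : layerOf R = ⊥) (h2 : Two M) (hF : fittingOf R ≤ M) (hZ : ZF M ≤ R)
    (hp : p.Prime) (p2 : p ≠ 2) (hO : pCoreOf p M ≠ ⊥) : R = M := by
  have key : ∀ r : ℕ, r.Prime → pCoreOf r M ≠ ⊥ → pCoreOf r R ≠ ⊥ := by
    intro r hr h1 h0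
    haveI := Fact.mk hr
    have hZR : Zr r M ≤ R := (Zr_le_ZF hr M).trans hZ
    have a1 := fittingOf_le_sup hr R
    rw [h0, bot_sup_eq] at a1
    have a2 : Zr r M ≤ 𝐂(fittingOf R) := le_cent_of_le le_rfl a1
      (hZR.trans (le_normalizer_pPrimeCoreOf r R)) (hF.trans (le_norm_Zr r M))
      (H1.coprime_card_of_isPGroup (isPGroup_Zr r M) (coprime_card_pPrimeCoreOf r R)).symm
    exact Zr_ne_bot hr h1 (eq_bot_iff.2 (h0 ▸ le_pCoreOf_of_le_fittingOf (isPGroup_Zr r M)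
      ((le_inf hZR a2).trans (inf_centralizer_fittingOf_le_of_layerOf_eq_bot eR))))
  refine h.eq_of_fitting hR hM eR eM hF (fittingOf_le_of fun r hr => ?_) hp p2 hO
  by_cases h0 : pCoreOf r M = ⊥
  · exact h0 ▸ bot_le
  obtain ⟨q, hq, hne, hq1⟩ := h2 r hr
  exact pCoreOf_le_of_two hr hq hne hR (isPGroup_pCoreOf r R) (key r hr h0) (pCoreOf_le r R)
    (le_normalizer_pCoreOf r R) ((pCoreOf_le_fittingOf hr R).trans hF) (isPGroup_pCoreOf q R)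
    (key q hq hq1) (pCoreOf_le q R) (le_normalizer_pCoreOf q R)
    ((pCoreOf_le_fittingOf hq R).trans hF)

section

variable {t : G} {T M : Subgroup G} (c : MCfg V t p T M)
include c

theorem tt : t * t = 1 := h.k4.sq t c.tV

theorem VT : V ≤ 𝐍(T) := (h.k4.le_cent1 c.tV).trans c.CT

theorem VM : V ≤ M := (h.VT c).trans c.NT

theorem CVM : 𝐂(V) ≤ M := fun _ hg => c.CM (mem_cent1.2 (mem_centralizer_iff.1 hg t c.tV).symm)

theorem comm_le {X : Subgroup G} (hX : V ≤ X) : ⁅T ⊓ X, zpowers t⁆ ≤ T ⊓ X :=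
  H1.commutator_le_of_le_normalizer ((zpowers_le.2 c.tV).trans
    (H1.le_normalizer_inf (h.VT c) (hX.trans le_normalizer)))

theorem comm_comm {X : Subgroup G} (hX : V ≤ X) :
    ⁅⁅T ⊓ X, zpowers t⁆, zpowers t⁆ = ⁅T ⊓ X, zpowers t⁆ :=
  H1.commutator_commutator_eq ((zpowers_le.2 c.tV).trans
    (H1.le_normalizer_inf (h.VT c) (hX.trans le_normalizer)))
    (coprime_zpowers (h.tt c) (odd_of_le inf_le_left c.oddT))

theorem comm_norm (X : Subgroup G) : X ⊓ 𝐂[t] ≤ 𝐍(⁅T ⊓ X, zpowers t⁆) :=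
  H1.le_normalizer_commutator (H1.le_normalizer_inf (inf_le_right.trans c.CT)
    (inf_le_left.trans le_normalizer)) (inf_le_right.trans (cent1_le_norm_zpowers t))

theorem d1 {X : Subgroup G} (hX1 : X ≠ ⊤) (hX : V ≤ X) : ⁅T ⊓ X, zpowers t⁆ ≤ pCoreOf p X := by
  obtain ⟨s, hs, s1, st⟩ := h.k4.exists_ne t
  exact (h.gf.d1 X hX1).le_pCoreOf (h.k4.v4 c.tV hs c.t1 s1 st.symm) (hX c.tV) (hX hs) c.pp c.p2
    ((h.comm_le c hX).trans inf_le_right) (c.pT.to_le ((h.comm_le c hX).trans inf_le_left))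
    (h.comm_comm c hX) (h.comm_norm c X)

theorem T_le {X : Subgroup G} (hX1 : X ≠ ⊤) (hX : V ≤ X) (hT : T ≤ X) : T ≤ pCoreOf p X := by
  have := h.d1 c hX1 hX
  rwa [inf_of_le_left hT, c.Tt] at this

theorem TO : T ≤ pCoreOf p M := h.T_le c c.co.1 (h.VM c) c.TM

theorem TF : T ≤ fittingOf M := (h.TO c).trans (pCoreOf_le_fittingOf c.pp M)

theorem Op_ne_bot : pCoreOf p M ≠ ⊥ := fun e => c.T1 (eq_bot_iff.2 (e ▸ h.TO c))

omit c in
/-- Lemma E. -/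
theorem layer_bot {R : Subgroup G} (hR : IsCoatom R) (hV : V ≤ R) (h0 : pCoreOf p R ≠ ⊥) :
    layerOf R = ⊥ := by
  by_contra hne
  obtain ⟨t, ht, t1, hE⟩ := h.k4.exists_mem_layer h.gf.dc hV hne
  obtain ⟨T, M, c⟩ := h.cfg t ht t1
  haveI := Fact.mk c.pp
  have h1 : pCoreOf p R ≤ 𝐂[t] := zpowers_le_cent_iff.1 ((zpowers_le.2 hE).trans
    ((layerOf_le_centralizer_fittingOf R).trans (centralizer_anti (pCoreOf_le_fittingOf c.pp R))))
  have h2 := comm_eq_bot_iff.2 ((h.d1 c hR.1 hV).trans h1)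
  rw [h.comm_comm c hV, comm_eq_bot_iff] at h2
  exact c.not_le (zpowers_le_cent_iff.1 (H1.pxq_lemma (isPGroup_pCoreOf p R) c.pT (h1.trans c.CT)
    ((zpowers_le.2 c.tV).trans (h.VT c)) (h1.trans (cent_zpowers t).ge)
    (coprime_zpowers (h.tt c) c.oddT) (((inf_le_inf_left _ ((centralizer_le_normalizer _).trans
      (norm_eq hR h0 (pCoreOf_le p R) (le_normalizer_pCoreOf p R)).le)).trans h2).trans
        (cent_zpowers t).ge)))

theorem lay : layerOf M = ⊥ := h.layer_bot c.co (h.VM c) (h.Op_ne_bot c)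

/-- If a subgroup of `T ⊓ R` is not centralized by `t` then `R` has no components. -/
theorem layerOf_eq_bot {R W : Subgroup G} (hR1 : IsCoatom R) (hR : V ≤ R) (hW : W ≤ T ⊓ R)
    (hn : ¬ W ≤ 𝐂[t]) : layerOf R = ⊥ :=
  h.layer_bot hR1 hR fun e =>
    hn (hW.trans (comm_eq_bot_iff.1 (eq_bot_iff.2 (e ▸ h.d1 c hR1.1 hR))))

variable (h2 : Two M)
include h2

theorem norm_le {X : Subgroup G} (hX1 : X ≠ ⊥) (hX : X ≤ ZF M) (hV : V ≤ 𝐍(X)) : 𝐍(X) ≤ M := by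
  obtain ⟨R, hR, hN⟩ := exists_coatom_norm c.co.1 hX1 (hX.trans (ZF_le M))
  have hF : fittingOf M ≤ R := (le_centralizer_iff.1 (hX.trans inf_le_right)).trans
    ((centralizer_le_normalizer _).trans hN)
  have hVR := hV.trans hN
  have hTR := (h.TF c).trans hF
  have hE := h.layerOf_eq_bot c hR hVR (le_inf le_rfl hTR) c.not_le
  refine hN.trans (h.eq_of_fitting hR c.co hE (h.lay c) (fittingOf_le_of fun r hr => ?_) hF
    c.pp c.p2 (h.Op_ne_bot c)).le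
  by_cases e : r = p
  · rw [e]
    exact h2.pCoreOf_le c.co (inf_le_left.trans hF) c.pp (h.Op_ne_bot c)
  · exact (pCoreOf_le_cent hr c.pp e R).trans ((centralizer_anti (h.T_le c hR.1 hVR hTR)).trans
      ((centralizer_le_normalizer _).trans c.NT))

omit h2 in
theorem ZF_le_of {Y R : Subgroup G} (hY : Y ≤ pCoreOf p M) (hR : 𝐍(Y) ≤ R) : ZF M ≤ R :=
  (ZF_le_cent (hY.trans (pCoreOf_le_fittingOf c.pp M))).trans
    ((centralizer_le_normalizer _).trans hR)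

omit h2 in
theorem inf_eq_bot {Y R : Subgroup G} (hY : Y ≤ pCoreOf p M) (hR : 𝐍(Y) ≤ R) {q : ℕ}
    (hq : q.Prime) (h0 : pCoreOf q M = ⊥) : pCoreOf q R ⊓ M = ⊥ := by
  haveI := Fact.mk c.pp
  have hQ : IsPGroup q (pCoreOf q R ⊓ M : Subgroup G) := (isPGroup_pCoreOf q R).to_le inf_le_left
  have key : ∀ r : ℕ, r.Prime → r ≠ q → ∀ A, A ≤ pCoreOf r M → A ≤ R →
      A ≤ 𝐂(pCoreOf q R ⊓ M) := fun r hr hne A a1 a2 =>
    le_cent_of_le a1 inf_le_left (a2.trans (le_normalizer_pCoreOf q R))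
      (inf_le_right.trans (le_normalizer_pCoreOf r M))
      (coprime_of_primes hr hq hne (isPGroup_pCoreOf r M) (isPGroup_pCoreOf q R))
  have hCR : 𝐂(Y) ≤ R := (centralizer_le_normalizer _).trans hR
  have h1 : pCoreOf q R ⊓ M ≤ 𝐂(fittingOf M) := by
    refine le_cent_fittingOf fun r hr => ?_
    by_cases e : r = q
    · rw [e, h0, coe_bot]
      exact fun q _ => mem_cent1.2 (Commute.one_right q)
    by_cases e' : r = p
    · subst e'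
      exact H1.pxq_lemma ((isPGroup_pCoreOf r M).to_le hY) (isPGroup_pCoreOf r M)
        (hY.trans le_normalizer) (inf_le_right.trans (le_normalizer_pCoreOf r M))
        (key r hr e Y hY (le_normalizer.trans hR))
        (coprime_of_primes hq hr (Ne.symm e) hQ (isPGroup_pCoreOf r M))
        (key r hr e _ inf_le_left (inf_le_right.trans hCR))
    · exact le_centralizer_iff.1 (key r hr e _ le_rfl ((pCoreOf_le_cent hr c.pp e' M).trans
        ((centralizer_anti hY).trans hCR)))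
  exact eq_bot_iff.2 (h0 ▸ le_pCoreOf_of_le_fittingOf hQ
    ((le_inf inf_le_right h1).trans
      (inf_centralizer_fittingOf_le_of_layerOf_eq_bot (h.lay c))))

theorem eq_of {Y R : Subgroup G} (hY : Y ≤ pCoreOf p M) (hR : 𝐍(Y) ≤ R) (hRc : IsCoatom R)
    (hE : layerOf R = ⊥) (h0 : ∀ q : ℕ, q.Prime → pCoreOf q M = ⊥ → pCoreOf q R = ⊥) : R = M := by
  refine h.eq_of_two c.co hRc (h.lay c) hE h2 (fittingOf_le_of fun r hr => ?_)
    (h.ZF_le_of c hY hR) c.pp c.p2 (h.Op_ne_bot c)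
  by_cases e : pCoreOf r M = ⊥
  · exact h0 r hr e ▸ bot_le
  · exact h2.pCoreOf_le c.co (h.ZF_le_of c hY hR) hr e

omit h2 in
/-- A subgroup normalized by `t` and meeting `M` trivially is inverted by `t`. -/
theorem inverts {Q : Subgroup G} (hQ : t ∈ 𝐍(Q)) (h0 : Q ⊓ M = ⊥) :
    ∀ a ∈ Q, t * a * t = a⁻¹ :=
  L.inverts_of_fpf (h.tt c) hQ fun _ ha hc =>
    mem_bot.1 (h0 ▸ mem_inf.2 ⟨ha, c.CM (mem_cent1.2 hc.symm)⟩)

/-- If `[Z(F(M)), s]` centralizes a nontrivial subgroup meeting `M` trivially then `s`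
centralizes `Z(F(M))`. -/
theorem ZF_le_cent1 {Q : Subgroup G} (hQ1 : Q ≠ ⊥) (h0 : Q ⊓ M = ⊥) {s : G} (hs : s ∈ V)
    (hc : ⁅ZF M, zpowers s⁆ ≤ 𝐂(Q)) : ZF M ≤ 𝐂[s] := by
  by_contra hn
  have hVZ : V ≤ 𝐍(ZF M) := (h.VM c).trans (le_norm_ZF M)
  have h1 := h.norm_le c h2 (fun e => hn (comm_eq_bot_iff.1 e))
    (H1.commutator_le_of_le_normalizer ((zpowers_le.2 hs).trans hVZ))
    (H1.le_normalizer_commutator hVZ ((h.k4.le_cent1 hs).trans (cent1_le_norm_zpowers s)))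
  exact hQ1 (h0 ▸ (inf_of_le_left ((le_centralizer_iff.1 hc).trans
    ((centralizer_le_normalizer _).trans h1))).symm)

end

variable {t₁ t₂ t₃ : G} {T₁ T₂ T₃ M₁ M₂ M₃ : Subgroup G}

/-- Centers of Fitting subgroups of two different configurations inside `C(V)` commute. -/
theorem ZF_comm (c₁ : MCfg V t₁ p T₁ M₁) (c₂ : MCfg V t₂ p T₂ M₂) (k₁ : Two M₁)
    (k₂ : Two M₂) (hne : M₁ ≠ M₂) (z₁ : ZF M₁ ≤ 𝐂(V)) (z₂ : ZF M₂ ≤ 𝐂(V)) :
    ZF M₁ ≤ 𝐂(ZF M₂) := by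
  have a1 : ZF M₁ ≤ 𝐍(ZF M₂) := (z₁.trans (h.CVM c₂)).trans (le_norm_ZF M₂)
  have a2 : ZF M₂ ≤ 𝐍(ZF M₁) := (z₂.trans (h.CVM c₁)).trans (le_norm_ZF M₁)
  have a3 : ZF M₁ ⊓ ZF M₂ = ⊥ := by
    by_contra h0
    have hV : V ≤ 𝐍(ZF M₁ ⊓ ZF M₂) := H1.le_normalizer_inf ((h.VM c₁).trans (le_norm_ZF M₁))
      ((h.VM c₂).trans (le_norm_ZF M₂))
    have b1 := h.norm_le c₁ k₁ h0 inf_le_left hV
    have b2 := h.norm_le c₂ k₂ h0 inf_le_right hV
    refine hne (h.eq_of_fitting c₁.co c₂.co (h.lay c₁) (h.lay c₂) ?_ ?_ c₁.pp c₁.p2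
      (h.Op_ne_bot c₂))
    · exact (le_centralizer_iff.1 (inf_le_left.trans inf_le_right)).trans
        ((centralizer_le_normalizer _).trans b2)
    · exact (le_centralizer_iff.1 (inf_le_right.trans inf_le_right)).trans
        ((centralizer_le_normalizer _).trans b1)
  rw [← commutator_eq_bot_iff_le_centralizer, eq_bot_iff, ← a3]
  exact le_inf (H1.commutator_le_of_le_normalizer a2)
    (by rw [commutator_comm]; exact H1.commutator_le_of_le_normalizer a1)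

/-- The centers of the Fitting subgroups do not all centralize `V`. -/
theorem false_of_ZF (c₁ : MCfg V t₁ p T₁ M₁) (c₂ : MCfg V t₂ p T₂ M₂)
    (c₃ : MCfg V t₃ p T₃ M₃) (k₁ : Two M₁) (k₂ : Two M₂) (k₃ : Two M₃) (e : t₃ = t₁ * t₂)
    (n12 : M₁ ≠ M₂) (n23 : M₂ ≠ M₃)
    (π₂ : ∀ q : ℕ, pCoreOf q M₁ = ⊥ ↔ pCoreOf q M₂ = ⊥)
    (π₃ : ∀ q : ℕ, pCoreOf q M₁ = ⊥ ↔ pCoreOf q M₃ = ⊥)
    (z₂ : ZF M₂ ≤ 𝐂(V)) (z₃ : ZF M₃ ≤ 𝐂(V)) : False := by
  haveI := Fact.mk c₁.pp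
  have hp := c₁.pp
  have a1 : Zr p M₂ ≤ 𝐂(Zr p M₃) := ((Zr_le_ZF hp M₂).trans
    (h.ZF_comm c₂ c₃ k₂ k₃ n23 z₂ z₃)).trans (centralizer_anti (Zr_le_ZF hp M₃))
  have hA : IsPGroup p (Zr p M₂ ⊔ Zr p M₃ : Subgroup G) :=
    IsPGroup.to_sup_of_normal_right' (isPGroup_Zr p M₂) (isPGroup_Zr p M₃)
      (a1.trans (centralizer_le_normalizer _))
  have hAC : Zr p M₂ ⊔ Zr p M₃ ≤ 𝐂[t₁] := (sup_le ((Zr_le_ZF hp M₂).trans z₂)
    ((Zr_le_ZF hp M₃).trans z₃)).trans fun g hg =>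
      mem_cent1.2 (mem_centralizer_iff.1 hg t₁ c₁.tV).symm
  have hZ : ∀ {t T M}, MCfg V t p T M → 𝐂(Zr p M) ≤ M := fun c =>
    (centralizer_le_normalizer _).trans (norm_eq c.co (Zr_ne_bot hp (h.Op_ne_bot c)) (Zr_le _ _)
      (le_norm_Zr _ _)).le
  have hn : ¬ T₁ ⊓ (M₂ ⊓ M₃) ≤ 𝐂[t₁] := fun hc => c₁.not_le (zpowers_le_cent_iff.1
    (H1.pxq_lemma hA c₁.pT (hAC.trans c₁.CT) ((zpowers_le.2 c₁.tV).trans (h.VT c₁))
      (hAC.trans (cent_zpowers t₁).ge) (coprime_zpowers (h.tt c₁) c₁.oddT)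
      ((inf_le_inf_left _ (le_inf ((centralizer_anti le_sup_left).trans (hZ c₂))
        ((centralizer_anti le_sup_right).trans (hZ c₃)))).trans (hc.trans (cent_zpowers t₁).ge))))
  have hV23 : V ≤ M₂ ⊓ M₃ := le_inf (h.VM c₂) (h.VM c₃)
  obtain ⟨W, hW⟩ : ∃ W, W = ⁅T₁ ⊓ (M₂ ⊓ M₃), zpowers t₁⁆ := ⟨_, rfl⟩
  have hW0 : W ≠ ⊥ := fun e => hn (comm_eq_bot_iff.1 (hW ▸ e))
  have hWT : W ≤ T₁ := hW ▸ (h.comm_le c₁ hV23).trans inf_le_left
  have w1 : W ≤ pCoreOf p M₁ := hWT.trans (h.TO c₁)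
  have w2 : W ≤ pCoreOf p M₂ := hW ▸ (commutator_mono (inf_le_inf_left _ inf_le_left)
    le_rfl).trans (h.d1 c₁ c₂.co.1 (h.VM c₂))
  have w3 : W ≤ pCoreOf p M₃ := hW ▸ (commutator_mono (inf_le_inf_left _ inf_le_right)
    le_rfl).trans (h.d1 c₁ c₃.co.1 (h.VM c₃))
  obtain ⟨R, hR, hN⟩ := exists_coatom_norm c₁.co.1 hW0 (hWT.trans c₁.TM)
  have hVR : V ≤ R := ((le_inf hV23 (h.k4.le_cent1 c₁.tV)).trans
    (hW ▸ h.comm_norm c₁ (M₂ ⊓ M₃))).trans hN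
  have hE := h.layerOf_eq_bot c₁ hR hVR (le_inf hWT (le_normalizer.trans hN))
    (not_le_cent1 hW0 (hW ▸ h.comm_comm c₁ hV23))
  have h0 : ∀ q : ℕ, q.Prime → pCoreOf q M₁ = ⊥ → pCoreOf q R = ⊥ := by
    intro q hq hq0
    have hVQ := hVR.trans (le_normalizer_pCoreOf q R)
    have b1 := h.inverts c₁ (hVQ c₁.tV) (h.inf_eq_bot c₁ w1 hN hq hq0)
    have b2 := h.inverts c₂ (hVQ c₂.tV) (h.inf_eq_bot c₂ w2 hN hq ((π₂ q).1 hq0))
    rw [← h.inf_eq_bot c₃ w3 hN hq ((π₃ q).1 hq0)]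
    refine (inf_of_le_left fun a ha => c₃.CM (mem_cent1.2 ?_)).symm
    rw [e]
    exact (commute_mul_of_inverts (h.tt c₁) (b1 a ha) (b2 a ha) (h.tt c₂)).symm
  exact n12 ((h.eq_of c₁ k₁ w1 hN hR hE h0).symm.trans
    (h.eq_of c₂ k₂ w2 hN hR hE fun q hq e => h0 q hq ((π₂ q).2 e)))

theorem ZF_le_cent_V (c₁ : MCfg V t₁ p T₁ M₁) (c₂ : MCfg V t₂ p T₂ M₂)
    (k₁ : Two M₁) (k₂ : Two M₂) (n : t₁ ≠ t₂) (n12 : M₁ ≠ M₂)
    (π₂ : ∀ q : ℕ, pCoreOf q M₁ = ⊥ ↔ pCoreOf q M₂ = ⊥) (hy : ¬ T₁ ⊓ 𝐂[t₂] ≤ 𝐂[t₁]) :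
    ZF M₁ ≤ 𝐂(V) := by
  haveI := Fact.mk c₁.pp
  have hp := c₁.pp
  -- an element `y` of `T₁` inverted by `t₁` and centralized by `t₂`
  obtain ⟨y, hy1, hyT, hy2, hyi⟩ : ∃ y, y ≠ 1 ∧ y ∈ T₁ ∧ y ∈ 𝐂[t₂] ∧ t₁ * y * t₁ = y⁻¹ := by
    obtain ⟨a, ha, hna⟩ := SetLike.not_le_iff_exists.1 hy
    obtain ⟨b, -, y, hy, e1, e2, rfl⟩ := exists_cent_mul_inv (odd_of_le inf_le_left c₁.oddT)
      (h.tt c₁) (H1.le_normalizer_inf (h.VT c₁) ((h.k4.le_cent1 c₂.tV).trans le_normalizer)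
        c₁.tV) ha
    exact ⟨y, fun e => hna (by rw [e, mul_one]; exact mem_cent1.2 e1), hy.1, hy.2, e2⟩
  have hyp : IsPGroup p (zpowers y) := c₁.pT.to_le (zpowers_le.2 hyT)
  have hn : ¬ T₂ ⊓ 𝐂(zpowers y) ≤ 𝐂[t₂] := fun hc => c₂.not_le (zpowers_le_cent_iff.1
    (H1.pxq_lemma hyp c₂.pT ((zpowers_le.2 hy2).trans c₂.CT) ((zpowers_le.2 c₂.tV).trans (h.VT c₂))
      ((zpowers_le.2 hy2).trans (cent_zpowers t₂).ge) (coprime_zpowers (h.tt c₂) c₂.oddT)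
      (hc.trans (cent_zpowers t₂).ge)))
  obtain ⟨R, hR, hN⟩ := exists_coatom_norm c₁.co.1 (fun e => hy1 (zpowers_eq_bot.1 e))
    ((zpowers_le.2 hyT).trans c₁.TM)
  have hVR : V ≤ R := by
    refine (h.k4.le_of_mem c₁.tV c₂.tV c₁.t1 c₂.t1 n ?_ ?_).trans hN
    · refine mem_normalizer_of_conj_smul_le ?_
      rw [conj_smul_zpowers, h.k4.inv_eq c₁.tV, hyi, zpowers_inv]
    · exact centralizer_le_normalizer _ ((cent_zpowers y).ge (mem_cent1.2 (mem_cent1.1 hy2).symm))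
  have a1 : pCoreOf p R ≤ M₁ := k₁.pCoreOf_le c₁.co
    (h.ZF_le_of c₁ ((zpowers_le.2 hyT).trans (h.TO c₁)) hN) hp (h.Op_ne_bot c₁)
  obtain ⟨Y, hY⟩ : ∃ Y, Y = ⁅T₂ ⊓ M₁, zpowers t₂⁆ := ⟨_, rfl⟩
  have hY0 : Y ≠ ⊥ := by
    intro e
    have b1 : ⁅T₂ ⊓ R, zpowers t₂⁆ ≤ T₂ ⊓ M₁ :=
      le_inf ((h.comm_le c₂ hVR).trans inf_le_left) ((h.d1 c₂ hR.1 hVR).trans a1)
    have b2 := commutator_mono b1 (le_refl (zpowers t₂))
    rw [h.comm_comm c₂ hVR, ← hY, e, le_bot_iff, comm_eq_bot_iff] at b2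
    exact hn ((inf_le_inf_left _ ((centralizer_le_normalizer _).trans hN)).trans b2)
  have hYT : Y ≤ T₂ := hY ▸ (h.comm_le c₂ (h.VM c₁)).trans inf_le_left
  have y1 : Y ≤ pCoreOf p M₁ := hY ▸ h.d1 c₂ c₁.co.1 (h.VM c₁)
  have y2 : Y ≤ pCoreOf p M₂ := hYT.trans (h.TO c₂)
  obtain ⟨R', hR', hN'⟩ := exists_coatom_norm c₂.co.1 hY0 (hYT.trans c₂.TM)
  have hVR' : V ≤ R' := ((le_inf (h.VM c₁) (h.k4.le_cent1 c₂.tV)).trans
    (hY ▸ h.comm_norm c₂ M₁)).trans hN'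
  have hE := h.layerOf_eq_bot c₂ hR' hVR' (le_inf hYT (le_normalizer.trans hN'))
    (not_le_cent1 hY0 (hY ▸ h.comm_comm c₂ (h.VM c₁)))
  obtain ⟨q, hq, hq0, hq1⟩ : ∃ q : ℕ, q.Prime ∧ pCoreOf q M₁ = ⊥ ∧ pCoreOf q R' ≠ ⊥ := by
    by_contra hcon
    push Not at hcon
    exact n12 ((h.eq_of c₁ k₁ y1 hN' hR' hE hcon).symm.trans
      (h.eq_of c₂ k₂ y2 hN' hR' hE fun q hq e => hcon q hq ((π₂ q).2 e)))
  have hVQ := hVR'.trans (le_normalizer_pCoreOf q R')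
  have q1 := h.inf_eq_bot c₁ y1 hN' hq hq0
  have b1 := h.inverts c₁ (hVQ c₁.tV) q1
  have b2 := h.inverts c₂ (hVQ c₂.tV) (h.inf_eq_bot c₂ y2 hN' hq ((π₂ q).1 hq0))
  have hZQ := (h.ZF_le_of c₁ y1 hN').trans (le_normalizer_pCoreOf q R')
  have d1 := h.ZF_le_cent1 c₁ k₁ hq1 q1 c₁.tV
    (comm_le_cent_of_inverts (h.tt c₁) (hVQ c₁.tV) b1 hZQ)
  have d2 := h.ZF_le_cent1 c₁ k₁ hq1 q1 (mul_mem c₁.tV c₂.tV) (by
    have : zpowers (t₁ * t₂) ≤ 𝐂(pCoreOf q R') := zpowers_le.2 (mem_centralizer_iff.2 fun a ha =>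
      (commute_mul_of_inverts (h.tt c₁) (b1 a ha) (b2 a ha) (h.tt c₂)).symm.eq)
    refine (commutator_mono le_rfl this).trans ?_
    rw [commutator_comm]
    exact H1.commutator_le_of_le_normalizer (H1.le_normalizer_centralizer hZQ))
  rw [le_centralizer_iff]
  exact h.k4.le_of_mem c₁.tV (mul_mem c₁.tV c₂.tV) c₁.t1 (h.k4.mul_ne_one c₂.tV n)
    (fun e => c₂.t1 (by simpa using e)) (zpowers_le_cent_iff.2 d1 (mem_zpowers _))
    (zpowers_le_cent_iff.2 d2 (mem_zpowers _))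

theorem exists_not_le {t : G} {T M : Subgroup G} (c : MCfg V t p T M) :
    ∃ s ∈ V, s ≠ 1 ∧ s ≠ t ∧ ¬ T ⊓ 𝐂[s] ≤ 𝐂[t] := by
  by_contra hcon
  push Not at hcon
  refine c.not_le (H1.le_of_forall_centralizer_le h.k4.isMulCommutative h.k4.not_isCyclic
    (h.VT c) (h.k4.coprime c.oddT) fun s hs hs1 => ?_)
  by_cases e : s = t
  · exact e ▸ inf_le_right
  · exact hcon s hs hs1 e

theorem not_two {t : G} {T M : Subgroup G} (c : MCfg V t p T M) (nc : M ⊓ 𝐍(V) ≤ 𝐂[t])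
    (tr : ∀ s ∈ V, s ≠ 1 → ∃ g ∈ 𝐍(V), g * t * g⁻¹ = s) : ¬ Two M := by
  intro k
  obtain ⟨s, hs, hs1, hst, hy⟩ := h.exists_not_le c
  have hπ : ∀ (g : G) (q : ℕ), pCoreOf q M = ⊥ ↔ pCoreOf q (MulAut.conj g • M) = ⊥ := by
    intro g q
    rw [← conj_smul_pCoreOf, ← conj_smul_inj (g := g), smul_bot]
  have hk : ∀ g : G, Two (MulAut.conj g • M) := fun g r hr =>
    (k r hr).imp fun q hq => ⟨hq.1, hq.2.1, fun e => hq.2.2 ((hπ g q).2 e)⟩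
  obtain ⟨g₂, hg₂, e₂⟩ := tr s hs hs1
  obtain ⟨g₃, hg₃, e₃⟩ := tr _ (mul_mem c.tV hs) (h.k4.mul_ne_one hs hst.symm)
  have c₂ := h.k4.cfg_conj c hg₂
  have c₃ := h.k4.cfg_conj c hg₃
  have ne : ∀ g ∈ 𝐍(V), MulAut.conj g • M = M → g * t * g⁻¹ = t := fun g hg e => by
    rw [(mem_cent1.1 (nc ⟨mem_of_conj_smul_eq c.co c.ne_bot e, hg⟩)).eq]; group
  have n12 : M ≠ MulAut.conj g₂ • M := fun e => hst (e₂ ▸ ne g₂ hg₂ e.symm)
  have n23 : MulAut.conj g₂ • M ≠ MulAut.conj g₃ • M := by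
    intro e
    have h1 := ne _ (mul_mem (inv_mem hg₂) hg₃) (by rw [conj_smul_mul, ← e, ← conj_smul_mul]; simp)
    have h2 : g₃ * t * g₃⁻¹ = g₂ * t * g₂⁻¹ := by
      nth_rewrite 2 [← h1]
      group
    rw [e₃, e₂] at h2
    exact c.t1 (by simpa using h2)
  have z := h.ZF_le_cent_V c c₂ k (hk g₂) (e₂ ▸ hst.symm) n12 (hπ g₂) (e₂ ▸ hy)
  have hz : ∀ g ∈ 𝐍(V), ZF (MulAut.conj g • M) ≤ 𝐂(V) := fun g hg => by
    rw [← conj_smul_ZF, ← mem_normalizer_iff_conj_smul.1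
      (H1.normalizer_le_normalizer_centralizer V hg)]
    exact conj_smul_mono g z
  exact h.false_of_ZF c c₂ c₃ k (hk g₂) (hk g₃) (by rw [e₃, e₂]) n12 n23 (hπ g₂) (hπ g₃)
    (hz g₂ hg₂) (hz g₃ hg₃)

end AH

theorem AH.of_tri [IsSimpleGroup G] (gf : GF G) {t s x : G} {p : ℕ} {T M : Subgroup G}
    (hV : V4 t s) (tri : Tri x t s) (c : MCfg (VV t s) t p T M) : AH (VV t s) p :=
  ⟨gf, F4.of_v4 hV, fun v hv v1 => by
    obtain ⟨g, hg, rfl⟩ := tri.exists_conj hV hv v1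
    exact ⟨_, _, (F4.of_v4 hV).cfg_conj c (zpowers_le.2 (tri.mem_norm hV) hg)⟩⟩

theorem a1Stmt : A1Stmt.{u} := fun G _ _ gf t s x p T M hV tri c nc q hq hne => by
  haveI := gf.simple
  have h := AH.of_tri gf hV tri c
  by_contra h0
  refine h.not_two c nc (fun v hv v1 => ?_) fun r hr => ?_
  · obtain ⟨g, hg, e⟩ := tri.exists_conj hV hv v1
    exact ⟨g, zpowers_le.2 (tri.mem_norm hV) hg, e⟩
  by_cases e : r = p
  · exact ⟨q, hq, e ▸ hne, h0⟩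
  · exact ⟨p, c.pp, Ne.symm e, h.Op_ne_bot c⟩

end Cfsg.Agent.P15
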