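/-
P15, chapter A: the characteristic `p` case.
-/
import Cfsg.Agent.P15.A0
import Cfsg.Agent.P15.A1

set_option autoImplicit false
set_option linter.unusedSectionVars false
set_option linter.style.haveILetI false

namespace Cfsg.Agent.P15.PA

open Subgroup Cfsg Cfsg.Agent Cfsg.Agent.FT H2 P5 P5.Mx
open scoped commutatorElement Pointwise

universe u

variable {G : Type u} [Group G] [Finite G]

/-- The characteristic `p` configuration. -/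
structure AX (t s : G) (p : ℕ) (T M : Subgroup G) : Prop where
  v : V4 t s
  h : AH (VV t s) p
  c : MCfg (VV t s) t p T M
  nc : M ⊓ 𝐍(VV t s) ≤ 𝐂[t]
  sw : ∀ z ∈ VV t s, z ≠ 1 → ∃ g ∈ 𝐍(VV t s), g * t * g⁻¹ = z ∧ g * z * g⁻¹ = t
  syl : ∃ S ≤ 𝐂[t], IsPGroup 2 S ∧ ¬ 2 ∣ S.relIndex ⊤
  chr : ∀ q : ℕ, q.Prime → q ≠ p → pCoreOf q M = ⊥

variable [IsSimpleGroup G] {t s : G} {p : ℕ} {T M : Subgroup G}

namespace AX

variable (a : AX t s p T M)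
include a

theorem ne_top {Y : Subgroup G} (hY : IsPGroup p Y) (Y1 : Y ≠ ⊥) : 𝐍(Y) ≠ ⊤ :=
  norm_ne_top Y1 fun e => by
    have := odd_of_le (le_top.trans e.ge : VV t s ≤ Y) (odd_of_isPGroup a.c.pp a.c.p2 hY)
    rw [a.v.card] at this
    exact absurd this (by decide)

/-- No involution of `V` centralizes `O_p(N(Y))`. -/
theorem not_cent {Y : Subgroup G} (hY : IsPGroup p Y) (Y1 : Y ≠ ⊥) (hV : VV t s ≤ 𝐍(Y)) :
    ∀ z ∈ VV t s, z ≠ 1 → ¬ pCoreOf p 𝐍(Y) ≤ 𝐂[z] := by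
  intro z hz z1 h1
  obtain ⟨T', M', c⟩ := a.h.cfg z hz z1
  haveI := Fact.mk c.pp
  have h2 := Mx.comm_eq_bot_iff.2 ((a.h.d1 c (a.ne_top hY Y1) hV).trans h1)
  rw [a.h.comm_comm c hV, Mx.comm_eq_bot_iff] at h2
  have hYO : Y ≤ pCoreOf p 𝐍(Y) := (SnIn.of_normal le_normalizer le_rfl).le_pCoreOf hY
  exact c.not_le (zpowers_le_cent_iff.1 (H1.pxq_lemma (isPGroup_pCoreOf p _) c.pT (h1.trans c.CT)
    ((zpowers_le.2 c.tV).trans (a.h.VT c)) (h1.trans (Mx.cent_zpowers z).ge)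
    (coprime_zpowers (a.h.tt c) c.oddT) (((inf_le_inf_left _ ((centralizer_anti hYO).trans
      (centralizer_le_normalizer _))).trans h2).trans (Mx.cent_zpowers z).ge)))

omit a in
theorem fit_le {R : Subgroup G} (h : ∀ q : ℕ, q.Prime → q ≠ p → pCoreOf q R = ⊥) :
    fittingOf R ≤ pCoreOf p R := fittingOf_le_of fun r hr => by
  by_cases e : r = p
  · exact e ▸ le_rfl
  · exact h r hr e ▸ bot_le

/-- A maximal subgroup of characteristic `p` above `V` is the normalizer of `zl P`. -/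
theorem norm_zl {R P : Subgroup G} (hR : IsCoatom R) (hV : VV t s ≤ R) (h0 : pCoreOf p R ≠ ⊥)
    (h : ∀ q : ℕ, q.Prime → q ≠ p → pCoreOf q R = ⊥) (hPR : P ≤ R) (hP : IsPGroup p P)
    (hi : ¬ p ∣ P.relIndex R) : 𝐍(zl P) = R ∧ ¬ p ∣ P.relIndex ⊤ := by
  haveI := Fact.mk a.c.pp
  haveI := hP.isNilpotent
  have e0 : pPrimeCoreOf p R = ⊥ := by
    rw [eq_bot_iff, ← H1.inf_eq_bot_of_coprime' (H1.coprime_card_of_isPGroup
      (isPGroup_pCoreOf p R) (coprime_card_pPrimeCoreOf p R))]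
    exact le_inf le_rfl (((le_inf (pPrimeCoreOf_le p R) ((pPrimeCoreOf_le_centralizer_pCoreOf
      a.c.pp R).trans (centralizer_anti (fit_le h)))).trans
        (inf_centralizer_fittingOf_le_of_layerOf_eq_bot (a.h.layer_bot hR hV h0))).trans (fit_le h))
  have eN := norm_eq hR h0 (pCoreOf_le p R) (le_normalizer_pCoreOf p R)
  have hnc := a.not_cent (isPGroup_pCoreOf p R) h0 (hV.trans eN.ge)
  rw [eN] at hnc
  have h1 := (le_sup_norm_zl a.h.gf.dc a.h.gf.ps a.v a.c.pp a.c.p2 hV hnc hPR hP hi).2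
  rw [e0, bot_sup_eq] at h1
  have e : 𝐍(zl P) = R := norm_eq hR (zl_ne_bot fun e => h0 (eq_bot_iff.2
    (e ▸ pCoreOf_le_of_sylow hPR hP hi))) ((zl_le P).trans hPR) (h1.trans inf_le_right)
  refine ⟨e, H1.not_dvd_relIndex_of_normalizer le_top hP fun hd => hi ?_⟩
  rw [top_inf_eq] at hd
  rw [← relIndex_mul_relIndex P 𝐍(P) R le_normalizer ((normalizer_le_normalizer_zl P).trans e.le)]
  exact hd.mul_right _

theorem conj_eq {g n : G} (e : g * t * g⁻¹ = n * t * n⁻¹) :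
    MulAut.conj g • M = MulAut.conj n • M := by
  have : n⁻¹ * g ∈ M := a.c.CM (Mx.mem_cent1.2 (commute_of_conj_eq (by
    calc n⁻¹ * g * t * (n⁻¹ * g)⁻¹ = n⁻¹ * (g * t * g⁻¹) * n := by group
      _ = t := by rw [e]; group)))
  rw [show g = n * (n⁻¹ * g) by group, conj_smul_mul,
    mem_normalizer_iff_conj_smul.1 (le_normalizer this)]

/-- The conjugates of `M` containing `V`. -/
theorem exists_norm {g : G} (hV : VV t s ≤ MulAut.conj g • M) :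
    ∃ n ∈ 𝐍(VV t s), MulAut.conj g • M = MulAut.conj n • M := by
  haveI := Fact.mk Nat.prime_two
  obtain ⟨S, hS, S2, Si⟩ := a.syl
  have hM : MulAut.conj g⁻¹ • VV t s ≤ M := by rwa [conj_smul_le_iff, inv_inv]
  obtain ⟨m, hm, h1⟩ := H1.exists_conj_le_sylow (H := M) S2 (fun hd => Si (by
    rw [← relIndex_mul_relIndex S M ⊤ (hS.trans a.c.CM) le_top]
    exact hd.mul_right _)) hM (a.v.isPGroup.map _)
  rw [H1.map_conj_eq_smul, ← conj_smul_mul] at h1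
  have h2 : VV t s ≤ 𝐂[(g * m⁻¹) * t * (g * m⁻¹)⁻¹] := by
    rw [← conj_smul_cent1, show g * m⁻¹ = (m * g⁻¹)⁻¹ by group, ← conj_smul_le_iff]
    exact h1.trans hS
  have h3 : g * m⁻¹ * t * (g * m⁻¹)⁻¹ ∈ VV t s := mem_of_comm a.h.gf.dc a.v (by
    calc _ = g * m⁻¹ * (t * t) * (g * m⁻¹)⁻¹ := by group
      _ = 1 := by rw [a.v.tt]; group) (Mx.mem_cent1.1 (h2 V4.t_mem)).symm
      (Mx.mem_cent1.1 (h2 V4.s_mem)).symm
  obtain ⟨n, hn, e, -⟩ := a.sw _ h3 fun e => a.v.t1 (conj_eq_one_iff.1 e)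
  refine ⟨n, hn, ?_⟩
  rw [a.conj_eq e, conj_smul_mul, mem_normalizer_iff_conj_smul.1 (le_normalizer (inv_mem hm))]

theorem exists_norm_zl {S : Subgroup G} (hS : IsPGroup p S) (hi : ¬ p ∣ S.relIndex ⊤)
    (hV : VV t s ≤ 𝐍(zl S)) : ∃ n ∈ 𝐍(VV t s), 𝐍(zl S) = MulAut.conj n • M := by
  haveI := Fact.mk a.c.pp
  obtain ⟨P, a1, a2, a3⟩ := H1.exists_sylow_le p M
  obtain ⟨b1, b2⟩ := a.norm_zl a.c.co (a.h.VM a.c) (a.h.Op_ne_bot a.c) a.chr a1 a2 a3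
  obtain ⟨g, -, hg⟩ := H1.exists_conj_eq_sylow le_top hS hi le_top a2 b2
  rw [H1.map_conj_eq_smul] at hg
  rw [← hg, ← conj_smul_zl, normalizer_conj_smul, b1] at hV ⊢
  exact a.exists_norm hV

/-- `O_p(M)` lies in no other conjugate of `M` under `N(V)`. -/
theorem mem_cent {n : G} (hn : n ∈ 𝐍(VV t s)) (h : pCoreOf p M ≤ MulAut.conj n • M) :
    n ∈ 𝐂[t] := by
  obtain ⟨g, hg, e1, e2⟩ := a.sw _ (a.h.k4.conj_mem hn V4.t_mem) fun e => a.v.t1 (by simpa using e)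
  have c' := a.h.k4.cfg_conj a.c hn
  have h1 : pCoreOf p (MulAut.conj n • M) ≤ M := by
    have := conj_smul_mono g h
    rwa [conj_smul_pCoreOf, a.conj_eq e1, ← conj_smul_mul, a.conj_eq (g := g * n) (n := 1) (by
      rw [← e2]; nth_rewrite 2 [← e2]; group), conj_smul_one] at this
  have h2 := a.h.eq_of_fitting c'.co a.c.co (a.h.lay c') (a.h.lay a.c) ((fit_le fun q hq e => by
    rw [← conj_smul_pCoreOf, a.chr q hq e, smul_bot]).trans h1) ((fit_le a.chr).trans h)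
    a.c.pp a.c.p2 (a.h.Op_ne_bot a.c)
  exact a.nc ⟨mem_of_conj_smul_eq a.c.co a.c.ne_bot h2, hn⟩

theorem mem_cent' {n : G} (hn : n ∈ 𝐍(VV t s)) (h : pCoreOf p (MulAut.conj n • M) ≤ M) :
    n ∈ 𝐂[t] := by
  rw [← conj_smul_pCoreOf, conj_smul_le_iff] at h
  exact inv_mem_iff.1 (a.mem_cent (inv_mem hn) h)

/-- `M` is the only maximal subgroup containing `O_p(M) V`. -/
theorem le_M {Q : Subgroup G} (hQ : IsPGroup p Q) (hV : VV t s ≤ 𝐍(Q)) (h : pCoreOf p M ≤ Q) :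
    Q ≤ M := by
  haveI := Fact.mk a.c.pp
  have h0 := a.h.Op_ne_bot a.c
  obtain ⟨R, hR, hN⟩ := exists_coatom_ge (a.ne_top hQ fun e => h0 (eq_bot_iff.2 (e ▸ h)))
  have hVR := hV.trans hN
  have hOR := h.trans (le_normalizer.trans hN)
  have hT := a.h.T_le a.c hR.1 hVR ((a.h.TO a.c).trans hOR)
  have r0 : pCoreOf p R ≠ ⊥ := fun e => a.c.T1 (eq_bot_iff.2 (e ▸ hT))
  have hc : ∀ q : ℕ, q.Prime → q ≠ p → pCoreOf q R = ⊥ := fun q hq e => by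
    have b1 : pCoreOf q R ≤ M := (pCoreOf_le_cent hq a.c.pp e R).trans
      ((centralizer_anti hT).trans ((centralizer_le_normalizer _).trans a.c.NT))
    have b2 := coprime_of_primes hq a.c.pp e (isPGroup_pCoreOf q R) (isPGroup_pCoreOf p M)
    have b3 := le_cent_of_coprime (b1.trans (le_normalizer_pCoreOf p M))
      (hOR.trans (le_normalizer_pCoreOf q R)) b2
    rw [eq_bot_iff, ← H1.inf_eq_bot_of_coprime' b2]
    exact le_inf le_rfl (((le_inf b1 (b3.trans (centralizer_anti (fit_le a.chr)))).trans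
      (inf_centralizer_fittingOf_le_of_layerOf_eq_bot (a.h.lay a.c))).trans (fit_le a.chr))
  obtain ⟨P, a1, a2, a3⟩ := H1.exists_sylow_le p R
  obtain ⟨b1, b2⟩ := a.norm_zl hR hVR r0 hc a1 a2 a3
  obtain ⟨n, hn, e⟩ := a.exists_norm_zl a2 b2 (b1 ▸ hVR)
  rw [b1] at e
  have := a.mem_cent hn (e ▸ hOR)
  rw [mem_normalizer_iff_conj_smul.1 (le_normalizer (a.c.CM this))] at e
  exact (le_normalizer.trans hN).trans e.le

end AX

/-- `Y` is a `V`-invariant `p`-subgroup normalized by `A` and an element of `N(V)` moving `t`. -/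
def Fam (t s : G) (p : ℕ) (A Y : Subgroup G) : Prop :=
  Y ≠ ⊥ ∧ IsPGroup p Y ∧ VV t s ≤ 𝐍(Y) ∧ A ≤ 𝐍(Y) ∧ ∃ n ∈ 𝐍(Y) ⊓ 𝐍(VV t s), n ∉ 𝐂[t]

namespace AX

variable (a : AX t s p T M)
include a

theorem exists_not_le : ∃ Q : Subgroup G, IsPGroup p Q ∧ VV t s ≤ 𝐍(Q) ∧ ¬ Q ≤ M ∧ Q ⊓ M ≠ ⊥ := by
  haveI := Fact.mk a.c.pp
  obtain ⟨z, hz, z1, zt, hy⟩ := a.h.exists_not_le a.c
  obtain ⟨g, hg, e, -⟩ := a.sw z hz z1
  have c' := a.h.k4.cfg_conj a.c hg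
  rw [e] at c'
  refine ⟨(T ⊓ 𝐂[z]) ⊔ pCoreOf p (MulAut.conj g • M), (a.c.pT.to_le inf_le_left).to_sup_of_normal_right'
    (isPGroup_pCoreOf p _) ((inf_le_right.trans c'.CM).trans (le_normalizer_pCoreOf p _)),
    H1.le_normalizer_sup (H1.le_normalizer_inf (a.h.VT a.c) ((a.h.k4.le_cent1 hz).trans
      le_normalizer)) ((a.h.VM c').trans (le_normalizer_pCoreOf p _)), fun h => zt ?_,
    fun h0 => hy ?_⟩
  · rw [← e, (Mx.mem_cent1.1 (a.mem_cent' hg (le_sup_right.trans h))).eq, mul_inv_cancel_right]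
  · exact ((le_inf le_sup_left (inf_le_left.trans a.c.TM)).trans h0.le).trans bot_le

theorem exists_fam : ∃ A Y : Subgroup G, IsPGroup p A ∧ VV t s ≤ 𝐍(A) ∧
    (∀ P : Subgroup G, IsPGroup p P → VV t s ≤ 𝐍(P) → A ≤ P → P ≤ M) ∧ Fam t s p A Y := by
  haveI := Fact.mk a.c.pp
  obtain ⟨Q, ⟨h1, h2, h3, h4⟩, hmax⟩ := Set.exists_max_image
    {Q : Subgroup G | IsPGroup p Q ∧ VV t s ≤ 𝐍(Q) ∧ ¬ Q ≤ M ∧ Q ⊓ M ≠ ⊥}
    (fun Q => Nat.card (Q ⊓ M : Subgroup G)) (Set.toFinite _) a.exists_not_le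
  obtain ⟨D, hD⟩ : ∃ D, D = Q ⊓ M := ⟨_, rfl⟩
  rw [← hD] at h4 hmax
  have hVM := a.h.VM a.c
  have hDM : D ≤ M := hD ▸ inf_le_right
  have hDp : IsPGroup p D := hD ▸ h1.to_le inf_le_left
  have hVD : VV t s ≤ 𝐍(D) := hD ▸ H1.le_normalizer_inf h2 (hVM.trans le_normalizer)
  have hDQ : D < Q := hD ▸ lt_of_le_of_ne inf_le_left fun e => h3 (inf_eq_left.1 e)
  have hP : IsPGroup p (D ⊔ pCoreOf p M : Subgroup G) := hDp.to_sup_of_normal_right'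
    (isPGroup_pCoreOf p M) (hDM.trans (le_normalizer_pCoreOf p M))
  have hPM : D ⊔ pCoreOf p M ≤ M := sup_le hDM (pCoreOf_le p M)
  have hVP : VV t s ≤ 𝐍(D ⊔ pCoreOf p M) :=
    H1.le_normalizer_sup hVD (hVM.trans (le_normalizer_pCoreOf p M))
  have hDP : D < D ⊔ pCoreOf p M := lt_of_le_of_ne le_sup_left fun e =>
    h3 (a.le_M h1 h2 ((le_sup_right.trans e.ge).trans hDQ.le))
  generalize D ⊔ pCoreOf p M = P at hP hPM hVP hDP
  obtain ⟨x, hxQ, hxN, hxD⟩ := H1.exists_mem_normalizer_of_lt h1.isNilpotent hDQ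
  obtain ⟨y, hyP, hyN, hyD⟩ := H1.exists_mem_normalizer_of_lt hP.isNilpotent hDP
  have hVN : VV t s ≤ 𝐍(𝐍(D)) := hVD.trans le_normalizer
  have key : ∀ S : Subgroup G, IsPGroup p S → VV t s ≤ 𝐍(S) → P ⊓ 𝐍(D) ≤ S → S ≤ M := by
    intro S b3 b5 b1
    have hDS : D < S ⊓ M := lt_of_le_of_ne (le_inf ((le_inf hDP.le le_normalizer).trans b1) hDM)
      fun e => hyD (e ▸ mem_inf.2 ⟨b1 (mem_inf.2 ⟨hyP, hyN⟩), hPM hyP⟩)
    by_contra hn
    exact (H1.card_lt_of_lt hDS).not_ge (hmax S ⟨b3, b5, hn, fun e => not_lt_bot (e ▸ hDS)⟩)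
  obtain ⟨n, hn, S, b1, b2, b3, b4⟩ := a.h.gf.ka 𝐍(D) (a.ne_top hDp h4) t s a.v (hVD V4.t_mem)
    (hVD V4.s_mem) p a.c.pp a.c.p2 (P ⊓ 𝐍(D)) inf_le_right (Q ⊓ 𝐍(D)) inf_le_right
    (hP.to_le inf_le_left) (h1.to_le inf_le_left) (H1.le_normalizer_inf hVP hVN)
    (H1.le_normalizer_inf h2 hVN)
  refine ⟨P ⊓ 𝐍(D), D, hP.to_le inf_le_left, H1.le_normalizer_inf hVP hVN, key, h4, hDp, hVD,
    inf_le_right, n, hn, fun hc => hxD ?_⟩
  have hgM := a.c.CM hc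
  have := key S b1 b2 b3 (H1.map_conj_le_iff.1 b4 x (mem_inf.2 ⟨hxQ, hxN⟩))
  exact hD ▸ mem_inf.2 ⟨hxQ, (mul_mem_cancel_left hgM).1
    ((mul_mem_cancel_right (inv_mem hgM)).1 this)⟩

theorem fam_step {A Y : Subgroup G} (hA : IsPGroup p A) (hVA : VV t s ≤ 𝐍(A))
    (hY : Fam t s p A Y) :
    ∃ S, S ≤ 𝐍(Y) ∧ IsPGroup p S ∧ ¬ p ∣ S.relIndex 𝐍(Y) ∧ Fam t s p A (zl S) := by
  haveI := Fact.mk a.c.pp
  obtain ⟨Y1, hYp, hVN, hAN, n, ⟨nN, nV⟩, nt⟩ := hY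
  have hnc := a.not_cent hYp Y1 hVN
  have hYO : Y ≤ pCoreOf p 𝐍(Y) := (SnIn.of_normal le_normalizer le_rfl).le_pCoreOf hYp
  generalize 𝐍(Y) = N at *
  have hNO := le_normalizer_pPrimeCoreOf 2 N
  have hON := pPrimeCoreOf_le 2 N
  have hOo := odd_O N
  have hsol : ∀ W : Subgroup G, Group.IsSolvable (VV t s) ∨ Group.IsSolvable W :=
    fun W => Or.inl (vsolv a.v)
  obtain ⟨S₁, a1, a2, a3, a4, a5⟩ := H1.exists_invariant_sylow_ge
    (H1.le_normalizer_sup hVA (hVN.trans hNO)) (vcop a.v (odd_sup (hAN.trans hNO)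
      (odd_of_isPGroup a.c.pp a.c.p2 hA) hOo)) (hsol _) le_sup_left hA hVA
  have a6 : S₁ ≤ N := a2.trans (sup_le hAN hON)
  have a7 := not_dvd_relIndex_inf a4 a2 le_sup_right (a6.trans hNO)
  obtain ⟨S, b1, b2, b3, b4⟩ := H1.exists_sylow_of_le a6 a3
  obtain ⟨hKo, hfac⟩ := le_sup_norm_zl a.h.gf.dc a.h.gf.ps a.v a.c.pp a.c.p2 hVN hnc b2 b3 b4
  have hNK := le_normalizer_pPrimeCoreOf p N
  have hZS := zl_le S
  have hZp := b3.to_le hZS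
  have c1 : N ≤ 𝐍(zl S ⊔ pPrimeCoreOf p N) := hfac.trans (sup_le (le_sup_right.trans le_normalizer)
    (H1.le_normalizer_sup inf_le_right (inf_le_left.trans hNK)))
  have c2 : zl S ⊔ pPrimeCoreOf p N ≤ pPrimeCoreOf 2 N :=
    le_O_of_snIn (SnIn.of_normal (sup_le (hZS.trans b2) (pPrimeCoreOf_le p N)) c1)
      (odd_sup ((hZS.trans b2).trans hNK) (odd_of_isPGroup a.c.pp a.c.p2 hZp) hKo)
  have c0 : VV t s ≤ 𝐍(S₁ ⊓ pPrimeCoreOf 2 N) := H1.le_normalizer_inf a5 (hVN.trans hNO)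
  have c3 : S ⊓ pPrimeCoreOf 2 N = S₁ ⊓ pPrimeCoreOf 2 N :=
    H1.sylow_maximal a7 (inf_le_inf_right _ b1) inf_le_right (b3.to_le inf_le_left)
  rw [← c3] at a7 c0
  obtain ⟨R, hR⟩ : ∃ R, R = S ⊓ pPrimeCoreOf 2 N := ⟨_, rfl⟩
  rw [← hR] at a7 c0
  have r1 : R ≤ pPrimeCoreOf 2 N := hR ▸ inf_le_right
  have r2 : IsPGroup p R := hR ▸ b3.to_le inf_le_left
  have c4 : R ⊓ (zl S ⊔ pPrimeCoreOf p N) = zl S := by
    rw [H1.dedekind_left ((hZS.trans b2).trans hNK) (hR ▸ le_inf hZS (le_sup_left.trans c2)),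
      H1.inf_eq_bot_of_coprime' (H1.coprime_card_of_isPGroup r2
        (coprime_card_pPrimeCoreOf p N)).symm, sup_bot_eq]
  have c5 : N ⊓ 𝐍(R) ≤ 𝐍(zl S) :=
    c4 ▸ H1.le_normalizer_inf inf_le_right (inf_le_left.trans c1)
  obtain ⟨c, ⟨cO, cV⟩, hc⟩ := H1.exists_centralizer_conj_le_sylow (hVN.trans hNO) (vcop a.v hOo)
    (hsol _) r1 r2 a7 c0 (U := MulAut.conj n • R)
    (by rw [← mem_normalizer_iff_conj_smul.1 (hNO nN)]; exact conj_smul_mono n r1) (r2.map _)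
    (by rw [normalizer_conj_smul, ← mem_normalizer_iff_conj_smul.1 nV]; exact conj_smul_mono n c0)
  rw [H1.map_conj_eq_smul, ← conj_smul_mul] at hc
  haveI := b3.isNilpotent
  refine ⟨S, b2, b3, b4, zl_ne_bot fun e => Y1 (eq_bot_iff.2
    (e ▸ hYO.trans (pCoreOf_le_of_sylow b2 b3 b4))), hZp, (le_inf hVN c0).trans c5,
    (a1.trans b1).trans (le_normalizer.trans (normalizer_le_normalizer_zl S)), c * n,
    ⟨c5 ⟨mul_mem (hON cO) nN, mem_normalizer_of_conj_smul_le hc⟩,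
      mul_mem (centralizer_le_normalizer _ cV) nV⟩, fun e => nt ?_⟩
  exact (mul_mem_cancel_left (Mx.mem_cent1.2 (mem_centralizer_iff.1 cV t V4.t_mem).symm)).1 e

theorem false : False := by
  haveI := Fact.mk a.c.pp
  obtain ⟨A, Y, hA, hVA, key, hY⟩ := a.exists_fam
  obtain ⟨⟨Y₀, S₀⟩, ⟨h1, h2, h3⟩, hmax⟩ := Set.exists_max_image
    {z : Subgroup G × Subgroup G | Fam t s p A z.1 ∧ z.2 ≤ 𝐍(z.1) ∧ IsPGroup p z.2}
    (fun z => Nat.card z.2) (Set.toFinite _) ⟨⟨Y, ⊥⟩, hY, bot_le, IsPGroup.of_bot⟩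
  obtain ⟨S, a1, a2, a3, a4⟩ := a.fam_step hA hVA h1
  have hle : Nat.card S₀ ≤ Nat.card S := by
    obtain ⟨g, -, hg⟩ := H1.exists_conj_le_sylow a2 a3 h2 h3
    rw [← H1.card_map_conj S₀ g]
    exact card_le_of_le hg
  have hS : ¬ p ∣ S.relIndex ⊤ := by
    refine H1.not_dvd_relIndex_of_normalizer le_top a2 (H1.not_dvd_relIndex_of_maximal
      (le_inf le_top le_normalizer) a2 fun Q b1 b2 b3 => (H1.eq_of_le_of_card_le b1 ?_).symm)
    exact (hmax ⟨zl S, Q⟩ ⟨a4, (b2.trans inf_le_right).trans (normalizer_le_normalizer_zl S),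
      b3⟩).trans hle
  obtain ⟨-, -, hV, hAN, n, ⟨n1, n2⟩, n3⟩ := a4
  obtain ⟨m, hm, e⟩ := a.exists_norm_zl a2 hS hV
  rw [e] at hV hAN n1
  have := a.mem_cent' hm (le_sup_right.trans (key (A ⊔ pCoreOf p (MulAut.conj m • M))
    (hA.to_sup_of_normal_right' (isPGroup_pCoreOf p _) (hAN.trans (le_normalizer_pCoreOf p _)))
    (H1.le_normalizer_sup hVA (hV.trans (le_normalizer_pCoreOf p _))) le_sup_left))
  rw [mem_normalizer_iff_conj_smul.1 (le_normalizer (a.c.CM this))] at n1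
  exact n3 (a.nc ⟨n1, n2⟩)

end AX

end Cfsg.Agent.P15.PA
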