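/-
P15: cyclic or dihedral 2-subgroups.
-/
import Cfsg.Agent.P15.Defs
import Cfsg.Agent.P7.A0

set_option autoImplicit false
set_option linter.unusedSectionVars false

namespace Cfsg.Agent.P15

open Subgroup Cfsg Cfsg.Agent Cfsg.Agent.FT
open Cfsg.Agent.H2 (pPrimeCoreOf layerOf fstarOf PStab)
open Cfsg.Agent.P5 (V4 Tri inv_eq_of_sq)
open scoped commutatorElement

universe u v

variable {G : Type u} [Group G]

/-- `T` is cyclic or dihedral with cyclic part `⟨c⟩`. -/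
structure Dd (T : Subgroup G) (c : G) : Prop where
  two : IsPGroup 2 T
  cT : c ∈ T
  sq : ∀ g ∈ T, g ∉ zpowers c → g * g = 1
  inv : ∀ g ∈ T, g ∉ zpowers c → g * c * g = c⁻¹
  mul : ∀ g ∈ T, ∀ g' ∈ T, g ∉ zpowers c → g' ∉ zpowers c → g * g' ∈ zpowers c

theorem DC.dd (h : DC G) {T : Subgroup G} (hT : IsPGroup 2 T) : ∃ c, Dd T c := by
  obtain ⟨c, hc, h1⟩ := h T hT
  exact ⟨c, hT, hc, fun g a b => (h1 g a b).1, fun g a b => (h1 g a b).2.1,
    fun g a g' a' b b' => (h1 g a b).2.2 g' a' b'⟩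

theorem dc_of_dd (h : ∀ T : Subgroup G, IsPGroup 2 T → ∃ c, Dd T c) : DC G := fun T hT => by
  obtain ⟨c, h1⟩ := h T hT
  exact ⟨c, h1.cT, fun g a b => ⟨h1.sq g a b, h1.inv g a b, fun g' a' b' => h1.mul g a g' a' b b'⟩⟩

theorem comm_zp {c x y : G} (hx : x ∈ zpowers c) (hy : y ∈ zpowers c) : Commute x y := by
  obtain ⟨k, rfl⟩ := hx
  obtain ⟨j, rfl⟩ := hy
  exact zpow_mul_comm _ k j

theorem inv_zp {s c z : G} (ss : s * s = 1) (h : s * c * s = c⁻¹) (hz : z ∈ zpowers c) :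
    s * z * s = z⁻¹ := by
  have := P5.inverts_of_mem_zpowers (s := s) (by rw [inv_eq_of_sq ss, h]) hz
  rwa [inv_eq_of_sq ss] at this

theorem sq_of_comm_of_inv {s z : G} (ss : s * s = 1) (h : s * z * s = z⁻¹) (hc : Commute s z) :
    z * z = 1 := by
  rw [hc.eq, mul_assoc, ss, mul_one] at h
  exact mul_eq_one_iff_eq_inv.2 h

theorem cent_VV (t s : G) : 𝐂(VV t s) = 𝐂[t] ⊓ 𝐂[s] := P7.Ax.cent_V2 t s

theorem VV_swap (t s : G) : VV s t = VV t s := P7.Ax.V2_swap t s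

theorem VV_mul (t s : G) : VV t (t * s) = VV t s := P7.Ax.V2_mul t s

theorem VV_conj (t s g : G) : VV (g * t * g⁻¹) (g * s * g⁻¹) = VV t s ^ᵍ g := by
  rw [MonoidHom.map_closure, Set.image_pair]; rfl

theorem V4.cj {t s : G} (v : V4 t s) (g : G) : V4 (g * t * g⁻¹) (g * s * g⁻¹) :=
  P7.Ax.v4_conj v g

theorem V4.mul {t s : G} (v : V4 t s) : V4 t (t * s) := P7.Ax.v4_mul v

theorem V4.le_cent {t s : G} (v : V4 t s) : VV t s ≤ 𝐂(VV t s) := P7.Ax.V2_le_cent v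

theorem Tri.cj {x t s : G} (h : Tri x t s) (g : G) :
    Tri (g * x * g⁻¹) (g * t * g⁻¹) (g * s * g⁻¹) :=
  ⟨by rw [← h.1]; group, by rw [conj_mul (b := g) (a := t), ← h.2]; group⟩

/-- The action of the normalizer on a four-group. -/
theorem norm_cases {t s g : G} (v : V4 t s) (hg : g ∈ 𝐍(VV t s)) :
    Tri g t s ∨ Tri g⁻¹ t s ∨ (g * g ∈ 𝐂(VV t s) ∧
      (g ∈ 𝐂[t] ∨ g ∈ 𝐂[s] ∨ g ∈ 𝐂[t * s])) := by
  have h1 := v.mem_iff.1 ((mem_normalizer_iff.1 hg t).1 V4.t_mem)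
  have h2 := v.mem_iff.1 ((mem_normalizer_iff.1 hg s).1 V4.s_mem)
  have v' := V4.cj v g
  have e1 : t * (t * s) = s := by rw [← mul_assoc, v.tt, one_mul]
  have e2 : t * s * s = t := by rw [mul_assoc, v.ss, mul_one]
  have e3 : t * s * t = s := by rw [v.comm.eq, mul_assoc, v.tt, mul_one]
  have e4 : g * (t * s) * g⁻¹ = g * t * g⁻¹ * (g * s * g⁻¹) := by group
  have k : ∀ x, g * g * x * (g * g)⁻¹ = g * (g * x * g⁻¹) * g⁻¹ := fun x => by group
  simp only [cent_VV, mem_inf, mem_cent1_iff_conj, k]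
  rcases h1 with a | a | a | a
  · exact absurd a v'.t1
  · rcases h2 with b | b | b | b
    · exact absurd b v'.s1
    · exact absurd (a.trans b.symm) v'.ts
    · simp [a, b]
    · refine Or.inr (Or.inr ⟨⟨by rw [a, a], by rw [b, e4, a, b, e1]⟩, Or.inl a⟩)
  · rcases h2 with b | b | b | b
    · exact absurd b v'.s1
    · exact Or.inr (Or.inr ⟨⟨by rw [a, b], by rw [b, a]⟩,
        Or.inr (Or.inr (by rw [e4, a, b, v.comm.eq]))⟩)
    · exact absurd (a.trans b.symm) v'.ts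
    · exact Or.inl ⟨a, b⟩
  · rcases h2 with b | b | b | b
    · exact absurd b v'.s1
    · refine Or.inr (Or.inl ⟨by rw [← b]; group, ?_⟩)
      rw [a, b, e3] at e4
      nth_rewrite 1 [← e4]; group
    · exact Or.inr (Or.inr ⟨⟨by rw [a, e4, a, b, e2], by rw [b, b]⟩, Or.inr (Or.inl b)⟩)
    · exact absurd (a.trans b.symm) v'.ts

variable [Finite G]

theorem mem_of_sq_mem {K : Subgroup G} {g : G} (ho : Odd (orderOf g)) (h : g * g ∈ K) : g ∈ K :=
  zpowers_le_of_mem h (by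
    rw [← sq]; exact H6.Cyc.mem_zpowers_pow (Nat.coprime_two_left.2 ho))

theorem tri_of_odd {t s g : G} (v : V4 t s) (hg : g ∈ 𝐍(VV t s)) (ho : Odd (orderOf g))
    (hc : g ∉ 𝐂(VV t s)) : Tri g t s ∨ Tri g⁻¹ t s := by
  rcases norm_cases v hg with h | h | h
  exacts [Or.inl h, Or.inr h, absurd (mem_of_sq_mem ho h.1) hc]

namespace Dd

variable {T : Subgroup G} {c : G} (h : Dd T c)
include h

theorem le : zpowers c ≤ T := zpowers_le_of_mem h.cT

theorem invz {g z : G} (hg : g ∈ T) (g1 : g ∉ zpowers c) (hz : z ∈ zpowers c) :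
    g * z * g = z⁻¹ := inv_zp (h.sq g hg g1) (h.inv g hg g1) hz

theorem sq_of_comm {g z : G} (hg : g ∈ T) (g1 : g ∉ zpowers c) (hz : z ∈ zpowers c)
    (hc : Commute g z) : z * z = 1 := sq_of_comm_of_inv (h.sq g hg g1) (h.invz hg g1 hz) hc

omit h in
theorem uniq {a b : G} (ha : a ∈ zpowers c) (hb : b ∈ zpowers c) (aa : a * a = 1) (bb : b * b = 1)
    (b1 : b ≠ 1) : a = 1 ∨ a = b :=
  or_iff_not_imp_left.2 fun a1 => P4.uniq_invol inferInstance ha a1 aa hb b1 bb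

theorem mul_iff {a b : G} (ha : a ∈ T) (hb : b ∈ T) :
    a * b ∈ zpowers c ↔ (a ∈ zpowers c ↔ b ∈ zpowers c) := by
  by_cases h1 : a ∈ zpowers c
  · rw [mul_mem_cancel_left h1]; tauto
  by_cases h2 : b ∈ zpowers c
  · rw [mul_mem_cancel_right h2]; tauto
  · have := h.mul a ha b hb h1 h2; tauto

theorem norm : T ≤ 𝐍(zpowers c) := fun g hg => H6.Cyc.mem_norm_zpowers (by
  rw [h.mul_iff (mul_mem hg h.cT) (inv_mem hg), mul_mem_cancel_right (mem_zpowers c), inv_mem_iff])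

theorem four {x y g : G} (v : V4 x y) (hx : x ∈ T) (hy : y ∈ T) (hg : g ∈ T) (c1 : Commute x g)
    (c2 : Commute y g) : g ∈ VV x y := by
  wlog hT : x ∉ zpowers c generalizing x y
  · have h1 : y ∉ zpowers c := fun e => v.ts ((uniq (not_not.1 hT) e v.tt v.ss v.s1).resolve_left
      v.t1)
    exact VV_swap x y ▸ this v.swap hy hx c2 c1 h1
  obtain ⟨z, zV, zc, z1, zz⟩ : ∃ z ∈ VV x y, z ∈ zpowers c ∧ z ≠ 1 ∧ z * z = 1 := by
    by_cases e : y ∈ zpowers c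
    · exact ⟨y, V4.s_mem, e, v.s1, v.ss⟩
    · exact ⟨x * y, mul_mem V4.t_mem V4.s_mem, h.mul x hx y hy hT e, v.ts1, v.tsts⟩
  have key : ∀ a ∈ zpowers c, Commute x a → a ∈ VV x y := fun a ha hc => by
    rcases uniq ha zc (h.sq_of_comm hx hT ha hc) zz z1 with rfl | rfl
    exacts [one_mem _, zV]
  by_cases e : g ∈ zpowers c
  · exact key g e c1
  · exact (mul_mem_cancel_left V4.t_mem).1
      (key _ (h.mul x hx g hg hT e) ((Commute.refl x).mul_right c1))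

theorem sub {R : Subgroup G} (hR : R ≤ T) : ∃ d ∈ zpowers c, R ⊓ zpowers c = zpowers d ∧ Dd R d := by
  obtain ⟨d, hd⟩ := isCyclic_iff_zpowers.1 (isCyclic_of_le (inf_le_right : R ⊓ zpowers c ≤ _)
    inferInstance)
  have h1 : d ∈ R ⊓ zpowers c := hd ▸ mem_zpowers d
  have h2 : ∀ g ∈ R, g ∉ zpowers d → g ∉ zpowers c := fun g hg e e' => e (hd ▸ ⟨hg, e'⟩)
  exact ⟨d, h1.2, hd.symm, h.two.to_le hR, h1.1, fun g a b => h.sq g (hR a) (h2 g a b),
    fun g a b => h.invz (hR a) (h2 g a b) h1.2, fun g a g' a' b b' =>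
      hd ▸ ⟨mul_mem a a', h.mul g (hR a) g' (hR a') (h2 g a b) (h2 g' a' b')⟩⟩

omit [Finite G] in
theorem map {K : Type v} [Group K] (f : G →* K) : Dd (T.map f) (f c) := by
  have k : ∀ g, f g ∉ zpowers (f c) → g ∉ zpowers c := fun g e e' =>
    e (MonoidHom.map_zpowers f c ▸ mem_map_of_mem f e')
  refine ⟨h.two.map f, mem_map_of_mem f h.cT, ?_, ?_, ?_⟩
  · rintro _ ⟨g, hg, rfl⟩ e
    rw [← map_mul, h.sq g hg (k g e), map_one]
  · rintro _ ⟨g, hg, rfl⟩ e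
    rw [← map_mul, ← map_mul, h.inv g hg (k g e), map_inv]
  · rintro _ ⟨g, hg, rfl⟩ _ ⟨g', hg', rfl⟩ e e'
    rw [← map_mul, ← MonoidHom.map_zpowers]
    exact mem_map_of_mem f (h.mul g hg g' hg' (k g e) (k g' e'))

omit [Finite G] h in
theorem comap {K : Type v} [Group K] {f : K →* G} (hf : Function.Injective f) {R : Subgroup K}
    {d : K} (h : Dd (R.map f) (f d)) : Dd R d := by
  have k : ∀ g, f g ∈ zpowers (f d) ↔ g ∈ zpowers d := fun g => by
    rw [← MonoidHom.map_zpowers, mem_map_iff_mem hf]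
  refine ⟨(isPGroup_map_iff hf).1 h.two, (mem_map_iff_mem hf).1 h.cT, fun g a b => hf ?_,
    fun g a b => hf ?_, fun g a g' a' b b' => (k _).1 ?_⟩
  · rw [map_mul, map_one]; exact h.sq _ (mem_map_of_mem f a) (mt (k g).1 b)
  · rw [map_mul, map_mul, map_inv]; exact h.inv _ (mem_map_of_mem f a) (mt (k g).1 b)
  · rw [map_mul]
    exact h.mul _ (mem_map_of_mem f a) _ (mem_map_of_mem f a') (mt (k g).1 b) (mt (k g').1 b')

/-- A normal subgroup not inside `⟨c⟩` contains `c ^ 2`. -/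
theorem sq_mem {N : Subgroup G} (hc : c ∈ 𝐍(N)) {n : G} (hn : n ∈ N) (nT : n ∈ T)
    (n1 : n ∉ zpowers c) : c * c ∈ N := by
  have h1 := mul_mem ((mem_normalizer_iff.1 hc n).1 hn) hn
  rwa [mul_assoc, mul_assoc, ← mul_assoc n, h.invz nT n1 (inv_mem (mem_zpowers c)), inv_inv] at h1

theorem mem_or {N : Subgroup G} (hc : c ∈ 𝐍(N)) {n : G} (hn : n ∈ N) (nT : n ∈ T)
    (n1 : n ∉ zpowers c) {g : G} (hg : g ∈ T) : g ∈ N ∨ c * g ∈ N := by
  have h1 : ∀ z ∈ zpowers c, z ∈ N ∨ c * z ∈ N := fun z hz =>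
    (H6.Cyc.mem_sq_or c hz).imp (fun e => zpowers_le_of_mem (h.sq_mem hc hn nT n1) e)
      fun e => zpowers_le_of_mem (h.sq_mem hc hn nT n1) e
  by_cases e : g ∈ zpowers c
  · exact h1 g e
  · refine (h1 _ (h.mul n nT g hg n1 e)).imp (mul_mem_cancel_left hn).1 fun e' => ?_
    refine (mul_mem_cancel_left ((mem_normalizer_iff.1 hc n).1 hn)).1 ?_
    rwa [show c * n * c⁻¹ * (c * g) = c * (n * g) by group]

theorem norm_zp (cc : c * c ≠ 1) : 𝐍(T) ≤ 𝐍(zpowers c) := fun g hg =>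
  H6.Cyc.mem_norm_zpowers (by
    by_contra e
    have := h.sq _ (H6.Cyc.conj_mem hg h.cT) e
    rw [conj_mul] at this
    exact cc (by simpa using this))

theorem cyc_or : IsCyclic T ∨ (∃ s, V4 c s ∧ T = VV c s) ∨ (c * c ≠ 1 ∧ ∃ s ∈ T, s ∉ zpowers c) := by
  by_cases h0 : T ≤ zpowers c
  · exact Or.inl (isCyclic_of_le h0 inferInstance)
  obtain ⟨s, hs, s1⟩ := SetLike.not_le_iff_exists.1 h0
  by_cases cc : c * c = 1
  swap
  · exact Or.inr (Or.inr ⟨cc, s, hs, s1⟩)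
  have ss := h.sq s hs s1
  by_cases c1 : c = 1
  · refine Or.inl (isCyclic_of_le (K := zpowers s) (fun g hg => ?_) inferInstance)
    by_cases e : g ∈ zpowers c
    · rw [c1, zpowers_one_eq_bot, mem_bot] at e
      exact e ▸ one_mem _
    · have := h.mul s hs g hg s1 e
      rw [c1, zpowers_one_eq_bot, mem_bot, mul_eq_one_iff_inv_eq] at this
      exact this ▸ inv_mem (mem_zpowers s)
  have hc : Commute c s := by
    have := h.inv s hs s1
    rw [inv_eq_of_sq cc] at this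
    rw [Commute, SemiconjBy]
    conv_lhs => rw [← this, mul_assoc, ss, mul_one]
  have v : V4 c s := ⟨c1, fun e => s1 (e ▸ one_mem _), fun e => s1 (e ▸ mem_zpowers c), cc, ss, hc⟩
  refine Or.inr (Or.inl ⟨s, v, le_antisymm (fun g hg => ?_) (V4.le_iff.2 ⟨h.cT, hs⟩)⟩)
  have k := zpowers_le_of_mem (V4.t_mem (t := c) (s := s))
  by_cases e : g ∈ zpowers c
  · exact k e
  · exact (mul_mem_cancel_left V4.s_mem).1 (k (h.mul s hs g hg s1 e))

theorem comm_le (cc : c * c ≠ 1) {A : Subgroup G} (hn : A ≤ 𝐍(T)) : ⁅T, A⁆ ≤ zpowers c := by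
  refine commutator_le.2 fun x hx g hg => ?_
  rw [commutatorElement_def, mul_assoc, mul_assoc, ← mul_assoc g,
    h.mul_iff hx (H6.Cyc.conj_mem (hn hg) (inv_mem hx)),
    ← mem_normalizer_iff.1 (h.norm_zp cc (hn hg)), inv_mem_iff]

theorem cent_of_odd (cc : c * c ≠ 1) {A : Subgroup G} (hA : Odd 𝐨(A)) (hn : A ≤ 𝐍(T)) :
    A ≤ 𝐂(T) :=
  H1.le_centralizer_of_commutator_le hn (P4.coprime_of_odd h.two hA) (h.comm_le cc hn)
    (H6.Cyc.cent_cyc2 inferInstance (h.two.to_le h.le) hA (hn.trans (h.norm_zp cc)))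

end Dd

theorem dc_of_syl {S : Subgroup G} {c : G} (hS : IsSyl 2 S ⊤) (h : Dd S c) : DC G :=
  dc_of_dd fun T hT => by
    obtain ⟨g, -, h1⟩ := hS.exists_le_conj Nat.prime_two hT le_top
    obtain ⟨d, -, -, h2⟩ := (h.map _).sub h1
    exact ⟨d, h2⟩

theorem dd_of_max2 {S : Subgroup G} {x z s : G} (h : P4.Max2 S x z s) (hd : s * x * s = x⁻¹) :
    Dd S x := by
  have k : ∀ g ∈ S, g ∉ zpowers x → ∃ a ∈ zpowers x, g = s * a := fun g hg e =>
    ⟨s * g, (h.cover g hg).resolve_left e, by rw [← mul_assoc, h.ss, one_mul]⟩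
  refine ⟨h.syl.pgrp, h.xS, fun g hg e => ?_, fun g hg e => ?_,
    fun g a g' a' b b' => (h.mul_mem_iff a a').2 (iff_of_false b b')⟩
  · obtain ⟨a, ha, rfl⟩ := k g hg e
    rw [← mul_assoc, h.inv_of hd a ha, inv_mul_cancel]
  · obtain ⟨a, ha, rfl⟩ := k g hg e
    rw [mul_assoc s a, ← mul_assoc, h.inv_of hd _ (mul_mem ha (mem_zpowers x)), mul_inv_rev,
      inv_mul_cancel_right]

theorem dc_of_dih (h : P29.Dih G) : DC G := by
  obtain ⟨S, x, z, s, h1, h2⟩ := h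
  exact dc_of_syl h1.syl (dd_of_max2 h1 h2)

namespace DC

variable (h : DC G)
include h

omit [Finite G] in
theorem inj {K : Type v} [Group K] {f : K →* G} (hf : Function.Injective f) : DC K :=
  dc_of_dd fun T hT => by
    obtain ⟨c, h1⟩ := h.dd (hT.map f)
    obtain ⟨d, -, rfl⟩ := h1.cT
    exact ⟨d, Dd.comap hf h1⟩

omit [Finite G] in
theorem subgroup (X : Subgroup G) : DC X := h.inj X.subtype_injective

theorem surj {K : Type v} [Group K] {f : G →* K} (hf : Function.Surjective f) : DC K := by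
  have := Finite.of_surjective f hf
  obtain ⟨S⟩ : Nonempty (Sylow 2 G) := inferInstance
  obtain ⟨c, h1⟩ := h.dd S.isPGroup'
  exact dc_of_syl (isSyl_top_coe Nat.prime_two (S.mapSurjective hf)) (h1.map f)

theorem quotient (N : Subgroup G) [N.Normal] : DC (G ⧸ N) := h.surj (QuotientGroup.mk'_surjective N)

/-- Four-groups are self-centralizing in `2`-subgroups. -/
theorem four {t s : G} (v : V4 t s) {R : Subgroup G} (hR : IsPGroup 2 R) (hc : R ≤ 𝐂(VV t s)) :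
    R ≤ VV t s := fun g hg => by
  obtain ⟨c, h1⟩ := h.dd (isPGroup_sup hR v.isPGroup (hc.trans (cent_le_norm _)))
  have h2 := cent_VV t s ▸ hc hg
  exact h1.four v (mem_sup_right V4.t_mem) (mem_sup_right V4.s_mem) (mem_sup_left hg)
    (mem_cent1.1 h2.1) (mem_cent1.1 h2.2)

theorem syl_four {t s : G} (v : V4 t s) : IsSyl 2 (VV t s) 𝐂(VV t s) :=
  isSyl_of_maximal Nat.prime_two (V4.le_cent v) v.isPGroup
    fun _ h1 h2 h3 => le_antisymm (h.four v h3 h2) h1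

/-- No elementary abelian subgroup of order eight. -/
theorem invol_mem {t s j : G} (v : V4 t s) (jj : j * j = 1) (c1 : Commute t j) (c2 : Commute s j) :
    j ∈ VV t s :=
  h.four v (P4.isPGroup_zpowers_of_sq jj) (zpowers_le_of_mem (cent_VV t s ▸
    ⟨mem_cent1.2 c1, mem_cent1.2 c2⟩)) (mem_zpowers j)

theorem cent_or {T A : Subgroup G} (hT : IsPGroup 2 T) (hA : Odd 𝐨(A)) (hn : A ≤ 𝐍(T)) :
    A ≤ 𝐂(T) ∨ ∃ t s, V4 t s ∧ T = VV t s := by
  obtain ⟨c, h1⟩ := h.dd hT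
  rcases h1.cyc_or with e | ⟨s, e⟩ | e
  exacts [Or.inl (H6.Cyc.cent_cyc2 e hT hA hn), Or.inr ⟨c, s, e⟩, Or.inl (h1.cent_of_odd e.1 hA hn)]

/-- Without an element permuting a four-group cyclically there is a normal `2`-complement. -/
theorem npc {N : Subgroup G} (h0 : ∀ t ∈ N, ∀ s ∈ N, V4 t s → ∀ x ∈ N, ¬ Tri x t s) :
    HasNPC 2 N := by
  obtain ⟨S, hS⟩ := exists_isSyl Nat.prime_two N
  refine H6.Cyc.npc_frob hS fun X hX g hg ho => ?_
  rcases h.cent_or (hS.pgrp.to_le hX) (A := zpowers g) (by rwa [Nat.card_zpowers])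
    (zpowers_le_of_mem hg.2) with e | ⟨t, s, v, rfl⟩
  · exact e (mem_zpowers g)
  by_contra e
  have h1 := V4.le_iff.1 (hX.trans hS.le)
  rcases tri_of_odd v hg.2 ho e with e | e
  exacts [h0 t h1.1 s h1.2 v g hg.1 e, h0 t h1.1 s h1.2 v _ (inv_mem hg.1) e]

theorem npc_cent {j : G} (j1 : j ≠ 1) (jj : j * j = 1) : HasNPC 2 𝐂[j] :=
  h.npc fun t ht s hs v x hx tri => by
    obtain ⟨g, hg, e⟩ := tri.exists_conj v
      (h.invol_mem v jj (mem_cent1.1 ht).symm (mem_cent1.1 hs).symm) j1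
    have h1 := mem_cent1_iff_conj.1 (inv_mem (zpowers_le_of_mem hx hg))
    rw [← e] at h1 hx
    simp only [inv_inv, mul_assoc, inv_mul_cancel, mul_one, inv_mul_cancel_left] at h1
    rw [mul_assoc, ← h1] at hx
    exact tri.not_commute v (mem_cent1.1 hx).symm

theorem solv_cent {j : G} (j1 : j ≠ 1) (jj : j * j = 1) : Group.IsSolvable 𝐂[j] :=
  H6.Cyc.solv_of_npc (h.npc_cent j1 jj)

/-- Odd order subgroups of `C_X(j)` lie in `O(C_X(j))`. -/
theorem le_core {j : G} (j1 : j ≠ 1) (jj : j * j = 1) {K N : Subgroup G} (hN : N ≤ 𝐂[j])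
    (hK : K ≤ N) (ho : Odd 𝐨(K)) : K ≤ pPrimeCoreOf 2 N :=
  H6.Cyc.le_core ((h.npc_cent j1 jj).of_le Nat.prime_two hN) hK ho

/-- A subgroup of even order normalized by a four-group meets it. -/
theorem meet {t s : G} (v : V4 t s) {N : Subgroup G} (hn : VV t s ≤ 𝐍(N)) (h2 : 2 ∣ 𝐨(N)) :
    t ∈ N ∨ s ∈ N ∨ t * s ∈ N := by
  obtain ⟨T, hT, hV⟩ := exists_isSyl_ge Nat.prime_two v.isPGroup (le_sup_right : _ ≤ N ⊔ VV t s)
  have hN : N ⊲ N ⊔ VV t s := ⟨le_sup_left, sup_le (le_norm_self N) hn⟩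
  obtain ⟨z, hz, zc, z1, zz⟩ := P4.exists_invol_center hT.pgrp (N := T ⊓ N)
    ⟨inf_le_left, H1.le_normalizer_inf (le_norm_self T) (hT.le.trans hN.2)⟩
    ((hT.inf_normal Nat.prime_two hN).ne_bot Nat.prime_two h2)
  rcases v.mem_iff.1 (h.invol_mem v zz (mem_cent.1 zc t (hV V4.t_mem))
    (mem_cent.1 zc s (hV V4.s_mem))) with e | e | e | e
  exacts [absurd e z1, Or.inl (e ▸ hz.2), Or.inr (Or.inl (e ▸ hz.2)), Or.inr (Or.inr (e ▸ hz.2))]

/-- A perfect group normalizing a `2`-group centralizes it. -/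
theorem perf_two {T L : Subgroup G} (hT : IsPGroup 2 T) (hn : L ≤ 𝐍(T)) (hp : ⁅L, L⁆ = L) :
    L ≤ 𝐂(T) := by
  obtain ⟨c, h1⟩ := h.dd hT
  rcases h1.cyc_or with e | ⟨s, v, rfl⟩ | e
  · exact hp ▸ der_le_cent_of_cyclic e hn
  · have := (H6.Cyc.four_act (by rw [v.card]) hn).2
    rwa [hp, hp] at this
  have h2 : L ≤ 𝐂(zpowers c) := hp ▸ der_le_cent_of_cyclic inferInstance (hn.trans (h1.norm_zp e.1))
  have h3 : ⁅⁅T, L⁆, L⁆ = ⊥ := comm_eq_bot_iff.2 ((h1.comm_le e.1 hn).trans (cent_comm.1 h2))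
  rw [← comm_eq_bot_iff, ← hp]
  exact commutator_commutator_eq_bot_of_rotate (by rw [commutator_comm L T, h3]) (by rw [h3])

end DC

end Cfsg.Agent.P15
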