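/-
Dihedral Sylow 2-subgroups of order at least 8 and one class of involutions: the set-up for the
principal block.
-/
import Cfsg.Agent.P5.CharMain
import Cfsg.Agent.P3.Char2
import Cfsg.Agent.FT.P.PF02_2

set_option autoImplicit false
set_option linter.unusedSectionVars false

namespace Cfsg.Agent.P15.Ch

open Subgroup Cfsg Cfsg.Agent Cfsg.Agent.FT Cfsg.Agent.P1
open Cfsg.Agent.P5 (inv_eq_of_sq eq_one_of_odd pow_card_of_mem mul_pow_odd)
open scoped ComplexConjugate commutatorElement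

universe u

variable {G : Type u} [Group G] [Finite G]

theorem sum_two {M : Type*} [AddCommMonoid M] {A H : Subgroup G} {s : G} (hA : A ≤ H) (sH : s ∈ H)
    (sA : s ∉ A) (ss : s * s = 1) (cover : ∀ g ∈ H, g ∈ A ∨ s * g ∈ A) (f : G → M) :
    ∑ g ∈ fs (H : Set G), f g = ∑ x ∈ fs (A : Set G), f x + ∑ x ∈ fs (A : Set G), f (s * x) := by
  have e : ∀ g, s * (s * g) = g := fun g => by rw [← mul_assoc, ss, one_mul]
  have h1 : (H : Set G) = (A : Set G) ∪ {g | s * g ∈ A} := Set.ext fun g =>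
    ⟨cover g, fun hg => hg.elim (fun hg => hA hg) fun hg => (mul_mem_cancel_left sH).1 (hA hg)⟩
  have hd : Disjoint (A : Set G) {g | s * g ∈ A} :=
    Set.disjoint_left.2 fun g h1 h2 => sA ((mul_mem_cancel_right h1).1 h2)
  rw [h1, sum_fs_union hd]
  congr 1
  exact (sum_fs_bij (A := (A : Set G)) (B := {g | s * g ∈ A}) (fun x => s * x)
    ⟨fun x hx => by change s * (s * x) ∈ A; rwa [e], fun x _ y _ e => mul_left_cancel e,
      fun g hg => ⟨s * g, hg, e g⟩⟩ f).symm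

open Classical in
theorem sum_twist {R : Type*} [CommSemiring R] {K : Subgroup G} {a : G} (hn : a ∈ 𝐍(K))
    {C : Subgroup G} (hC : C ≤ K) (F : G → R) (hF : ∀ x ∈ K, ∀ g : G, F (x * g * x⁻¹) = F g) :
    (𝐨(K) : R) * ∑ c ∈ fs (C : Set G), F (c * a) = ∑ k ∈ fs (K : Set G), F (k * a) *
      ((fs (K : Set G)).filter fun x => x⁻¹ * k * (a * x * a⁻¹) ∈ C).card := by
  have h1 : ∀ k, F (k * a) * ((fs (K : Set G)).filter fun x => x⁻¹ * k * (a * x * a⁻¹) ∈ C).card =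
      ∑ x ∈ fs (K : Set G), if x⁻¹ * k * (a * x * a⁻¹) ∈ C then
        F (x⁻¹ * k * (a * x * a⁻¹) * a) else 0 := by
    intro k
    rw [← Finset.sum_filter, Finset.sum_congr rfl (g := fun _ => F (k * a)) fun x hx => ?_,
      Finset.sum_const, nsmul_eq_mul, mul_comm]
    rw [← hF x⁻¹ (inv_mem (mem_fs.1 (Finset.mem_filter.1 hx).1)) (k * a)]
    congr 1; group
  simp_rw [h1]
  rw [Finset.sum_comm, ← nsmul_eq_mul, ← sum_fs_const]
  refine sum_fs_congr fun x hx => ?_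
  rw [sum_fs_mul_left (inv_mem hx) (fun k => if k * (a * x * a⁻¹) ∈ C then
        F (k * (a * x * a⁻¹) * a) else 0),
    sum_fs_mul_right ((mem_normalizer_iff.1 hn x).1 hx) (fun k => if k ∈ C then
        F (k * a) else 0), ← sum_fs_subset (A := (C : Set G)) hC]
  · exact sum_fs_congr fun c hc => (if_pos hc).symm
  · exact fun c _ hc => if_neg hc

/-- Averaging over a coset under a coprime action. -/
theorem avg_coprime {π : Set ℕ} {K : Subgroup G} {a : G} (ha : IsPiElt π a)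
    (hK : IsPiSubgroup πᶜ K) (hn : a ∈ 𝐍(K)) (F : G → ℂ)
    (hF : ∀ x ∈ K, ∀ g : G, F (x * g * x⁻¹) = F g) :
    (𝐨(K) : ℂ)⁻¹ * ∑ k ∈ fs (K : Set G), F (k * a) =
      (𝐨(K ⊓ 𝐂[a]) : ℂ)⁻¹ * ∑ c ∈ fs ((K ⊓ 𝐂[a] : Subgroup G) : Set G), F (c * a) := by
  classical
  obtain ⟨C, hC⟩ : ∃ C, C = K ⊓ 𝐂[a] := ⟨_, rfl⟩
  rw [← hC]
  have hCK : C ≤ K := hC.le.trans inf_le_left
  have h0 : ∀ k x, x⁻¹ * k * (a * x * a⁻¹) ∈ C → piPt π (k * a) = x * a * x⁻¹ := by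
    intro k x hx
    rw [hC] at hx
    have hc := mem_cent1_iff_commute.1 (mem_inf.1 hx).2
    have h2 := piPt_mul_eq ha (isPiElt_of_mem hK (mem_inf.1 hx).1) hc
    rw [hc.eq] at h2
    have h3 := piPt_conj π (x⁻¹ * k * (a * x * a⁻¹) * a) x
    rw [h2] at h3
    rw [← h3]
    congr 1; group
  have h1 : ∀ k ∈ fs (K : Set G),
      ((fs (K : Set G)).filter fun x => x⁻¹ * k * (a * x * a⁻¹) ∈ C).card ≤ 𝐨(C) := by
    intro k _
    rcases Finset.eq_empty_or_nonempty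
      ((fs (K : Set G)).filter fun x => x⁻¹ * k * (a * x * a⁻¹) ∈ C) with e | ⟨y, hy⟩
    · rw [e]; simp
    rw [← card_fs_coe C]
    refine Finset.card_le_card_of_injOn (fun x => y⁻¹ * x) (fun x hx => ?_)
      fun x _ z _ e => by simpa using e
    rw [Finset.mem_coe, Finset.mem_filter, mem_fs] at hx
    rw [Finset.mem_filter, mem_fs] at hy
    rw [Finset.mem_coe, mem_fs, hC]
    refine mem_inf.2 ⟨mul_mem (inv_mem hy.1) hx.1, mem_cent1_iff_conj.2 ?_⟩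
    calc y⁻¹ * x * a * (y⁻¹ * x)⁻¹ = y⁻¹ * (x * a * x⁻¹) * y := by group
      _ = a := by rw [← h0 k x hx.2, h0 k y hy.2]; group
  have h2 := sum_twist hn hCK (fun _ => (1 : ℕ)) fun _ _ _ => rfl
  simp only [one_mul, Nat.cast_id, sum_fs_const, smul_eq_mul, mul_one] at h2
  have h3 := (Finset.sum_eq_sum_iff_of_le h1).1 (by rw [← h2, sum_fs_const, smul_eq_mul])
  have h4 := sum_twist hn hCK F hF
  rw [Finset.sum_congr (s₁ := fs (K : Set G)) rfl (g := fun k => F (k * a) * 𝐨(C))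
    (fun k hk => by rw [h3 k hk]),
    ← Finset.sum_mul] at h4
  rw [inv_mul_eq_iff_eq_mul₀ (card_ne_zero_C _), mul_left_comm, h4, mul_comm,
    mul_inv_cancel_right₀ (card_ne_zero_C _)]

theorem sum_coset_eq {X M A : Subgroup G} (hM : M ⊲ A) (hA : A ≤ X) {χ : G → ℂ} (hχ : χ ∈ CF X)
    {u : G} (hu : u ∈ A) :
    ∑ y ∈ fs (M : Set G), χ (y * u) = 𝐨(M) * ∑ φ ∈ irrKer A M, ip A χ φ * φ u := by
  classical
  have h2 : ∀ y ∈ (M : Set G), χ (y * u) = ∑ φ ∈ Irr A, ip A χ φ * φ (y * u) := by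
    intro y hy
    have := apply_eq_sum_irr (res_mem_CF hA hχ : res A χ ∈ _) (y * u)
    rw [res_of_mem _ (mul_mem (hM.1 hy) hu)] at this
    simpa only [ip_res_left] using this
  rw [sum_fs_congr h2, Finset.sum_comm]
  simp only [← Finset.mul_sum]
  rw [Finset.sum_congr rfl fun φ hφ => by rw [sum_coset hM hφ u], irrKer, Finset.sum_filter,
    Finset.mul_sum]
  refine Finset.sum_congr rfl fun φ _ => ?_
  split_ifs <;> ring

theorem sum_coset_B0 {X : Subgroup G} {p : ℕ} (hp : p.Prime) {u : G} {j : ℕ} (uX : u ∈ X)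
    (hu : u ^ p ^ j = 1) {M : Subgroup G} {k : ℕ} (hM : M ⊲ X ⊓ 𝐂[u]) (hc : (𝐨(M)).Coprime p)
    (hk : M.relIndex (X ⊓ 𝐂[u]) = p ^ k) {χ : G → ℂ} (hχ : χ ∈ Irr X) [Decidable (χ ∈ B0 p X)] :
    ∑ y ∈ fs (M : Set G), χ (y * u) = if χ ∈ B0 p X then 𝐨(M) * χ u else 0 := by
  classical
  have h1 := B0_second hp (K := X) (u := u) (y := 1) uX hu (one_mem_regSet _ _) hχ
  rw [mul_one, B0_eq_irrKer hp hM hc hk] at h1
  rw [sum_coset_eq hM inf_le_left (irr_mem_CF hχ) ⟨uX, self_mem_cent1 u⟩, h1]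
  split_ifs <;> simp

/-- `X` has one class of involutions and `C_X(t) = U ⟨a, s⟩` with `⟨a, s⟩` dihedral of order
`2 ^ (n + 3)` and `U` of odd order. -/
structure DH (X U : Subgroup G) (a t s : G) (n : ℕ) : Prop where
  aX : a ∈ X
  sX : s ∈ X
  ord : orderOf a = 2 ^ (n + 2)
  pw : a ^ 2 ^ (n + 1) = t
  ss : s * s = 1
  inv : s * a * s = a⁻¹
  UX : U ≤ X
  Ut : U ≤ 𝐂[t]
  odd : Odd 𝐨(U)
  aU : a ∈ 𝐍(U)
  sU : s ∈ 𝐍(U)
  cover : ∀ g ∈ X ⊓ 𝐂[t], g ∈ U ⊔ zpowers a ∨ s * g ∈ U ⊔ zpowers a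
  fus : ∀ j ∈ X, j ≠ 1 → j * j = 1 → ∃ g ∈ X, g * t * g⁻¹ = j

namespace DH

variable {X U : Subgroup G} {a t s : G} {n : ℕ} (h : DH X U a t s n)
include h

theorem pow_a : a ^ 2 ^ (n + 2) = 1 := h.ord ▸ pow_orderOf_eq_one a

theorem tt : t * t = 1 := by rw [← h.pw, ← pow_add, ← two_mul, ← pow_succ', h.pow_a]

theorem t1 : t ≠ 1 := fun e => by
  have := orderOf_dvd_of_pow_eq_one (h.pw.trans e)
  rw [h.ord, Nat.pow_dvd_pow_iff_le_right one_lt_two] at this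
  omega

theorem tK : t ∈ zpowers a := h.pw ▸ pow_mem (mem_zpowers a) _

theorem KX : zpowers a ≤ X := zpowers_le.2 h.aX

theorem tX : t ∈ X := h.KX h.tK

theorem Kt : zpowers a ≤ 𝐂[t] :=
  zpowers_le.2 (mem_cent1_iff_commute.2 (h.pw ▸ (Commute.refl a).pow_left _))

theorem KU : zpowers a ≤ 𝐍(U) := zpowers_le.2 h.aU

theorem pow_K {y : G} (hy : y ∈ zpowers a) : y ^ 2 ^ (n + 2) = 1 := by
  obtain ⟨i, rfl⟩ := mem_zpowers_iff.1 hy
  rw [← zpow_natCast, ← zpow_mul, mul_comm, zpow_mul, zpow_natCast, h.pow_a, one_zpow]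

theorem invK {y : G} (hy : y ∈ zpowers a) : s * y * s = y⁻¹ := by
  have := P5.inverts_of_mem_zpowers (s := s) (by rw [inv_eq_of_sq h.ss, h.inv]) hy
  rwa [inv_eq_of_sq h.ss] at this

theorem uniq {y : G} (hy : y ∈ zpowers a) (yy : y * y = 1) : y = 1 ∨ y = t := by
  obtain ⟨i, rfl⟩ : ∃ i : ℕ, a ^ i = y := mem_powers_iff_mem_zpowers.2 hy
  have h1 := orderOf_dvd_of_pow_eq_one (x := a) (n := 2 * i) (by rw [two_mul, pow_add, yy])
  rw [h.ord, pow_succ', Nat.mul_dvd_mul_iff_left two_pos] at h1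
  obtain ⟨c, rfl⟩ := h1
  rw [pow_mul, h.pw]
  rcases Nat.even_or_odd' c with ⟨d, rfl | rfl⟩
  · left; rw [pow_mul, sq, h.tt, one_pow]
  · right; rw [pow_succ, pow_mul, sq, h.tt, one_pow, one_mul]

theorem disj {y : G} (hy : y ∈ zpowers a) (hU : y ∈ U) : y = 1 :=
  orderOf_eq_one_iff.1 (Nat.eq_one_of_dvd_coprimes
    ((Nat.coprime_two_right.2 h.odd).pow_right (n + 2)) (orderOf_dvd_card_of_mem hU)
    (orderOf_dvd_of_pow_eq_one (h.pow_K hy)))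

theorem sd : SdProd U (zpowers a) (U ⊔ zpowers a) :=
  ⟨rfl, h.KU, eq_bot_iff.2 fun _ hy => h.disj hy.2 hy.1⟩

theorem UH : U ≤ X ⊓ 𝐂[t] := le_inf h.UX h.Ut

theorem AH : U ⊔ zpowers a ≤ X ⊓ 𝐂[t] := sup_le h.UH (le_inf h.KX h.Kt)

theorem AX : U ⊔ zpowers a ≤ X := h.AH.trans inf_le_left

theorem tA : t ∈ U ⊔ zpowers a := mem_sup_right h.tK

theorem sH : s ∈ X ⊓ 𝐂[t] := ⟨h.sX, mem_cent1_iff_conj.2 (by
  rw [inv_eq_of_sq h.ss, h.invK h.tK, inv_eq_of_sq h.tt])⟩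

theorem AU : U ⊔ zpowers a ≤ 𝐍(U) := h.sd.le_norm

theorem HU : X ⊓ 𝐂[t] ≤ 𝐍(U) := fun g hg => (h.cover g hg).elim (fun e => h.AU e) fun e =>
  (mul_mem_cancel_left h.sU).1 (h.AU e)

theorem dec {g : G} (hg : g ∈ U ⊔ zpowers a) : ∃ u ∈ U, ∃ y ∈ zpowers a, u * y = g :=
  (mem_sup_of_norm h.KU).1 hg

theorem t_notMem : t ∉ U := fun e => h.t1 (h.disj h.tK e)

theorem sq_mem {g : G} (hg : g ∈ U ⊔ zpowers a) (h2 : g * g ∈ U) : g ∈ U ∨ g * t ∈ U := by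
  obtain ⟨u, hu, y, hy, rfl⟩ := h.dec hg
  have h3 : y * y ∈ U := by
    have := (mem_normalizer_iff.1 (h.KU hy) u).1 hu
    have h4 := mul_mem (inv_mem (mul_mem hu this)) h2
    rwa [show (u * (y * u * y⁻¹))⁻¹ * (u * y * (u * y)) = y * y by group] at h4
  rcases h.uniq hy (h.disj (mul_mem hy hy) h3) with rfl | rfl
  · left; simpa
  · right; rwa [mul_assoc, h.tt, mul_one]

theorem invol {j : G} (hj : j ∈ U ⊔ zpowers a) (jj : j * j = 1) : j = 1 ∨ j = t := by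
  refine (h.sq_mem hj (jj ▸ one_mem U)).imp (fun e => eq_one_of_odd h.odd e jj) fun e => ?_
  have c := mem_cent1_iff_commute.1 (h.AH hj).2
  have := eq_one_of_odd h.odd e (by
    rw [mul_assoc, ← mul_assoc t, c.eq, mul_assoc j t t, h.tt, mul_one, jj])
  rw [← inv_eq_of_sq h.tt, ← mul_eq_one_iff_eq_inv, this]

theorem a_sq : a * a ≠ 1 := fun e => by
  have := orderOf_dvd_of_pow_eq_one (x := a) (n := 2 ^ 1) (by rw [pow_one, sq, e])
  rw [h.ord, Nat.pow_dvd_pow_iff_le_right one_lt_two] at this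
  omega

theorem sA : s ∉ U ⊔ zpowers a := fun e => by
  have h1 : Commute s a := by
    rcases h.invol e h.ss with e | e
    · rw [e]; exact Commute.one_left a
    · rw [e]; exact mem_cent1_iff_commute.1 (h.Kt (mem_zpowers a))
  have h2 := h.inv
  rw [h1.eq, mul_assoc, h.ss, mul_one] at h2
  exact h.a_sq (mul_eq_one_iff_eq_inv.2 h2)

theorem sum_H {M : Type*} [AddCommMonoid M] (f : G → M) :
    ∑ g ∈ fs ((X ⊓ 𝐂[t] : Subgroup G) : Set G), f g =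
      ∑ x ∈ fs ((U ⊔ zpowers a : Subgroup G) : Set G), f x +
        ∑ x ∈ fs ((U ⊔ zpowers a : Subgroup G) : Set G), f (s * x) :=
  sum_two h.AH h.sH h.sA h.ss h.cover f

theorem card_K : 𝐨(zpowers a) = 2 ^ (n + 2) := by rw [Nat.card_zpowers, h.ord]

theorem card_A : 𝐨((U ⊔ zpowers a : Subgroup G)) = 𝐨(U) * 2 ^ (n + 2) := by
  rw [h.sd.card, h.card_K]

theorem card_H : 𝐨((X ⊓ 𝐂[t] : Subgroup G)) = 2 * 𝐨((U ⊔ zpowers a : Subgroup G)) := by
  have := h.sum_H fun _ => (1 : ℕ)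
  simp only [sum_fs_const, smul_eq_mul, mul_one] at this
  omega

theorem idx_U : U.relIndex (X ⊓ 𝐂[t]) = 2 ^ (n + 3) :=
  Nat.eq_of_mul_eq_mul_left Nat.card_pos (by
    rw [H1.card_mul_relIndex h.UH, h.card_H, h.card_A]; ring)

theorem pow_mem_U {g : G} (hg : g ∈ U ⊔ zpowers a) (m : ℕ) :
    ∃ u ∈ U, ∃ y ∈ zpowers a, u * y = g ∧ g ^ m * (y ^ m)⁻¹ ∈ U := by
  obtain ⟨u, hu, y, hy, rfl⟩ := h.dec hg
  refine ⟨u, hu, y, hy, rfl, ?_⟩
  induction m with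
  | zero => simp
  | succ m ih =>
    have := mul_mem hu ((mem_normalizer_iff.1 (h.KU hy) _).1 ih)
    rwa [show u * (y * ((u * y) ^ m * (y ^ m)⁻¹) * y⁻¹) = (u * y) ^ (m + 1) * (y ^ (m + 1))⁻¹ by
      rw [pow_succ', pow_succ']; group] at this

theorem exists_pow {g : G} (hg : g ∈ U ⊔ zpowers a) (hU : g ∉ U) : ∃ m : ℕ, g ^ m = t := by
  have key : ∀ k : ℕ, ∀ g ∈ U ⊔ zpowers a, g ∉ U → g ^ 2 ^ k ∈ U → ∃ m : ℕ, g ^ m = t := by
    intro k
    induction k with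
    | zero => exact fun g _ h1 h2 => absurd (by simpa using h2) h1
    | succ k ih =>
      intro g hg h1 h2
      by_cases e : g * g ∈ U
      · have h3 := (h.sq_mem hg e).resolve_left h1
        have := mul_pow_odd h.odd h.tt (mem_cent1_iff_commute.1 (h.Ut h3)) (pow_card_of_mem h3)
        exact ⟨_, by rwa [mul_assoc, h.tt, mul_one] at this⟩
      · obtain ⟨m, hm⟩ := ih _ (mul_mem hg hg) e (by rwa [← sq, ← pow_mul, ← pow_succ'])
        exact ⟨2 * m, by rw [pow_mul, sq, hm]⟩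
  obtain ⟨u, -, y, hy, -, e⟩ := h.pow_mem_U hg (2 ^ (n + 2))
  exact key (n + 2) g hg hU (by simpa [h.pow_K hy] using e)

theorem sgs {g : G} (hg : g ∈ U ⊔ zpowers a) : s * g * s ∈ U ⊔ zpowers a :=
  (h.cover _ (mul_mem (mul_mem h.sH (h.AH hg)) h.sH)).resolve_right fun e => h.sA (by
    rw [← mul_assoc, ← mul_assoc, h.ss, one_mul] at e
    exact (mul_mem_cancel_left hg).1 e)

theorem HA : X ⊓ 𝐂[t] ≤ 𝐍(U ⊔ zpowers a) := by
  have h1 : s ∈ 𝐍(U ⊔ zpowers a) := mem_normalizer_iff.2 fun g => by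
    rw [inv_eq_of_sq h.ss]
    refine ⟨h.sgs, fun e => ?_⟩
    have := h.sgs e
    rwa [← mul_assoc, ← mul_assoc, h.ss, one_mul, mul_assoc, h.ss, mul_one] at this
  exact fun g hg => (h.cover g hg).elim (fun e => le_norm_self _ e) fun e =>
    (mul_mem_cancel_left h1).1 (le_norm_self _ e)

theorem mem_H {x g : G} (hx : x ∈ X) (hg : g ∈ U ⊔ zpowers a) (hU : g ∉ U)
    (e : x * g * x⁻¹ ∈ U ⊔ zpowers a) : x ∈ X ⊓ 𝐂[t] := by
  obtain ⟨m, hm⟩ := h.exists_pow hg hU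
  have h1 := pow_mem e m
  rw [conj_pow, hm] at h1
  exact ⟨hx, mem_cent1_iff_conj.2 ((h.invol h1 (by
    rw [conj_mul, h.tt, mul_one, mul_inv_cancel])).resolve_left (by simpa using h.t1))⟩

theorem normedTI : NormedTI ((U ⊔ zpowers a : Subgroup G) \ U) X (X ⊓ 𝐂[t]) where
  nonempty := ⟨t, h.tA, h.t_notMem⟩
  one_notMem e := e.2 (one_mem U)
  subset _ hg := h.AH hg.1
  le := inf_le_left
  norm g hg x hx := ⟨(mem_normalizer_iff.1 (h.HA hg) x).1 hx.1,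
    fun e => hx.2 ((mem_normalizer_iff.1 (h.HU hg) x).2 e)⟩
  ti _ hg _ hx e := h.mem_H hg hx.1 hx.2 e.1

theorem avg {y : G} (hy : y ∈ zpowers a) (y1 : y ≠ 1) {χ : G → ℂ} (hχ : χ ∈ Irr X)
    [Decidable (χ ∈ B0 2 X)] :
    ∑ u ∈ fs (U : Set G), χ (u * y) = if χ ∈ B0 2 X then 𝐨(U) * χ y else 0 := by
  have hc := Nat.coprime_two_right.2 h.odd
  have h1 : X ⊓ 𝐂[y] ≤ X ⊓ 𝐂[t] := fun x hx => h.mem_H hx.1 (mem_sup_right hy)
    (fun e => y1 (h.disj hy e)) (by rw [mem_cent1_iff_conj.1 hx.2]; exact mem_sup_right hy)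
  have h2 : (U ⊓ 𝐂[y]).relIndex (X ⊓ 𝐂[y]) ∣ 2 ^ (n + 3) := by
    have := H1.normal_subgroupOf_of_le h.HU
    rw [← h.idx_U, show U ⊓ 𝐂[y] = U ⊓ (X ⊓ 𝐂[y]) by
      rw [← inf_assoc, inf_eq_left.2 h.UX], inf_relIndex_right]
    rw [← relIndex_subgroupOf h1]
    exact relIndex_dvd_index_of_normal _ _
  obtain ⟨k, -, hk⟩ := (Nat.dvd_prime_pow Nat.prime_two).1 h2
  have h3 := sum_coset_B0 Nat.prime_two (h.KX hy) (h.pow_K hy) (M := U ⊓ 𝐂[y])
    ⟨inf_le_inf_right _ h.UX, H1.le_normalizer_inf (h1.trans h.HU)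
      (inf_le_right.trans (le_norm_self _))⟩
    (hc.coprime_dvd_left (Subgroup.card_dvd_of_le inf_le_left)) hk hχ
  have h4 := avg_coprime (π := {2}) (K := U) (a := y)
    (fun p hp hd => (Nat.prime_dvd_prime_iff_eq hp Nat.prime_two).1
      (hp.dvd_of_dvd_pow (hd.trans (orderOf_dvd_of_pow_eq_one (h.pow_K hy)))))
    ((isPi_compl_singleton_iff Nat.prime_two).2 hc) (h.KU hy) χ
    fun x hx g => CF_conj (irr_mem_CF hχ) (h.UX hx) g
  rw [h3, inv_mul_eq_iff_eq_mul₀ (card_ne_zero_C _)] at h4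
  rw [h4]
  split_ifs
  · rw [inv_mul_cancel_left₀ (card_ne_zero_C _)]
  · simp

end DH

end Cfsg.Agent.P15.Ch
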