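/-
Dihedral Sylow 2-subgroups: the virtual characters `(1 - ν)^X`.
-/
import Cfsg.Agent.P15.Ch1

set_option autoImplicit false
set_option linter.unusedSectionVars false

namespace Cfsg.Agent.P15.Ch

open Subgroup Cfsg Cfsg.Agent Cfsg.Agent.FT Cfsg.Agent.P1
open Cfsg.Agent.P5 (inv_eq_of_sq eq_one_of_odd pow_card_of_mem mul_pow_odd)
open scoped ComplexConjugate commutatorElement

universe u

variable {G : Type u} [Group G] [Finite G]

/-- `(1 - ν)^X`. -/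
noncomputable def th (X A : Subgroup G) (ν : G → ℂ) : G → ℂ := ind X A (cf1 A - ν)

/-- The class multiplication functional. -/
noncomputable def FF (X : Subgroup G) (t : G) (φ : G → ℂ) : ℂ :=
  ∑ b ∈ fs (X : Set G), ∑ c ∈ fs (X : Set G), φ (c * t * c⁻¹ * (b * t * b⁻¹))

/-- The involutions of the coset `s A`. -/
def Inv (A : Subgroup G) (s : G) : Set G := {j | s * j ∈ A ∧ j * j = 1}

theorem FF_add (X : Subgroup G) (t : G) (φ ψ : G → ℂ) : FF X t (φ + ψ) = FF X t φ + FF X t ψ := by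
  simp [FF, Finset.sum_add_distrib]

theorem FF_dirr {X : Subgroup G} {t : G} (ht : t ∈ X) {φ : G → ℂ} (hφ : Dirr X φ) :
    FF X t φ = 𝐨(X) ^ 2 * (φ t ^ 2 / φ 1) := by
  rcases hφ with h | h
  · exact P5.Hyp.sum_sum_irr h ht
  · have := P5.Hyp.sum_sum_irr h ht
    simp only [Pi.neg_apply, Finset.sum_neg_distrib, neg_sq, div_neg, mul_neg, neg_inj] at this
    exact this

theorem ip_swap_of_supp {H : Subgroup G} {A : Set G} {φ φ' ψ : G → ℂ}
    (hψ : ∀ x ∈ H, x ∉ A → ψ x = 0) (h : ∀ x ∈ A, φ x = φ' x) : ip H φ ψ = ip H φ' ψ := by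
  rw [← conj_ip, ip_congr_of_supp hψ h, conj_ip]

namespace DH

variable {X U : Subgroup G} {a t s : G} {n : ℕ} (h : DH X U a t s n)
include h

theorem commK : IsMulCommutative (zpowers a) := inferInstance

theorem lin {ν : G → ℂ} (hν : ν ∈ irrKer (U ⊔ zpowers a) U) : IsLin (U ⊔ zpowers a) ν :=
  (irr_isChar (irrKer_subset _ _ hν)).isLin (by
    simpa using (isLin_of_comm h.commK (h.sd.res_mem_Irr hν)).2.1)

omit h in
theorem val_mul {ν : G → ℂ} (hν : ν ∈ irrKer (U ⊔ zpowers a) U) {u : G} (hu : u ∈ U) (g : G) :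
    ν (u * g) = ν g := mem_cfKer.1 ((mem_irrKer.1 hν).2 hu) g

theorem val_U {ν : G → ℂ} (hν : ν ∈ irrKer (U ⊔ zpowers a) U) {u : G} (hu : u ∈ U) : ν u = 1 := by
  rw [← mul_one u, val_mul hν hu, (h.lin hν).2.1]

theorem val_s {ν : G → ℂ} (hν : ν ∈ irrKer (U ⊔ zpowers a) U) {g : G} (hg : g ∈ U ⊔ zpowers a) :
    ν (s * g * s) = conj (ν g) := by
  obtain ⟨u, hu, y, hy, rfl⟩ := h.dec hg
  have h1 := (mem_normalizer_iff.1 h.sU u).1 hu
  rw [show s * (u * y) * s = s * u * s⁻¹ * (s * y * s) by group, val_mul hν h1, h.invK hy,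
    val_mul hν hu, (h.lin hν).isChar.apply_inv]

theorem val_t {ν : G → ℂ} (hν : ν ∈ irrKer (U ⊔ zpowers a) U) : ν t = 1 ∨ ν t = -1 := by
  rw [← mul_self_eq_one_iff, ← (h.lin hν).2.2 t h.tA t h.tA, h.tt, (h.lin hν).2.1]

theorem ext_a {ν μ : G → ℂ} (hν : ν ∈ irrKer (U ⊔ zpowers a) U) (hμ : μ ∈ irrKer (U ⊔ zpowers a) U)
    (e : ν a = μ a) : ν = μ :=
  CF_ext (h.lin hν).mem_CF (h.lin hμ).mem_CF fun g hg => by
    obtain ⟨u, hu, y, hy, rfl⟩ := h.dec hg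
    obtain ⟨i, rfl⟩ : ∃ i : ℕ, a ^ i = y := mem_powers_iff_mem_zpowers.2 hy
    have ha : a ∈ U ⊔ zpowers a := mem_sup_right (mem_zpowers a)
    rw [val_mul hν hu, val_mul hμ hu, (h.lin hν).pow_apply ha, (h.lin hμ).pow_apply ha, e]

theorem one_mem_L : cf1 (U ⊔ zpowers a) ∈ irrKer (U ⊔ zpowers a) U := cf1_mem_irrKer le_sup_left

theorem card_L : (irrKer (U ⊔ zpowers a) U).card = 2 ^ (n + 2) := by
  rw [h.sd.card_irrKer, card_Irr_of_comm h.commK, h.card_K]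

theorem real_iff {ν : G → ℂ} (hν : ν ∈ irrKer (U ⊔ zpowers a) U) :
    star ν = ν ↔ ν a = 1 ∨ ν a = -1 := by
  have ha : a ∈ U ⊔ zpowers a := mem_sup_right (mem_zpowers a)
  have h1 := (h.lin hν).mul_conj ha
  rw [← mul_self_eq_one_iff]
  refine ⟨fun e => by rwa [← star_apply', e] at h1, fun e => h.ext_a (star_mem_irrKer hν) hν ?_⟩
  rw [star_apply']
  exact mul_left_cancel₀ ((h.lin hν).ne_zero ha) (h1.trans e.symm)

theorem exists_real : ∃ l ∈ irrKer (U ⊔ zpowers a) U, l a = -1 := by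
  have hn : U ⊔ zpowers (a * a) ≤ U ⊔ zpowers a :=
    sup_le_sup_left (zpowers_le.2 (mul_mem (mem_zpowers a) (mem_zpowers a))) _
  have h1 : a ∈ 𝐍(U ⊔ zpowers (a * a)) := H1.le_normalizer_sup (A := zpowers a) h.KU
    ((zpowers_le.2 (mem_cent1_iff_commute.2 ((Commute.refl a).mul_left (Commute.refl a)))).trans
      (by rw [← cent_zpowers]; exact cent_le_norm _)) (mem_zpowers a)
  have h2 : a ∉ U ⊔ zpowers (a * a) := fun e => by
    obtain ⟨u, hu, y, hy, e⟩ := (mem_sup_of_norm (zpowers_le.2 (mul_mem h.aU h.aU))).1 e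
    obtain ⟨i, rfl⟩ : ∃ i : ℕ, (a * a) ^ i = y := mem_powers_iff_mem_zpowers.2 hy
    have h3 := h.disj (y := u) (by
      rw [eq_mul_inv_of_mul_eq e]
      exact mul_mem (mem_zpowers a) (inv_mem (pow_mem (mul_mem (mem_zpowers a) (mem_zpowers a)) i)))
      hu
    rw [h3, one_mul, ← sq, ← pow_mul] at e
    have h4 := (pow_eq_pow_iff_modEq.1 (e.trans (pow_one a).symm)).of_dvd
      (h.ord ▸ dvd_pow_self 2 (by omega) : 2 ∣ orderOf a)
    simp [Nat.ModEq] at h4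
  obtain ⟨l, hl, h3⟩ := exists_irrKer_notMem_cfKer (K := U ⊔ zpowers a) (N := U ⊔ zpowers (a * a))
    ⟨hn, sup_le (le_sup_left.trans (le_norm_self _)) (zpowers_le.2 h1)⟩ h2
  have hl' := irrKer_anti _ le_sup_left hl
  have ha : a ∈ U ⊔ zpowers a := mem_sup_right (mem_zpowers a)
  have h4 := (h.lin hl').mem_cfKer_iff.1 ((mem_irrKer.1 hl).2 (mem_sup_right (mem_zpowers _)))
  rw [(h.lin hl').2.2 a ha a ha, mul_self_eq_one_iff] at h4
  exact ⟨l, hl', h4.resolve_left (mt (h.lin hl').mem_cfKer_iff.2 h3)⟩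

theorem sub_U {ν : G → ℂ} (hν : ν ∈ irrKer (U ⊔ zpowers a) U) {x : G} (hx : x ∈ U ⊔ zpowers a)
    (e : x ∉ ((U ⊔ zpowers a : Subgroup G) : Set G) \ U) : (cf1 (U ⊔ zpowers a) - ν) x = 0 := by
  rw [Pi.sub_apply, cf1_of_mem hx, h.val_U hν (not_not.1 fun e' => e ⟨hx, e'⟩), sub_self]

theorem th_apply {ν : G → ℂ} (hν : ν ∈ irrKer (U ⊔ zpowers a) U) {g : G} (hg : g ∈ U ⊔ zpowers a)
    (hU : g ∉ U) : th X (U ⊔ zpowers a) ν g = 2 - ν g - conj (ν g) := by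
  have hc := sub_mem (cf1_mem_CF (U ⊔ zpowers a)) (h.lin hν).mem_CF
  rw [th, ← ind_ind inf_le_left h.AH, h.normedTI.ind_apply (ind_mem_CFon_of_norm h.normedTI.norm
    fun x hx e => h.sub_U hν hx e) ⟨hg, hU⟩, ind_of_mem _ _ (h.AH hg), res_of_mem_CF hc, h.sum_H,
    sum_fs_congr fun x hx => CF_conj' hc hx g, sum_fs_const, sum_fs_congr (g := fun _ =>
      (cf1 (U ⊔ zpowers a) - ν) (s * g * s)) fun x hx => by
        rw [← CF_conj' hc hx (s * g * s), mul_inv_rev, inv_eq_of_sq h.ss]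
        simp only [mul_assoc], sum_fs_const, Pi.sub_apply, Pi.sub_apply,
    cf1_of_mem hg, cf1_of_mem (h.sgs hg), h.val_s hν hg]
  have := card_ne_zero_C (U ⊔ zpowers a)
  simp only [nsmul_eq_mul]
  field_simp
  ring

theorem th_vchar {ν : G → ℂ} (hν : ν ∈ irrKer (U ⊔ zpowers a) U) :
    th X (U ⊔ zpowers a) ν ∈ VChar X :=
  vchar_ind h.AX (sub_mem (cf1_mem_VChar _) (irr_mem_VChar (irrKer_subset _ _ hν)))

theorem th_one {ν : G → ℂ} (hν : ν ∈ irrKer (U ⊔ zpowers a) U) :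
    th X (U ⊔ zpowers a) ν 1 = 0 := by
  rw [th, ind_one h.AX, Pi.sub_apply, cf1_one, (h.lin hν).2.1, sub_self, mul_zero]

theorem th_t {ν : G → ℂ} (hν : ν ∈ irrKer (U ⊔ zpowers a) U) :
    th X (U ⊔ zpowers a) ν t = 2 - 2 * ν t := by
  rw [h.th_apply hν h.tA h.t_notMem]
  rcases h.val_t hν with e | e <;> simp [e] <;> ring

theorem ip_th_th {α β : G → ℂ} (hα : α ∈ irrKer (U ⊔ zpowers a) U)
    (hβ : β ∈ irrKer (U ⊔ zpowers a) U) (α1 : α ≠ cf1 (U ⊔ zpowers a))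
    (β1 : β ≠ cf1 (U ⊔ zpowers a)) [Decidable (α = β)] [Decidable (star α = β)] :
    ip X (th X (U ⊔ zpowers a) α) (th X (U ⊔ zpowers a) β) =
      2 + (if α = β then 1 else 0) + if star α = β then 1 else 0 := by
  have h1 := cf1_mem_Irr (U ⊔ zpowers a)
  have h2 : star α ≠ cf1 _ := fun e => α1 (by rw [← star_star α, e, star_cf1])
  have i1 := irrKer_subset _ _ hα
  have i2 := irrKer_subset _ _ hβ
  have i3 := star_mem_Irr i1
  conv_lhs => arg 3; rw [th]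
  rw [ip_ind_right h.AX (vchar_mem_CF (h.th_vchar hα)), ip_swap_of_supp
    (φ' := (2 : ℂ) • cf1 (U ⊔ zpowers a) - α - star α) (fun x hx e => h.sub_U hβ hx e)
    fun x hx => by simp [h.th_apply hα hx.1 hx.2, cf1_of_mem hx.1]]
  simp only [ip_sub_left, ip_sub_right, ip_smul_left, ip_cf1_cf1, ip_irr_of_ne i1 h1 α1,
    ip_irr_of_ne i3 h1 h2, ip_irr_of_ne h1 i2 β1.symm, ip_irr i1 i2, ip_irr i3 i2]
  split_ifs <;> ring

theorem ip_th_cf1 {α : G → ℂ} (hα : α ∈ irrKer (U ⊔ zpowers a) U) (α1 : α ≠ cf1 (U ⊔ zpowers a)) :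
    ip X (th X (U ⊔ zpowers a) α) (cf1 X) = 1 := by
  rw [th, ip_ind_left h.AX _ (cf1_mem_CF X), ← ip_res_right, res_cf1 h.AX, ip_sub_left,
    ip_cf1_cf1, ip_irr_of_ne (irrKer_subset _ _ hα) (cf1_mem_Irr _) α1, sub_zero]

theorem th_star {α : G → ℂ} (hα : α ∈ irrKer (U ⊔ zpowers a) U) :
    th X (U ⊔ zpowers a) (star α) = th X (U ⊔ zpowers a) α := by
  rw [th, th, ← ind_cfConj_of_norm h.sX (h.HA h.sH) (cf1 _ - α)]
  refine ind_congr _ fun x hx => ?_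
  rw [cfConj_apply, inv_eq_of_sq h.ss, Pi.sub_apply, Pi.sub_apply, cf1_of_mem hx,
    cf1_of_mem (h.sgs hx), h.val_s hα hx, star_apply']

theorem ip_th {χ ν : G → ℂ} (hχ : χ ∈ Irr X) (hν : ν ∈ irrKer (U ⊔ zpowers a) U)
    [Decidable (χ ∈ B0 2 X)] : ip X χ (th X (U ⊔ zpowers a) ν) =
      if χ ∈ B0 2 X then ip (zpowers a) χ (cf1 (zpowers a)) - ip (zpowers a) χ ν else 0 := by
  rw [th, ip_ind_right h.AX (irr_mem_CF hχ), ip_def, PF02.sum_mul_disj h.sd.disj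
    (S := (U ⊔ zpowers a : Subgroup G)) (fun x => mem_sup_of_norm h.KU), Finset.sum_comm,
    sum_fs_congr (g := fun y => (if χ ∈ B0 2 X then 𝐨(U) * χ y else 0) *
      conj ((cf1 (zpowers a) - ν) y)) fun y hy => by
        rw [sum_fs_congr (g := fun u => χ (u * y) * conj ((cf1 (zpowers a) - ν) y)) fun u hu => by
          rw [Pi.sub_apply, Pi.sub_apply, val_mul hν hu, cf1_of_mem hy,
            cf1_of_mem (mul_mem (mem_sup_left hu) (mem_sup_right hy))], ← Finset.sum_mul]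
        by_cases e : y = 1
        · simp [e, (h.lin hν).2.1]
        · rw [h.avg hy e hχ]]
  split_ifs
  · rw [← ip_sub_right, ip_def, h.sd.card]
    simp only [mul_assoc, ← Finset.mul_sum]
    have := card_ne_zero_C U
    push_cast
    field_simp
  · simp

theorem ip_th_dirr {φ μ : G → ℂ} (hφ : Dirr X φ) (hμ : μ ∈ irrKer (U ⊔ zpowers a) U)
    (h0 : ip X φ (th X (U ⊔ zpowers a) μ) ≠ 0) {ν : G → ℂ} (hν : ν ∈ irrKer (U ⊔ zpowers a) U) :
    ip X φ (th X (U ⊔ zpowers a) ν) =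
      ip (zpowers a) φ (cf1 (zpowers a)) - ip (zpowers a) φ ν := by
  classical
  rcases hφ with e | e
  · rw [h.ip_th e hμ] at h0
    rw [h.ip_th e hν, if_pos (by_contra fun e => h0 (if_neg e))]
  · have h1 := h.ip_th e hμ
    have h2 := h.ip_th e hν
    rw [ip_neg_left] at h1 h2
    rw [if_pos (by_contra fun e => h0 (neg_eq_zero.1 (h1.trans (if_neg e)))), ip_neg_left,
      ip_neg_left] at h2
    linear_combination -h2

theorem mem_class_t {j : G} : j ∈ classSupp {t} X ↔ j ∈ X ∧ j ≠ 1 ∧ j * j = 1 := by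
  rw [CH1.mem_class]
  constructor
  · rintro ⟨g, hg, rfl⟩
    exact ⟨mul_mem (mul_mem hg h.tX) (inv_mem hg), by simpa using h.t1,
      by rw [conj_mul, h.tt, mul_one, mul_inv_cancel]⟩
  · rintro ⟨h1, h2, h3⟩
    exact h.fus j h1 h2 h3

theorem Inv_H {j : G} (hj : j ∈ Inv (U ⊔ zpowers a) s) : j ∈ X ⊓ 𝐂[t] :=
  (mul_mem_cancel_left h.sH).1 (h.AH hj.1)

theorem Inv_notMem {j : G} (hj : j ∈ Inv (U ⊔ zpowers a) s) : j ∉ U ⊔ zpowers a := fun e =>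
  h.sA ((mul_mem_cancel_right e).1 hj.1)

theorem Inv_mul {j j' : G} (hj : j ∈ Inv (U ⊔ zpowers a) s) (hj' : j' ∈ Inv (U ⊔ zpowers a) s) :
    j * j' ∈ U ⊔ zpowers a := by
  have := mul_mem (inv_mem hj.1) hj'.1
  rwa [mul_inv_rev, inv_eq_of_sq hj.2, mul_assoc, inv_mul_cancel_left] at this

theorem sum_pairs {ψ : G → ℂ} (h0 : ∀ x ∈ U, ψ x = 0) :
    ∑ j ∈ fs (classSupp {t} X), ∑ j' ∈ fs (classSupp {t} X), res (U ⊔ zpowers a) ψ (j * j') =
      ∑ j ∈ fs (Inv (U ⊔ zpowers a) s), ∑ j' ∈ fs (Inv (U ⊔ zpowers a) s), ψ (j * j') := by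
  have S : Inv (U ⊔ zpowers a) s ⊆ classSupp {t} X := fun j hj => h.mem_class_t.2
    ⟨(h.Inv_H hj).1, fun e => h.Inv_notMem hj (e ▸ one_mem _), hj.2⟩
  have key : ∀ j ∈ classSupp {t} X, ∀ j' ∈ classSupp {t} X, res (U ⊔ zpowers a) ψ (j * j') ≠ 0 →
      j ∈ Inv (U ⊔ zpowers a) s ∧ j' ∈ Inv (U ⊔ zpowers a) s := fun j hj j' hj' e => by
    obtain ⟨h1, h2, h3⟩ := h.mem_class_t.1 hj
    obtain ⟨h4, h5, h6⟩ := h.mem_class_t.1 hj'
    have h7 : j * j' ∈ U ⊔ zpowers a := by_contra fun e' => e (res_of_notMem _ e')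
    have h8 : j * j' ∉ U := fun e' => e (by rw [res_of_mem _ h7, h0 _ e'])
    have h9 : j ∉ U ⊔ zpowers a := fun e' => h8 (by
      rw [(h.invol e' h3).resolve_left h2, (h.invol ((mul_mem_cancel_left e').1 h7) h6).resolve_left h5,
        h.tt]
      exact one_mem U)
    have h10 := (h.cover j (h.mem_H h1 h7 h8 (by
      rw [← mul_assoc, h3, one_mul, ← inv_eq_of_sq h6, ← mul_inv_rev]
      exact inv_mem h7))).resolve_left h9
    refine ⟨⟨h10, h3⟩, ?_, h6⟩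
    have := mul_mem h10 h7
    rwa [mul_assoc, ← mul_assoc j, h3, one_mul] at this
  rw [← sum_fs_subset S fun j hj e => Finset.sum_eq_zero fun j' hj' =>
    by_contra fun e' => e (key j hj j' (mem_fs.1 hj') e').1]
  refine sum_fs_congr fun j hj => ?_
  rw [← sum_fs_subset S fun j' hj' e => by_contra fun e' => e (key j (S hj) j' hj' e').2]
  exact sum_fs_congr fun j' hj' => res_of_mem _ (h.Inv_mul hj hj')

theorem FF_ind {ψ : G → ℂ} (h0 : ∀ x ∈ U, ψ x = 0) :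
    FF X t (ind X (U ⊔ zpowers a) ψ) = 2 * 𝐨(X) * 𝐨((X ⊓ 𝐂[t] : Subgroup G)) *
      ∑ j ∈ fs (Inv (U ⊔ zpowers a) s), ∑ j' ∈ fs (Inv (U ⊔ zpowers a) s), ψ (j * j') := by
  have e2 : ∀ x ∈ X, ∑ b ∈ fs (X : Set G), ∑ c ∈ fs (X : Set G),
      res (U ⊔ zpowers a) ψ (x⁻¹ * (c * t * c⁻¹ * (b * t * b⁻¹)) * x) =
      𝐨((X ⊓ 𝐂[t] : Subgroup G)) ^ 2 * ∑ j ∈ fs (Inv (U ⊔ zpowers a) s),
        ∑ j' ∈ fs (Inv (U ⊔ zpowers a) s), ψ (j * j') := by
    intro x hx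
    rw [← sum_fs_mul_left hx, sum_fs_congr fun b _ => (sum_fs_mul_left hx _).symm,
      sum_fs_congr fun b _ => sum_fs_congr (g := fun c => res (U ⊔ zpowers a) ψ
        (c * t * c⁻¹ * (b * t * b⁻¹))) fun c _ => by congr 1; group, P5.Hyp.sum_sum_class,
      h.sum_pairs h0]
  rw [FF, sum_fs_congr fun b hb => sum_fs_congr fun c hc => ind_of_mem _ _ (mul_mem
    (mul_mem (mul_mem hc h.tX) (inv_mem hc)) (mul_mem (mul_mem hb h.tX) (inv_mem hb)))]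
  simp only [← Finset.mul_sum]
  rw [sum_fs_congr fun b _ => Finset.sum_comm, Finset.sum_comm, sum_fs_congr e2, sum_fs_const,
    nsmul_eq_mul, h.card_H]
  have := card_ne_zero_C (U ⊔ zpowers a)
  push_cast
  field_simp

theorem sum_Inv_mul {ν : G → ℂ} (hν : ν ∈ irrKer (U ⊔ zpowers a) U) :
    ∑ j ∈ fs (Inv (U ⊔ zpowers a) s), ∑ j' ∈ fs (Inv (U ⊔ zpowers a) s), ν (j * j') =
      conj (∑ j ∈ fs (Inv (U ⊔ zpowers a) s), ν (s * j)) *
        ∑ j ∈ fs (Inv (U ⊔ zpowers a) s), ν (s * j) := by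
  rw [map_sum, Finset.sum_mul_sum]
  refine sum_fs_congr fun j hj => sum_fs_congr fun j' hj' => ?_
  rw [← (h.lin hν).isChar.apply_inv, ← (h.lin hν).2.2 _ (inv_mem hj.1) _ hj'.1, mul_inv_rev,
    inv_eq_of_sq hj.2, mul_assoc, inv_mul_cancel_left]

theorem sum_Inv_zero {ν : G → ℂ} (hν : ν ∈ irrKer (U ⊔ zpowers a) U) (hr : star ν ≠ ν) :
    ∑ j ∈ fs (Inv (U ⊔ zpowers a) s), ν (s * j) = 0 := by
  have ha : a ∈ U ⊔ zpowers a := mem_sup_right (mem_zpowers a)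
  have e : ∀ j, s * (a⁻¹ * j * a⁻¹⁻¹) = a * (s * j) * a := fun j => by
    rw [← h.inv, ← mul_assoc, ← mul_assoc, ← mul_assoc, ← mul_assoc, h.ss, h.inv]; group
  have h1 := sum_fs_conj_set (A := Inv (U ⊔ zpowers a) s) (g := a⁻¹) (fun j => by
    simp only [Inv, Set.mem_ofPred_eq, e, conj_mul, conj_eq_one_iff, mul_mem_cancel_right ha,
      mul_mem_cancel_left ha]) fun j => ν (s * j)
  rw [sum_fs_congr (g := fun j => ν a * ν a * ν (s * j)) fun j hj => by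
    rw [e, (h.lin hν).2.2 _ (mul_mem ha hj.1) _ ha, (h.lin hν).2.2 _ ha _ hj.1]; ring,
    ← Finset.mul_sum] at h1
  by_contra h2
  exact hr ((h.real_iff hν).2 (mul_self_eq_one_iff.1 ((mul_eq_right₀ h2).1 h1)))

theorem FF_th {ν : G → ℂ} (hν : ν ∈ irrKer (U ⊔ zpowers a) U) :
    FF X t (th X (U ⊔ zpowers a) ν) = 2 * 𝐨(X) * 𝐨((X ⊓ 𝐂[t] : Subgroup G)) *
      ((Inv (U ⊔ zpowers a) s).ncard ^ 2 - conj (∑ j ∈ fs (Inv (U ⊔ zpowers a) s), ν (s * j)) *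
        ∑ j ∈ fs (Inv (U ⊔ zpowers a) s), ν (s * j)) := by
  rw [th, h.FF_ind fun x hx => by
    rw [Pi.sub_apply, cf1_of_mem (mem_sup_left hx), h.val_U hν hx, sub_self], ← h.sum_Inv_mul hν,
    sum_fs_congr fun j hj => sum_fs_congr (g := fun j' => 1 - ν (j * j')) fun j' hj' => by
      rw [Pi.sub_apply, cf1_of_mem (h.Inv_mul hj hj')]]
  simp only [Finset.sum_sub_distrib, Finset.sum_const, card_fs, nsmul_eq_mul, mul_one, sq]

end DH

end Cfsg.Agent.P15.Ch
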