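/-
Dihedral Sylow 2-subgroups: the characters of the principal block and the order formulas.
-/
import Cfsg.Agent.P15.Ch2

set_option autoImplicit false
set_option linter.unusedSectionVars false

namespace Cfsg.Agent.P15.Ch

open Subgroup Cfsg Cfsg.Agent Cfsg.Agent.FT Cfsg.Agent.P1
open Cfsg.Agent.P5 (inv_eq_of_sq eq_one_of_odd pow_card_of_mem mul_pow_odd)
open scoped ComplexConjugate commutatorElement

universe u

variable {G : Type u} [Group G] [Finite G]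

/-- `(1 - ν)^X - 1`. -/
noncomputable def eta (X A : Subgroup G) (ν : G → ℂ) : G → ℂ := th X A ν - cf1 X

theorem two_cases {X : Subgroup G} {φ A B : G → ℂ} (hφ : φ ∈ VChar X) (hA : Dirr X A)
    (hB : Dirr X B) (hAB : ip X A B = 0) (h3 : nsq X φ ≤ 3) (h : ip X φ A + ip X φ B = 1) :
    (ip X φ A = 1 ∧ ip X φ B = 0) ∨ (ip X φ A = 0 ∧ ip X φ B = 1) := by
  obtain ⟨a, ha⟩ := vchar_ip_int hφ hA.mem_VChar
  obtain ⟨b, hb⟩ := vchar_ip_int hφ hB.mem_VChar
  have hne : A ≠ B := by rintro rfl; rw [hA.ip_self] at hAB; exact one_ne_zero hAB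
  have hon : ON X {A, B} := by
    refine ⟨?_, ?_⟩
    · simp [hA.ip_self, hB.ip_self]
    · simp [hAB, ip_eq_zero_symm hAB]
  have h4 := hon.bessel φ
  rw [Finset.sum_pair hne, ha, hb, Complex.norm_intCast, Complex.norm_intCast, sq_abs,
    sq_abs] at h4
  have h5 : a ^ 2 + b ^ 2 ≤ 3 := by exact_mod_cast h4.trans h3
  rw [ha, hb] at h ⊢
  have h6 : a + b = 1 := by exact_mod_cast h
  obtain rfl : b = 1 - a := by omega
  have : a = 1 ∨ a = 0 := by
    have h7 : -1 < a := by nlinarith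
    have h8 : a < 2 := by nlinarith
    omega
  rcases this with rfl | rfl <;> simp

theorem ip_sub_self {X : Subgroup G} {φ A : G → ℂ} (hφ : φ ∈ VChar X) (hA : Dirr X A)
    (h : ip X φ A = 1) : ip X (φ - A) (φ - A) = ip X φ φ - 1 := by
  rw [ip_sub_left, ip_sub_right, ip_sub_right, h, ← vchar_ip_comm hφ hA.mem_VChar, h, hA.ip_self]
  ring

theorem dirr_sub {X : Subgroup G} {φ A : G → ℂ} (hφ : φ ∈ VChar X) (hA : Dirr X A)
    (h2 : ip X φ φ = 2) (h : ip X φ A = 1) : Dirr X (φ - A) :=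
  dirr_of_nsq_one (sub_mem hφ hA.mem_VChar) (nsq_eq_one_iff.2 (by
    rw [ip_sub_self hφ hA h, h2]; norm_num))

theorem split_two {X : Subgroup G} {φ : G → ℂ} (hφ : φ ∈ VChar X) (h2 : ip X φ φ = 2) :
    ∃ A B, Dirr X A ∧ Dirr X B ∧ ip X A B = 0 ∧ φ = A + B := by
  classical
  obtain ⟨E, hE, hEd, hEo, he⟩ := vchar_small_norm (n := 2) hφ
    (nsq_eq_of_ip (by rw [h2]; norm_num)) (by norm_num)
  obtain ⟨A, B, hne, rfl⟩ := Finset.card_eq_two.1 hE
  rw [Finset.sum_pair hne] at he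
  exact ⟨A, B, hEd A (by simp), hEd B (by simp), hEo.2 A (by simp) B (by simp) hne, he⟩

theorem ip_zero_of_add {X : Subgroup G} {A B C : G → ℂ} (hA : Dirr X A) (hC : Dirr X C)
    (hAB : ip X A B = 0) (h : ip X (A + B) C = 0) : ip X A C = 0 := by
  rw [ip_add_left] at h
  rcases hA.ip_cases hC with e | e | e
  · rw [e] at hAB h
    rw [ip_eq_zero_symm hAB, hC.ip_self] at h; simp at h
  · rw [e] at hAB h
    rw [ip_neg_left, neg_eq_zero] at hAB
    rw [ip_eq_zero_symm hAB, ip_neg_left, hC.ip_self] at h; simp at h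
  · exact e

theorem dirr_cf1 (X : Subgroup G) : Dirr X (cf1 X) := Or.inl (cf1_mem_Irr X)

namespace DH

variable {X U : Subgroup G} {a t s : G} {n : ℕ} (h : DH X U a t s n)
include h

theorem eta_vchar {α : G → ℂ} (hα : α ∈ irrKer (U ⊔ zpowers a) U) :
    eta X (U ⊔ zpowers a) α ∈ VChar X := sub_mem (h.th_vchar hα) (cf1_mem_VChar X)

theorem eta_one {α : G → ℂ} (hα : α ∈ irrKer (U ⊔ zpowers a) U) :
    eta X (U ⊔ zpowers a) α 1 = -1 := by
  rw [eta, Pi.sub_apply, h.th_one hα]; simp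

theorem eta_star {α : G → ℂ} (hα : α ∈ irrKer (U ⊔ zpowers a) U) :
    eta X (U ⊔ zpowers a) (star α) = eta X (U ⊔ zpowers a) α := by rw [eta, eta, h.th_star hα]

theorem ip_eta_cf1 {α : G → ℂ} (hα : α ∈ irrKer (U ⊔ zpowers a) U)
    (α1 : α ≠ cf1 (U ⊔ zpowers a)) : ip X (eta X (U ⊔ zpowers a) α) (cf1 X) = 0 := by
  rw [eta, ip_sub_left, h.ip_th_cf1 hα α1, ip_cf1_cf1, sub_self]

theorem ip_eta_eta {α β : G → ℂ} (hα : α ∈ irrKer (U ⊔ zpowers a) U)
    (hβ : β ∈ irrKer (U ⊔ zpowers a) U) (α1 : α ≠ cf1 (U ⊔ zpowers a))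
    (β1 : β ≠ cf1 (U ⊔ zpowers a)) [Decidable (α = β)] [Decidable (star α = β)] :
    ip X (eta X (U ⊔ zpowers a) α) (eta X (U ⊔ zpowers a) β) =
      1 + (if α = β then 1 else 0) + if star α = β then 1 else 0 := by
  conv_lhs => rw [eta, eta]
  rw [ip_sub_left, ip_sub_right, ip_sub_right, h.ip_th_th hα hβ α1 β1, h.ip_th_cf1 hα α1,
    ip_cf1_cf1, vchar_ip_comm (cf1_mem_VChar X) (h.th_vchar hβ), h.ip_th_cf1 hβ β1]
  ring

omit h in
theorem ne_cf1 {A : Subgroup G} {α : G → ℂ} (h : star α ≠ α) : α ≠ cf1 A := by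
  rintro rfl; exact h (star_cf1 A)

theorem ip_eta_self {α : G → ℂ} (hα : α ∈ irrKer (U ⊔ zpowers a) U) (hr : star α ≠ α) :
    ip X (eta X (U ⊔ zpowers a) α) (eta X (U ⊔ zpowers a) α) = 2 := by
  classical
  rw [h.ip_eta_eta hα hα (ne_cf1 hr) (ne_cf1 hr), if_pos rfl, if_neg hr]; norm_num

theorem ip_eta_ne {α β : G → ℂ} (hα : α ∈ irrKer (U ⊔ zpowers a) U)
    (hβ : β ∈ irrKer (U ⊔ zpowers a) U) (α1 : α ≠ cf1 (U ⊔ zpowers a))
    (β1 : β ≠ cf1 (U ⊔ zpowers a)) (e : eta X (U ⊔ zpowers a) α ≠ eta X (U ⊔ zpowers a) β) :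
    ip X (eta X (U ⊔ zpowers a) α) (eta X (U ⊔ zpowers a) β) = 1 := by
  classical
  rw [h.ip_eta_eta hα hβ α1 β1, if_neg fun e' => e (by rw [e']),
    if_neg fun e' => e (by rw [← e', h.eta_star hα])]
  ring

theorem nsq_eta_le {α : G → ℂ} (hα : α ∈ irrKer (U ⊔ zpowers a) U)
    (α1 : α ≠ cf1 (U ⊔ zpowers a)) : nsq X (eta X (U ⊔ zpowers a) α) ≤ 3 := by
  classical
  rw [nsq_eq_re, h.ip_eta_eta hα hα α1 α1, if_pos rfl]
  split_ifs <;> norm_num

theorem l_ne {l : G → ℂ} (la : l a = -1) : l ≠ cf1 (U ⊔ zpowers a) := fun e => by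
  rw [e, cf1_of_mem (mem_sup_right (mem_zpowers a))] at la
  norm_num at la

theorem real_cases {l γ : G → ℂ} (hl : l ∈ irrKer (U ⊔ zpowers a) U) (la : l a = -1)
    (hγ : γ ∈ irrKer (U ⊔ zpowers a) U) (hr : star γ = γ) : γ = cf1 (U ⊔ zpowers a) ∨ γ = l :=
  ((h.real_iff hγ).1 hr).imp (fun e => h.ext_a hγ h.one_mem_L
    (by rw [e, cf1_of_mem (mem_sup_right (mem_zpowers a))])) fun e => h.ext_a hγ hl (by rw [e, la])

theorem ip_eta_real {l : G → ℂ} (hl : l ∈ irrKer (U ⊔ zpowers a) U) (la : l a = -1) :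
    ip X (eta X (U ⊔ zpowers a) l) (eta X (U ⊔ zpowers a) l) = 3 := by
  classical
  rw [h.ip_eta_eta hl hl (h.l_ne la) (h.l_ne la), if_pos rfl, if_pos ((h.real_iff hl).2 (.inr la))]
  norm_num

theorem common_aux {l α A B : G → ℂ} (hl : l ∈ irrKer (U ⊔ zpowers a) U) (la : l a = -1)
    (hα : α ∈ irrKer (U ⊔ zpowers a) U) (hαr : star α ≠ α) (hA : Dirr X A) (hB : Dirr X B)
    (hAB : ip X A B = 0) (he : eta X (U ⊔ zpowers a) α = A + B)
    (hlA : ip X (eta X (U ⊔ zpowers a) l) A = 1) (hlB : ip X (eta X (U ⊔ zpowers a) l) B = 0) :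
    ∀ β ∈ irrKer (U ⊔ zpowers a) U, β ≠ cf1 (U ⊔ zpowers a) →
      ip X (eta X (U ⊔ zpowers a) β) A = 1 := by
  classical
  have hBA := ip_eq_zero_symm hAB
  have α1 : α ≠ cf1 (U ⊔ zpowers a) := ne_cf1 hαr
  have hαA : ip X (eta X (U ⊔ zpowers a) α) A = 1 := by
    rw [he, ip_add_left, hA.ip_self, hBA, add_zero]
  have hcases : ∀ γ ∈ irrKer (U ⊔ zpowers a) U, γ ≠ cf1 (U ⊔ zpowers a) →
      eta X (U ⊔ zpowers a) γ ≠ eta X (U ⊔ zpowers a) α →
      (ip X (eta X (U ⊔ zpowers a) γ) A = 1 ∧ ip X (eta X (U ⊔ zpowers a) γ) B = 0) ∨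
      (ip X (eta X (U ⊔ zpowers a) γ) A = 0 ∧ ip X (eta X (U ⊔ zpowers a) γ) B = 1) :=
    fun γ hγ h1 h2 => two_cases (h.eta_vchar hγ) hA hB hAB (h.nsq_eta_le hγ h1)
      (by rw [← ip_add_right, ← he, h.ip_eta_ne hγ hα h1 α1 h2])
  intro β hβ β1
  by_contra hβA
  have hβα : eta X (U ⊔ zpowers a) β ≠ eta X (U ⊔ zpowers a) α := fun e => hβA (e ▸ hαA)
  have hβr : star β ≠ β := fun e => by
    rcases h.real_cases hl la hβ e with e | e
    · exact β1 e
    · exact hβA (e ▸ hlA)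
  obtain ⟨hβA0, hβB⟩ := (hcases β hβ β1 hβα).resolve_left fun e => hβA e.1
  have hC := dirr_sub (h.eta_vchar hβ) hB (h.ip_eta_self hβ hβr) hβB
  obtain ⟨m, hm⟩ := vchar_one_int hA.mem_VChar
  have h6 := congrFun he 1
  rw [Pi.add_apply, h.eta_one hα, hm] at h6
  have s1 : star α ∈ irrKer (U ⊔ zpowers a) U := star_mem_irrKer hα
  have c5 : 4 < (irrKer (U ⊔ zpowers a) U).card := by
    have n1 : β ≠ α := fun e => hβα (by rw [e])
    have n2 : β ≠ star α := fun e => hβα (by rw [e, h.eta_star hα])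
    have n3 : β ≠ l := fun e => hβA (e ▸ hlA)
    have n4 : star (star α) ≠ star α := by rw [star_star]; exact hαr.symm
    have lr := (h.real_iff hl).2 (.inr la)
    have n5 : α ≠ l := fun e => hαr (e ▸ lr)
    have n6 : star α ≠ l := fun e => n4 (e ▸ lr)
    refine lt_of_lt_of_le ?_ (Finset.card_le_card (s := {β, α, star α, l, cf1 (U ⊔ zpowers a)})
      (by simp [Finset.insert_subset_iff, hβ, hα, s1, hl, h.one_mem_L]))
    rw [Finset.card_insert_of_notMem (by simp [n1, n2, n3, β1]),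
      Finset.card_insert_of_notMem (by simp [hαr.symm, n5, α1]),
      Finset.card_insert_of_notMem (by simp [n6, ne_cf1 n4]), Finset.card_pair (h.l_ne la)]
    norm_num
  obtain ⟨γ, hγ, hγ'⟩ := Finset.exists_mem_notMem_of_card_lt_card
    (s := {β, star β, α, star α, l, cf1 (U ⊔ zpowers a)}) (t := irrKer (U ⊔ zpowers a) U)
    (Finset.card_le_six.trans_lt (by
      rw [h.card_L] at c5 ⊢
      rcases n with _ | n
      · simp at c5
      · have := Nat.one_le_two_pow (n := n)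
        rw [show n + 1 + 2 = n + 3 from rfl, pow_add]; omega))
  simp only [Finset.mem_insert, Finset.mem_singleton, not_or] at hγ'
  obtain ⟨g1, g2, g3, g4, g5, g6⟩ := hγ'
  have hγr : star γ ≠ γ := fun e => (h.real_cases hl la hγ e).elim g6 g5
  have k1 : ∀ δ ∈ irrKer (U ⊔ zpowers a) U, star δ ≠ δ → γ ≠ δ → γ ≠ star δ →
      ip X (eta X (U ⊔ zpowers a) γ) (eta X (U ⊔ zpowers a) δ) = 1 := fun δ hδ r n1 n2 => by
    rw [h.ip_eta_eta hγ hδ g6 (ne_cf1 r), if_neg n1, if_neg fun e => n2 (by rw [← e, star_star])]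
    ring
  have k2 := k1 α hα hαr g3 g4
  have k3 := k1 β hβ hβr g1 g2
  rcases hcases γ hγ g6 (fun e => by rw [e, h.ip_eta_self hα hαr] at k2; norm_num at k2)
    with ⟨h1, h2⟩ | ⟨h1, h2⟩
  · have hD := dirr_sub (h.eta_vchar hγ) hA (h.ip_eta_self hγ hγr) h1
    have h5 := congrFun (hD.eq_of_ip_eq_one hC (by
      rw [ip_sub_left, ip_sub_right, ip_sub_right, k3, h2, hAB,
        vchar_ip_comm hA.mem_VChar (h.eta_vchar hβ), hβA0]
      ring)) 1
    rw [Pi.sub_apply, Pi.sub_apply, h.eta_one hγ, h.eta_one hβ, hm] at h5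
    have h8 : 2 * m = -1 := by exact_mod_cast (by linear_combination -h5 - h6 : (2 * m : ℂ) = -1)
    omega
  · have hD := dirr_sub (h.eta_vchar hγ) hB (h.ip_eta_self hγ hγr) h2
    have l1 := h.l_ne la
    have lr := (h.real_iff hl).2 (.inr la)
    have k4 : ∀ δ ∈ irrKer (U ⊔ zpowers a) U, star δ ≠ δ →
        ip X (eta X (U ⊔ zpowers a) l) (eta X (U ⊔ zpowers a) δ) = 1 := fun δ hδ r => by
      have n1 : l ≠ δ := fun e => r (e ▸ lr)
      rw [h.ip_eta_eta hl hδ l1 (ne_cf1 r), lr, if_neg n1]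
      ring
    have v1 := sub_mem (h.eta_vchar hl) hA.mem_VChar
    have hE := dirr_sub v1 hC (by
      rw [ip_sub_self (h.eta_vchar hl) hA hlA, h.ip_eta_real hl la]; norm_num) (by
      rw [ip_sub_left, ip_sub_right, ip_sub_right, k4 β hβ hβr, hlB, hAB,
        vchar_ip_comm hA.mem_VChar (h.eta_vchar hβ), hβA0]
      ring)
    have h5 := congrFun (hE.eq_of_ip_eq_one hD (by
      simp only [ip_sub_left, ip_sub_right]
      rw [k4 γ hγ hγr, hlB, hAB, vchar_ip_comm hA.mem_VChar (h.eta_vchar hγ), h1,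
        vchar_ip_comm (h.eta_vchar hβ) (h.eta_vchar hγ), k3, hβB,
        vchar_ip_comm hB.mem_VChar (h.eta_vchar hγ), h2, hB.ip_self]
      ring)) 1
    simp only [Pi.sub_apply, h.eta_one hγ, h.eta_one hβ, h.eta_one hl, hm] at h5
    have h8 : 3 * m = -1 := by
      exact_mod_cast (by linear_combination -h5 - 2 * h6 : (3 * m : ℂ) = -1)
    omega

theorem exists_nonreal : ∃ α ∈ irrKer (U ⊔ zpowers a) U, star α ≠ α := by
  classical
  obtain ⟨l, hl, la⟩ := h.exists_real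
  obtain ⟨α, hα, hα'⟩ := Finset.exists_mem_notMem_of_card_lt_card
    (s := {cf1 (U ⊔ zpowers a), l}) (t := irrKer (U ⊔ zpowers a) U)
    (Finset.card_le_two.trans_lt (by
      have := Nat.one_le_two_pow (n := n)
      rw [h.card_L, pow_add]; omega))
  exact ⟨α, hα, fun e => hα' (by simpa using h.real_cases hl la hα e)⟩

theorem exists_common : ∃ A, Dirr X A ∧ ip X A (cf1 X) = 0 ∧
    ∀ β ∈ irrKer (U ⊔ zpowers a) U, β ≠ cf1 (U ⊔ zpowers a) →
      ip X (eta X (U ⊔ zpowers a) β) A = 1 := by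
  classical
  obtain ⟨l, hl, la⟩ := h.exists_real
  obtain ⟨α, hα, hαr⟩ := h.exists_nonreal
  obtain ⟨A, B, hA, hB, hAB, he⟩ := split_two (h.eta_vchar hα) (h.ip_eta_self hα hαr)
  have lr := (h.real_iff hl).2 (.inr la)
  have n1 : l ≠ α := fun e => hαr (e ▸ lr)
  have h0 := h.ip_eta_cf1 hα (ne_cf1 hαr)
  rcases two_cases (h.eta_vchar hl) hA hB hAB (h.nsq_eta_le hl (h.l_ne la)) (by
    rw [← ip_add_right, ← he, h.ip_eta_eta hl hα (h.l_ne la) (ne_cf1 hαr), lr, if_neg n1]; ring)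
    with ⟨h1, h2⟩ | ⟨h1, h2⟩
  · exact ⟨A, hA, ip_zero_of_add hA (dirr_cf1 X) hAB (he ▸ h0),
      h.common_aux hl la hα hαr hA hB hAB he h1 h2⟩
  · rw [add_comm] at he
    exact ⟨B, hB, ip_zero_of_add hB (dirr_cf1 X) (ip_eq_zero_symm hAB) (he ▸ h0),
      h.common_aux hl la hα hαr hB hA (ip_eq_zero_symm hAB) he h2 h1⟩

/-- Values on `⟨a⟩` from the multiplicities. -/
theorem val_of {φ ψ μ : G → ℂ} (hφ : Dirr X φ) (hμ : μ ∈ irrKer (U ⊔ zpowers a) U)
    (h0 : ip X φ (th X (U ⊔ zpowers a) μ) ≠ 0) {c : ℂ}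
    (hψ : ∀ ν ∈ irrKer (U ⊔ zpowers a) U,
      ip X φ (th X (U ⊔ zpowers a) ν) + ip (U ⊔ zpowers a) ψ ν = c)
    (hc : ψ ∈ CF (U ⊔ zpowers a)) (hk : U ≤ cfKer ψ) {y : G} (hy : y ∈ zpowers a) (y1 : y ≠ 1) :
    φ y = ψ y := by
  classical
  have := P3.apply_of_ip_const h.commK (ξ := φ - ψ) (n := ip (zpowers a) φ (cf1 _) - c) (fun α hα => by
    obtain ⟨ν, hν, rfl⟩ := h.sd.exists_irrKer_res hα
    rw [ip_res_right, ip_sub_left, h.sd.res_bijOn.2 ψ hc ν (h.lin hν).mem_CF hk (mem_irrKer.1 hν).2,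
      ← hψ ν hν, h.ip_th_dirr hφ hμ h0 hν]
    ring) hy
  rwa [if_neg y1, Pi.sub_apply, sub_eq_zero] at this

theorem apply_invol {χ : G → ℂ} (hχ : χ ∈ CF X) {j : G} (hj : j ∈ X) (j1 : j ≠ 1)
    (jj : j * j = 1) : χ j = χ t := by
  obtain ⟨g, hg, rfl⟩ := h.fus j hj j1 jj
  exact CF_conj hχ hg t

theorem congr_S {φ : G → ℂ} (hφ : φ ∈ VChar X) : ∃ m : ℤ,
    φ 1 + ∑ y ∈ fs (sharp (zpowers a)), φ y + 2 ^ (n + 2) * φ t = 2 ^ (n + 3) * m := by
  have hs : zpowers s ≤ 𝐍(zpowers a) := zpowers_le.2 (mem_normalizer_iff.2 fun y => by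
    rw [inv_eq_of_sq h.ss]
    refine ⟨fun hy => by rw [h.invK hy]; exact inv_mem hy, fun hy => ?_⟩
    have := h.invK hy
    rw [← mul_assoc, ← mul_assoc, h.ss, one_mul, mul_assoc, h.ss, mul_one] at this
    exact this ▸ inv_mem hy)
  have sK : s ∉ zpowers a := fun e => h.sA (mem_sup_right e)
  have key := fun {M : Type} [AddCommMonoid M] => sum_two (M := M) (A := zpowers a)
    (H := zpowers a ⊔ zpowers s) le_sup_left (mem_sup_right (mem_zpowers s)) sK h.ss fun g hg => by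
      obtain ⟨z, hz, y, hy, rfl⟩ := (mem_sup_of_norm' hs).1 hg
      obtain ⟨i, rfl⟩ : ∃ i : ℕ, s ^ i = z := mem_powers_iff_mem_zpowers.2 hz
      rcases Nat.even_or_odd' i with ⟨d, rfl | rfl⟩
      · left; rwa [pow_mul, sq, h.ss, one_pow, one_mul]
      · right; rwa [pow_succ, pow_mul, sq, h.ss, one_pow, one_mul, ← mul_assoc, h.ss, one_mul]
  have h1 := key fun _ => (1 : ℕ)
  simp only [sum_fs_const, smul_eq_mul, mul_one, h.card_K] at h1
  obtain ⟨m, hm⟩ := vchar_ip_int (vchar_res (sup_le h.KX (zpowers_le.2 h.sX)) hφ)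
    (cf1_mem_VChar (zpowers a ⊔ zpowers s))
  rw [ip_res_left, ip_cf1_right, key, sum_fs_sharp, sum_fs_congr (g := fun _ => φ t)
    (f := fun x => φ (s * x)) fun x hx => h.apply_invol (vchar_mem_CF hφ) (mul_mem h.sX (h.KX hx))
      (fun e => sK (by rw [eq_inv_of_mul_eq_one_left e]; exact inv_mem hx))
      (by rw [← mul_assoc, h.invK hx, inv_mul_cancel]), sum_fs_const, h1, h.card_K,
    inv_mul_eq_iff_eq_mul₀ (by norm_cast; positivity)] at hm
  refine ⟨m, ?_⟩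
  simp only [nsmul_eq_mul] at hm
  push_cast at hm
  rw [hm]; ring

end DH

end Cfsg.Agent.P15.Ch
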