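/-
Dihedral Sylow 2-subgroups: the order formulas.
-/
import Cfsg.Agent.P15.Ch3

set_option autoImplicit false
set_option linter.unusedSectionVars false

namespace Cfsg.Agent.P15.Ch

open Subgroup Cfsg Cfsg.Agent Cfsg.Agent.FT Cfsg.Agent.P1
open Cfsg.Agent.P5 (inv_eq_of_sq eq_one_of_odd pow_card_of_mem mul_pow_odd)
open scoped ComplexConjugate commutatorElement

universe u

variable {G : Type u} [Group G] [Finite G]

theorem ncard_class (H : Subgroup G) (x : G) :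
    (classSupp {x} H).ncard = (𝐂[x] : Subgroup G).relIndex H := by
  have h1 := CH1.sum_fs_conj_class H x fun _ => (1 : ℕ)
  simp only [sum_fs_const, Finset.sum_const, card_fs, smul_eq_mul, mul_one] at h1
  rw [← inf_relIndex_left]
  exact Nat.eq_of_mul_eq_mul_left Nat.card_pos
    (h1.symm.trans (H1.card_mul_relIndex (inf_le_left : H ⊓ 𝐂[x] ≤ H)).symm)

namespace DH

variable {X U : Subgroup G} {a t s : G} {n : ℕ} (h : DH X U a t s n)
include h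

/-- The characters of the principal block, with signs. -/
theorem data {l : G → ℂ} (hl : l ∈ irrKer (U ⊔ zpowers a) U) (la : l a = -1) :
    ∃ A Y Z : G → ℂ, Dirr X A ∧ Dirr X Y ∧ Dirr X Z ∧ ip X A (cf1 X) = 0 ∧ ip X Y (cf1 X) = 0 ∧
      ip X Z (cf1 X) = 0 ∧ ip X Y Z = 0 ∧ ip X Y A = 0 ∧ ip X Z A = 0 ∧
      (∀ y ∈ zpowers a, y ≠ 1 → A y = 1 ∧ Y y = l y ∧ Z y = l y) ∧
      th X (U ⊔ zpowers a) l = cf1 X + A - Y - Z ∧
      ∀ α ∈ irrKer (U ⊔ zpowers a) U, star α ≠ α →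
        Dirr X (cf1 X + A - th X (U ⊔ zpowers a) α) := by
  classical
  obtain ⟨A, hA, A1, hc⟩ := h.exists_common
  have l1 := h.l_ne la
  have e0 : ∀ ν, th X (U ⊔ zpowers a) ν = eta X (U ⊔ zpowers a) ν - A + A + cf1 X := fun ν => by
    rw [eta]; abel
  have t1 : th X (U ⊔ zpowers a) (cf1 (U ⊔ zpowers a)) = 0 := by rw [th, sub_self, map_zero]
  have hB : ∀ α ∈ irrKer (U ⊔ zpowers a) U, star α ≠ α → Dirr X (eta X (U ⊔ zpowers a) α - A) :=
    fun α hα r => dirr_sub (h.eta_vchar hα) hA (h.ip_eta_self hα r) (hc α hα (ne_cf1 r))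
  obtain ⟨Y, Z, hY, hZ, hYZ, he⟩ := split_two (sub_mem (h.eta_vchar hl) hA.mem_VChar) (by
    rw [ip_sub_self (h.eta_vchar hl) hA (hc l hl l1), h.ip_eta_real hl la]; norm_num)
  have key : ∀ Y Z, Dirr X Y → Dirr X Z → ip X Y Z = 0 → eta X (U ⊔ zpowers a) l - A = Y + Z →
      ip X Y (cf1 X) = 0 ∧ ip X Y A = 0 ∧ ∀ y ∈ zpowers a, y ≠ 1 → Y y = -l y := by
    intro Y Z hY hZ hYZ he
    have h1 := ip_zero_of_add hY (dirr_cf1 X) hYZ (by
      rw [← he, ip_sub_left, h.ip_eta_cf1 hl l1, A1, sub_self])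
    have h2 := ip_zero_of_add hY hA hYZ (by rw [← he, ip_sub_left, hc l hl l1, hA.ip_self, sub_self])
    have h3 : ip X Y (th X (U ⊔ zpowers a) l) = 1 := by
      rw [e0, he, ip_add_right, ip_add_right, ip_add_right, h1, h2, hYZ, hY.ip_self]; ring
    refine ⟨h1, h2, fun y hy y1 => h.val_of (ψ := -l) (c := 0) hY hl (by simp [h3]) (fun ν hν => ?_)
      (neg_mem (h.lin hl).mem_CF) (by rw [cfKer_neg]; exact (mem_irrKer.1 hl).2) hy y1⟩
    rw [ip_neg_left, ip_irr (irrKer_subset _ _ hl) (irrKer_subset _ _ hν)]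
    split_ifs with e
    · rw [← e, h3]; ring
    by_cases r : star ν = ν
    · rw [(h.real_cases hl la hν r).resolve_right (Ne.symm e), t1]; simp
    · rw [e0, ip_add_right, ip_add_right, h1, h2, ip_zero_of_add hY (hB ν hν r) hYZ (by
        rw [← he, ip_sub_left, ip_sub_right, ip_sub_right, hc l hl l1, hA.ip_self,
          vchar_ip_comm hA.mem_VChar (h.eta_vchar hν), hc ν hν (ne_cf1 r),
          h.ip_eta_eta hl hν l1 (ne_cf1 r), (h.real_iff hl).2 (.inr la), if_neg e]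
        ring)]
      simp
  obtain ⟨y1, y2, y3⟩ := key Y Z hY hZ hYZ he
  obtain ⟨z1, z2, z3⟩ := key Z Y hZ hY (ip_eq_zero_symm hYZ) (by rw [he, add_comm])
  have a1 : ∀ ν ∈ irrKer (U ⊔ zpowers a) U, ν ≠ cf1 (U ⊔ zpowers a) → ip X A (th X (U ⊔ zpowers a) ν) = 1 :=
    fun ν hν e => by
      rw [e0, sub_add_cancel, ip_add_right, A1, vchar_ip_comm hA.mem_VChar (h.eta_vchar hν),
        hc ν hν e, add_zero]
  refine ⟨A, -Y, -Z, hA, hY.neg, hZ.neg, A1, by simp [ip_neg_left, y1], by simp [ip_neg_left, z1],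
    by simp [ip_neg_left, ip_neg_right, hYZ], by simp [ip_neg_left, y2], by simp [ip_neg_left, z2],
    fun y hy e => ⟨?_, by simp [y3 y hy e], by simp [z3 y hy e]⟩, by rw [e0, he]; abel,
    fun α hα r => by convert (hB α hα r).neg using 1; rw [eta]; abel⟩
  rw [h.val_of (ψ := cf1 (U ⊔ zpowers a)) (c := 1) hA hl (by simp [a1 l hl l1]) (fun ν hν => ?_)
    (cf1_mem_CF _) (le_sup_left.trans (le_cfKer_cf1 _)) hy e, cf1_of_mem (mem_sup_right hy)]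
  rw [ip_irr (cf1_mem_Irr _) (irrKer_subset _ _ hν)]
  split_ifs with e
  · rw [← e, t1]; simp
  · rw [a1 ν hν (Ne.symm e), add_zero]

theorem refl' : DH X U a t (a * s) n :=
  ⟨h.aX, mul_mem h.aX h.sX, h.ord, h.pw,
    by rw [mul_assoc, ← mul_assoc s, h.inv, mul_inv_cancel],
    by rw [mul_assoc a s a, mul_assoc, ← mul_assoc (s * a), mul_assoc s a a,
      h.invK (mul_mem (mem_zpowers a) (mem_zpowers a))]; group,
    h.UX, h.Ut, h.odd, h.aU, mul_mem h.aU h.sU, fun g hg => (h.cover g hg).imp id fun e => by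
      rw [mul_assoc]; exact mul_mem (mem_sup_right (mem_zpowers a)) e, h.fus⟩

theorem l_sq {l : G → ℂ} (hl : l ∈ irrKer (U ⊔ zpowers a) U) (la : l a = -1) {g : G}
    (hg : g ∈ U ⊔ zpowers a) : l g * l g = 1 := by
  have := (h.lin hl).mul_conj hg
  rwa [← star_apply', (h.real_iff hl).2 (.inr la)] at this

theorem class_s {l : G → ℂ} (hl : l ∈ irrKer (U ⊔ zpowers a) U) (la : l a = -1) :
    classSupp {s} (X ⊓ 𝐂[t]) = {j | j ∈ Inv (U ⊔ zpowers a) s ∧ l (s * j) = 1} := by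
  have k : ∀ g ∈ U ⊔ zpowers a, s * (g * s * g⁻¹) ∈ U ⊔ zpowers a ∧ l (s * (g * s * g⁻¹)) = 1 :=
    fun g hg => by
      rw [← mul_assoc, ← mul_assoc, (h.lin hl).2.2 _ (h.sgs hg) _ (inv_mem hg), h.val_s hl hg,
        (h.lin hl).isChar.apply_inv, ← map_mul, h.l_sq hl la hg, map_one]
      exact ⟨mul_mem (h.sgs hg) (inv_mem hg), rfl⟩
  ext j
  rw [CH1.mem_class]
  constructor
  · rintro ⟨g, hg, rfl⟩
    have e : g * s * g⁻¹ * (g * s * g⁻¹) = 1 := by rw [conj_mul, h.ss, mul_one, mul_inv_cancel]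
    rcases h.cover g hg with e' | e'
    · exact ⟨⟨(k g e').1, e⟩, (k g e').2⟩
    · have := k _ (h.sgs e')
      rw [← mul_assoc s s, h.ss, one_mul, show g * s * s * (g * s)⁻¹ = g * s * g⁻¹ by group] at this
      exact ⟨⟨this.1, e⟩, this.2⟩
  · rintro ⟨⟨h1, h2⟩, h3⟩
    obtain ⟨y, hy, u, hu, e⟩ := (mem_sup_of_norm' h.KU).1 h1
    obtain ⟨i, rfl⟩ : ∃ i : ℕ, a ^ i = y := mem_powers_iff_mem_zpowers.2 hy
    have ha : a ∈ U ⊔ zpowers a := mem_sup_right (mem_zpowers a)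
    rw [← e, (h.lin hl).2.2 _ (mem_sup_right hy) _ (mem_sup_left hu), h.val_U hl hu,
      (h.lin hl).pow_apply ha, la, mul_one, neg_one_pow_eq_one_iff_even (by norm_num)] at h3
    obtain ⟨m, rfl⟩ := h3
    have hm := pow_mem (mem_zpowers a) m
    obtain ⟨w, hw, e'⟩ := P5.exists_conj_of_odd (j := a ^ m * j * (a ^ m)⁻¹) h.odd h.ss
      (by rw [conj_mul, h2, mul_one, mul_inv_cancel]) (by
        rw [show s * (a ^ m * j * (a ^ m)⁻¹) = s * a ^ m * s * ((s * s)⁻¹ * (s * j)) * (a ^ m)⁻¹ by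
          group, h.invK hm, h.ss, ← e, pow_add, inv_one, one_mul, mul_assoc (a ^ m),
          inv_mul_cancel_left]
        exact (mem_normalizer_iff.1 (h.KU hm) u).1 hu)
    refine ⟨(a ^ m)⁻¹ * w, h.AH (mul_mem (mem_sup_right (inv_mem hm)) (mem_sup_left hw)), ?_⟩
    rw [show (a ^ m)⁻¹ * w * s * ((a ^ m)⁻¹ * w)⁻¹ = (a ^ m)⁻¹ * (w * s * w⁻¹) * a ^ m by group, e']
    group

theorem sum_Inv {M : Type*} [AddCommMonoid M] (F : G → M) :
    ∑ j ∈ fs (Inv (U ⊔ zpowers a) s), F j = ∑ j ∈ fs (classSupp {s} (X ⊓ 𝐂[t])), F j +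
      ∑ j ∈ fs (classSupp {a * s} (X ⊓ 𝐂[t])), F j := by
  obtain ⟨l, hl, la⟩ := h.exists_real
  have ha : a ∈ U ⊔ zpowers a := mem_sup_right (mem_zpowers a)
  have e : ∀ j, s * j ∈ U ⊔ zpowers a → l (a * s * j) = -l (s * j) := fun j hj => by
    rw [mul_assoc, (h.lin hl).2.2 _ ha _ hj, la, neg_one_mul]
  rw [← sum_fs_union, h.class_s hl la, h.refl'.class_s hl la]
  · congr 2
    ext j
    simp only [Inv, Set.mem_ofPred_eq, Set.mem_union, mul_assoc a, mul_mem_cancel_left ha]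
    refine ⟨fun hj => (mul_self_eq_one_iff.1 (h.l_sq hl la hj.1)).imp (fun e => ⟨hj, e⟩)
      fun e' => ⟨hj, by rw [← mul_assoc, e j hj.1, e', neg_neg]⟩, fun hj => hj.elim (·.1) (·.1)⟩
  · rw [h.class_s hl la, h.refl'.class_s hl la]
    refine Set.disjoint_left.2 fun j h1 h2 => ?_
    have := h2.2
    rw [e j h1.1.1, h1.2] at this
    norm_num at this

theorem ncard_Inv : (Inv (U ⊔ zpowers a) s).ncard =
    𝐂[s].relIndex (X ⊓ 𝐂[t]) + 𝐂[a * s].relIndex (X ⊓ 𝐂[t]) := by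
  simpa [card_fs, ncard_class] using h.sum_Inv fun _ => (1 : ℕ)

theorem sum_Inv_real {l : G → ℂ} (hl : l ∈ irrKer (U ⊔ zpowers a) U) (la : l a = -1) :
    ∑ j ∈ fs (Inv (U ⊔ zpowers a) s), l (s * j) =
      𝐂[s].relIndex (X ⊓ 𝐂[t]) - 𝐂[a * s].relIndex (X ⊓ 𝐂[t]) := by
  have ha : a ∈ U ⊔ zpowers a := mem_sup_right (mem_zpowers a)
  rw [h.sum_Inv, sum_fs_congr (g := fun _ => 1) fun j hj => (h.class_s hl la ▸ hj).2,
    sum_fs_congr (A := classSupp {a * s} _) (g := fun _ => -1) fun j hj => by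
      obtain ⟨⟨h1, -⟩, h2⟩ := h.refl'.class_s hl la ▸ hj
      rw [mul_assoc, mul_mem_cancel_left ha] at h1
      rw [mul_assoc, (h.lin hl).2.2 _ ha _ h1, la, neg_one_mul, neg_eq_iff_eq_neg] at h2
      exact h2]
  simp [card_fs, ncard_class, sub_eq_add_neg]

theorem sum_sharp_l {l : G → ℂ} (hl : l ∈ irrKer (U ⊔ zpowers a) U) (la : l a = -1) :
    ∑ y ∈ fs (sharp (zpowers a)), l y = -1 := by
  have h1 := sum_fs_mul_left (mem_zpowers a) l
  rw [sum_fs_congr (g := fun y => -l y) fun y hy => by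
    rw [(h.lin hl).2.2 _ (mem_sup_right (mem_zpowers a)) _ (mem_sup_right hy), la, neg_one_mul],
    Finset.sum_neg_distrib, sum_fs_sharp, (h.lin hl).2.1] at h1
  linear_combination (-1 / 2 : ℂ) * h1

/-- The order formulas.  `x, y, z` are the signed degrees of the characters of height zero. -/
theorem principal : ∃ x y z : ℤ, 2 ^ (n + 3) ∣ x - 1 ∧ 2 ^ (n + 3) ∣ y - 1 - 2 ^ (n + 2) ∧
    2 ^ (n + 3) ∣ z - 1 - 2 ^ (n + 2) ∧ y + z = x + 1 ∧ (x = 1 → ⁅X, X⁆ ≠ X) ∧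
    (∀ d, d = x ∨ d = y ∨ d = z ∨ d = x + 1 → ∃ χ ∈ Irr X, (dg χ : ℤ) = |d|) ∧
    ((X ⊓ 𝐂[t]).relIndex X : ℤ) * (x - 1) ^ 2 =
      2 * (𝐂[s].relIndex (X ⊓ 𝐂[t]) + 𝐂[a * s].relIndex (X ⊓ 𝐂[t])) ^ 2 * x * (x + 1) ∧
    ((X ⊓ 𝐂[t]).relIndex X : ℤ) * (y - z) ^ 2 =
      2 * (𝐂[s].relIndex (X ⊓ 𝐂[t]) - 𝐂[a * s].relIndex (X ⊓ 𝐂[t])) ^ 2 * y * z * (x + 1) := by
  obtain ⟨l, hl, la⟩ := h.exists_real
  obtain ⟨α, hα, r⟩ := h.exists_nonreal
  obtain ⟨A, Y, Z, hA, hY, hZ, A1, -, -, -, -, -, hv, e1, e2⟩ := h.data hl la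
  have hB := e2 α hα r
  obtain ⟨x, hx⟩ := vchar_one_int hA.mem_VChar
  obtain ⟨y, hy⟩ := vchar_one_int hY.mem_VChar
  obtain ⟨z, hz⟩ := vchar_one_int hZ.mem_VChar
  have lt : l t = 1 := by
    rw [← h.pw, (h.lin hl).pow_apply (mem_sup_right (mem_zpowers a)), la, pow_succ', pow_mul]; simp
  obtain ⟨v1, v2, v3⟩ := hv t h.tK h.t1
  rw [lt] at v2 v3
  have cY : ∀ {Y : G → ℂ} {y : ℤ}, Dirr X Y → Y 1 = y → Y t = 1 →
      (∀ g ∈ zpowers a, g ≠ 1 → Y g = l g) → 2 ^ (n + 3) ∣ y - 1 - 2 ^ (n + 2) :=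
    fun {Y y} hY hy v hv => by
      obtain ⟨m, hm⟩ := h.congr_S hY.mem_VChar
      rw [hy, v, sum_fs_congr fun g hg => hv g hg.1 hg.2, h.sum_sharp_l hl la] at hm
      exact ⟨m - 1, by exact_mod_cast (by linear_combination hm :
        (y - 1 - 2 ^ (n + 2) : ℂ) = 2 ^ (n + 3) * (m - 1))⟩
  have s1 : (y + z : ℂ) = x + 1 := by
    have := congrFun e1 1
    simp only [h.th_one hl, Pi.sub_apply, Pi.add_apply, cf1_one, hx, hy, hz] at this
    linear_combination this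
  have b1 : (cf1 X + A - th X (U ⊔ zpowers a) α) 1 = x + 1 := by
    simp only [h.th_one hα, Pi.sub_apply, Pi.add_apply, cf1_one, hx]; ring
  have b2 : (cf1 X + A - th X (U ⊔ zpowers a) α) t ^ 2 = 4 := by
    simp only [h.th_t hα, Pi.sub_apply, Pi.add_apply, cf1_of_mem h.tX, v1]
    rcases h.val_t hα with e | e <;> rw [e] <;> norm_num
  have dgs : ∀ {φ : G → ℂ} {d : ℤ}, Dirr X φ → φ 1 = d → ∃ χ ∈ Irr X, (dg χ : ℤ) = |d| :=
    fun {φ d} hφ e => by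
      rcases hφ with k | k
      · refine ⟨_, k, ?_⟩
        rw [irr_one_eq k] at e
        obtain rfl : (dg φ : ℤ) = d := by exact_mod_cast e
        simp
      · refine ⟨_, k, ?_⟩
        have := irr_one_eq k
        rw [Pi.neg_apply, e] at this
        obtain rfl : d = -(dg (-φ) : ℤ) := by exact_mod_cast neg_eq_iff_eq_neg.1 this
        simp
  have f1 := FF_add X t (cf1 X) A
  have f2 := FF_add X t (cf1 X + A - th X (U ⊔ zpowers a) α) (th X (U ⊔ zpowers a) α)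
  have f3 := FF_add X t (th X (U ⊔ zpowers a) l + Z) Y
  rw [FF_dirr h.tX (dirr_cf1 X), FF_dirr h.tX hA, cf1_of_mem h.tX, cf1_one, v1, hx] at f1
  rw [sub_add_cancel, f1, FF_dirr h.tX hB, b1, b2, h.FF_th hα, h.sum_Inv_zero hα r,
    h.ncard_Inv] at f2
  rw [FF_add X t _ Z, h.FF_th hl, e1, sub_add_cancel, sub_add_cancel, f1, FF_dirr h.tX hY, FF_dirr h.tX hZ,
    h.sum_Inv_real hl la, h.ncard_Inv, v2, v3, hy, hz, map_sub, map_natCast, map_natCast] at f3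
  have x0 : (x : ℂ) ≠ 0 := hx ▸ hA.one_ne_zero
  have y0 : (y : ℂ) ≠ 0 := hy ▸ hY.one_ne_zero
  have z0 : (z : ℂ) ≠ 0 := hz ▸ hZ.one_ne_zero
  have w0 : (x + 1 : ℂ) ≠ 0 := b1 ▸ hB.one_ne_zero
  have c1 : (𝐨(X) : ℂ) = 𝐨((X ⊓ 𝐂[t] : Subgroup G)) * (X ⊓ 𝐂[t]).relIndex X := by
    exact_mod_cast (H1.card_mul_relIndex (inf_le_left : X ⊓ 𝐂[t] ≤ X)).symm
  have c2 := mul_ne_zero (card_ne_zero_C X) (card_ne_zero_C (X ⊓ 𝐂[t]))
  push_cast at f2 f3
  generalize ((X ⊓ 𝐂[t]).relIndex X) = N at *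
  generalize 𝐂[s].relIndex (X ⊓ 𝐂[t]) = k₁ at *
  generalize 𝐂[a * s].relIndex (X ⊓ 𝐂[t]) = k₂ at *
  have g2 : (N : ℂ) * (1 + 1 / x - 4 / (x + 1)) = 2 * (k₁ + k₂) ^ 2 :=
    mul_left_cancel₀ c2 (by linear_combination f2 - 𝐨(X) * (1 + 1 / x - 4 / (x + 1)) * c1)
  have g3 : (N : ℂ) * (1 + 1 / x - 1 / y - 1 / z) = 2 * ((k₁ + k₂) ^ 2 - (k₁ - k₂) ^ 2) :=
    mul_left_cancel₀ c2 (by linear_combination f3 - 𝐨(X) * (1 + 1 / x - 1 / y - 1 / z) * c1)
  refine ⟨x, y, z, ?_, cY hY hy v2 fun g hg e => (hv g hg e).2.1,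
    cY hZ hz v3 fun g hg e => (hv g hg e).2.2, by exact_mod_cast s1, fun e perf => ?_, ?_, ?_, ?_⟩
  · obtain ⟨m, hm⟩ := h.congr_S hA.mem_VChar
    have k := sum_fs_sharp (zpowers a) fun _ => (1 : ℂ)
    rw [sum_fs_const, h.card_K] at k
    rw [hx, v1, sum_fs_congr fun g hg => (hv g hg.1 hg.2).1] at hm
    simp only [nsmul_eq_mul, Nat.cast_pow, Nat.cast_ofNat] at k
    exact ⟨m - 1, by exact_mod_cast (by linear_combination hm + k :
      (x - 1 : ℂ) = 2 ^ (n + 3) * (m - 1))⟩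
  · rw [e, Int.cast_one] at hx
    rcases hA with k | k
    · rw [P5.eq_cf1_of_dg perf k (by exact_mod_cast (irr_one_eq k).symm.trans hx), ip_cf1_cf1] at A1
      exact one_ne_zero A1
    · have := irr_one_eq k
      rw [Pi.neg_apply, hx] at this
      have : (-1 : ℤ) = dg (-A) := by exact_mod_cast this
      omega
  · rintro d (rfl | rfl | rfl | rfl)
    exacts [dgs hA hx, dgs hY hy, dgs hZ hz, dgs hB (by rw [b1]; push_cast; rfl)]
  · field_simp at g2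
    exact_mod_cast (by linear_combination g2 :
      (N * (x - 1) ^ 2 : ℂ) = 2 * (k₁ + k₂) ^ 2 * x * (x + 1))
  · have g4 : (N : ℂ) * (1 / y + 1 / z - 4 / (y + z)) = 2 * (k₁ - k₂) ^ 2 := by
      rw [s1]; linear_combination g2 - g3
    rw [← s1] at w0
    field_simp at g4
    exact_mod_cast (by rw [← s1]; linear_combination g4 :
      (N * (y - z) ^ 2 : ℂ) = 2 * (k₁ - k₂) ^ 2 * y * z * (x + 1))

end DH

end Cfsg.Agent.P15.Ch
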