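/-
Dihedral Sylow 2-subgroups: bounds for the index of the centralizer of an involution.
-/
import Cfsg.Agent.P15.Ch4

set_option autoImplicit false
set_option linter.unusedSectionVars false

namespace Cfsg.Agent.P15.Ch

open Subgroup Cfsg Cfsg.Agent Cfsg.Agent.FT Cfsg.Agent.P1
open scoped commutatorElement

universe u

variable {G : Type u} [Group G] [Finite G]

theorem num_bounds {N k x : ℤ} (hk : 0 < k) (h8 : 8 ∣ x - 1)
    (h : N * (x - 1) ^ 2 = 2 * k ^ 2 * x * (x + 1)) :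
    x ≠ 1 ∧ 21 * k ^ 2 ≤ 16 * N ∧ 16 * N ≤ 45 * k ^ 2 := by
  have hk2 : 0 < k ^ 2 := by positivity
  have h1 : x ≠ 1 := by rintro rfl; nlinarith
  have h2 : 0 < (x - 1) ^ 2 := by have := sub_ne_zero.2 h1; positivity
  have h3 : 9 ≤ x ∨ x ≤ -7 := by omega
  have h4 : 21 * (x - 1) ^ 2 ≤ 32 * x * (x + 1) := by rcases h3 with e | e <;> nlinarith
  have h5 : 32 * x * (x + 1) ≤ 45 * (x - 1) ^ 2 := by rcases h3 with e | e <;> nlinarith
  exact ⟨h1, le_of_mul_le_mul_right (by nlinarith) h2, le_of_mul_le_mul_right (by nlinarith) h2⟩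

namespace DH

variable {X U : Subgroup G} {a t s : G} {n : ℕ} (h : DH X U a t s n)
include h

theorem bounds :
    21 * (𝐂[s].relIndex (X ⊓ 𝐂[t]) + 𝐂[a * s].relIndex (X ⊓ 𝐂[t])) ^ 2 ≤
      16 * (X ⊓ 𝐂[t]).relIndex X ∧ 16 * (X ⊓ 𝐂[t]).relIndex X ≤
      45 * (𝐂[s].relIndex (X ⊓ 𝐂[t]) + 𝐂[a * s].relIndex (X ⊓ 𝐂[t])) ^ 2 := by
  obtain ⟨x, -, -, h1, -, -, -, -, -, h2, -⟩ := h.principal
  have h3 := Nat.pos_of_ne_zero (CH1.relIndex_ne_zero' 𝐂[s] (X ⊓ 𝐂[t]))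
  obtain ⟨-, h4, h5⟩ := num_bounds (by omega) ((Dvd.intro_left (2 ^ n) (by ring)).trans h1) h2
  exact ⟨by exact_mod_cast h4, by exact_mod_cast h5⟩

omit [Finite G] in
theorem sub {M : Subgroup G} (h1 : X ⊓ 𝐂[t] ≤ M) (h2 : M ≤ X) (ha : a ∈ M) (hs : s ∈ M)
    (fus : ∀ j ∈ M, j ≠ 1 → j * j = 1 → ∃ g ∈ M, g * t * g⁻¹ = j) : DH M U a t s n :=
  ⟨ha, hs, h.ord, h.pw, h.ss, h.inv, (le_inf h.UX h.Ut).trans h1, h.Ut, h.odd, h.aU, h.sU,
    fun g hg => h.cover g ⟨h2 hg.1, hg.2⟩, fus⟩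

theorem relIndex_le_two {M : Subgroup G} (h1 : X ⊓ 𝐂[t] ≤ M) (h2 : M ≤ X)
    (fus : ∀ j ∈ M, j ≠ 1 → j * j = 1 → ∃ g ∈ M, g * t * g⁻¹ = j) : M.relIndex X ≤ 2 := by
  have e : M ⊓ 𝐂[t] = X ⊓ 𝐂[t] := le_antisymm (inf_le_inf_right _ h2) (le_inf h1 inf_le_right)
  have h3 := (h.sub h1 h2 (h1 (h.AH (mem_sup_right (mem_zpowers a)))) (h1 h.sH) fus).bounds.1
  have h4 := h.bounds.2
  have h5 := Nat.pos_of_ne_zero (CH1.relIndex_ne_zero' (X ⊓ 𝐂[t]) M)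
  rw [e] at h3
  rw [← relIndex_mul_relIndex _ _ _ h1 h2] at h4
  by_contra h6
  nlinarith

end DH

/-- In a simple group no proper overgroup of `C(t)` has one class of involutions. -/
theorem DH.over_top [IsSimpleGroup G] {U M : Subgroup G} {a t s : G} {n : ℕ}
    (h : DH ⊤ U a t s n) (h1 : 𝐂[t] ≤ M)
    (fus : ∀ j ∈ M, j ≠ 1 → j * j = 1 → ∃ g ∈ M, g * t * g⁻¹ = j) : M = ⊤ := by
  have h2 := h.relIndex_le_two (inf_le_right.trans h1) le_top fus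
  rw [relIndex_top_right] at h2
  have h3 := index_ne_zero_of_finite (H := M)
  by_contra h4
  have h5 : M.index = 2 := by have := mt index_eq_one.1 h4; omega
  rcases (normal_of_index_eq_two h5).eq_bot_or_eq_top with e | e
  · exact h.t1 (mem_bot.1 (e ▸ h1 (self_mem_cent1 t)))
  · exact h4 e

end Cfsg.Agent.P15.Ch
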