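/-
P15, chapter Ch: the order formulas.
-/
import Cfsg.Agent.P15.Defs
import Cfsg.Agent.P15.Ch5

set_option autoImplicit false
set_option linter.unusedSectionVars false

namespace Cfsg.Agent.P15

open Subgroup Cfsg Cfsg.Agent Cfsg.Agent.FT
open Cfsg.Agent.P5 (inv_eq_of_sq)

universe u

variable {G : Type u} [Group G] [Finite G]

theorem Ch.DH.relIndex_s {X U : Subgroup G} {a t s : G} {n : ℕ} (h : Ch.DH X U a t s n) :
    𝐂[s].relIndex (X ⊓ 𝐂[t]) = 2 ^ (n + 1) * 𝐂[s].relIndex U := by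
  have ts : t ∈ 𝐂[s] := mem_cent1_comm.1 h.sH.2
  have h1 := Ch.sum_two (A := U ⊓ 𝐂[s]) (H := (U ⊔ zpowers a) ⊓ 𝐂[s])
    (inf_le_inf_right _ le_sup_left) ⟨h.tA, ts⟩ (fun e => h.t_notMem e.1) h.tt (fun g hg => by
      obtain ⟨u, hu, y, hy, rfl⟩ := h.dec hg.1
      have e := mem_cent1_iff_conj.1 (mem_cent1_comm.1 hg.2)
      have h2 := mul_mem (inv_mem hu) ((mem_normalizer_iff.1 h.sU u).1 hu)
      rw [show u⁻¹ * (s * u * s⁻¹) = u⁻¹ * (s * (u * y) * s⁻¹) * (s * y * s⁻¹)⁻¹ by group, e,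
        inv_eq_of_sq h.ss, h.invK hy, inv_inv, inv_mul_cancel_left] at h2
      rcases h.uniq hy (h.disj (mul_mem hy hy) h2) with rfl | rfl
      · exact .inl ⟨by simpa, hg.2⟩
      · refine .inr ⟨?_, mul_mem ts hg.2⟩
        rwa [← mul_assoc, (mem_cent1_iff_commute.1 (h.Ut hu)).eq, mul_assoc, h.tt, mul_one])
    fun _ => (1 : ℕ)
  have h2 := Ch.sum_two (A := (U ⊔ zpowers a) ⊓ 𝐂[s]) (H := X ⊓ 𝐂[t] ⊓ 𝐂[s])
    (inf_le_inf_right _ h.AH) ⟨h.sH, self_mem_cent1 s⟩ (fun e => h.sA e.1) h.ss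
    (fun g hg => (h.cover g hg.1).imp (fun e => ⟨e, hg.2⟩)
      fun e => ⟨e, mul_mem (self_mem_cent1 s) hg.2⟩) fun _ => (1 : ℕ)
  simp only [sum_fs_const, smul_eq_mul, mul_one] at h1 h2
  have h3 := H1.card_mul_relIndex (inf_le_left : U ⊓ 𝐂[s] ≤ U)
  have h4 := H1.card_mul_relIndex (inf_le_left : X ⊓ 𝐂[t] ⊓ 𝐂[s] ≤ X ⊓ 𝐂[t])
  rw [inf_relIndex_left] at h3 h4
  rw [h2, h1, h.card_H, h.card_A, ← h3] at h4
  refine Nat.eq_of_mul_eq_mul_left (Nat.mul_pos four_pos Nat.card_pos :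
    0 < 4 * 𝐨((U ⊓ 𝐂[s] : Subgroup G))) ?_
  linear_combination h4

theorem DH.toCh {X U : Subgroup G} {y t s : G} {n : ℕ} (h : DH X U y t s (2 ^ (n + 2))) :
    Ch.DH X U y t s n :=
  ⟨h.yX, h.sX, h.ord, by rw [← h.ty, pow_succ 2 (n + 1), Nat.mul_div_cancel _ two_pos], h.ss, h.inv,
    h.UX, h.Ut, h.odd, h.yU, h.sU, fun g hg => by
      obtain ⟨u, hu, z, hz, rfl | rfl⟩ := h.cover g hg
      · exact .inl (mul_mem (mem_sup_left hu) (mem_sup_right hz))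
      · have := P5.inverts_of_mem_zpowers (s := s) (by rw [inv_eq_of_sq h.ss, h.inv]) hz
        rw [show s * (u * z * s) = s * u * s⁻¹ * (s * z * s⁻¹) * (s * s) by group, this, h.ss,
          mul_one]
        exact .inr (mul_mem (mem_sup_left ((mem_normalizer_iff.1 h.sU u).1 hu))
          (mem_sup_right (inv_mem hz))), h.conj⟩

theorem Ch.DH.kk_eq {X U : Subgroup G} {a t s : G} {n : ℕ} (h : Ch.DH X U a t s n) :
    𝐂[a * s].relIndex U = 𝐂[s * a].relIndex U := by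
  have e : s * (a * s) * s⁻¹ = s * a := by group
  rw [← e, cent1_conj, ← relIndex_conj _ U s, conj_eq_of_mem_norm h.sU]

theorem chStmt : ChStmt.{u} := by
  intro G _ _ X U y t s w h
  obtain ⟨n, rfl⟩ := h.pw
  have h' := h.toCh
  obtain ⟨x, Y, Z, ⟨a, h1⟩, ⟨b, h2⟩, ⟨c, h3⟩, h4, -, -, h5, h6⟩ := h'.principal
  rw [h'.relIndex_s, h'.refl'.relIndex_s, h'.kk_eq, inf_relIndex_left] at h5 h6
  have h0 := Nat.pos_of_ne_zero (CH1.relIndex_ne_zero' 𝐂[s] U)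
  obtain rfl : x = 1 + 2 ^ (n + 3) * a := by linear_combination h1
  obtain rfl : Y = 1 + 2 ^ (n + 2) + 2 ^ (n + 3) * b := by linear_combination h2
  obtain rfl : Z = 1 + 2 ^ (n + 2) + 2 ^ (n + 3) * c := by linear_combination h3
  have p0 : (2 : ℤ) ^ (n + 2) ≠ 0 := by positivity
  obtain rfl : a = 1 + b + c :=
    mul_left_cancel₀ (mul_ne_zero two_ne_zero p0) (by linear_combination -h4)
  push_cast at h5 h6
  refine ⟨1 + b + c, b - c, fun e => ?_, ⟨b, by ring⟩, ?_, ?_⟩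
  · rw [e] at h5
    have : (0 : ℤ) < 2 ^ (n + 1) * 𝐂[s].relIndex U + 2 ^ (n + 1) * 𝐂[s * y].relIndex U := by
      positivity
    nlinarith
  · push_cast
    exact mul_left_cancel₀ (pow_ne_zero 2 p0) (by linear_combination h5)
  · push_cast
    exact mul_left_cancel₀ (pow_ne_zero 2 p0) (by linear_combination h6)

end Cfsg.Agent.P15
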