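/-
P15: the set-up `DH`.
-/
import Cfsg.Agent.P15.Bas0
import Cfsg.Agent.P15.Ch

set_option autoImplicit false
set_option linter.unusedSectionVars false

namespace Cfsg.Agent.P15

open Subgroup Cfsg Cfsg.Agent Cfsg.Agent.FT
open Cfsg.Agent.H2 (pPrimeCoreOf layerOf fstarOf PStab)
open Cfsg.Agent.P5 (V4 Tri inv_eq_of_sq)
open Cfsg.Agent.H6.Cyc (Sw)
open scoped commutatorElement

universe u v

variable {G : Type u} [Group G] [Finite G]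

/-- The dihedral group generated by `y` and `s`. -/
abbrev SS (y s : G) : Subgroup G := zpowers y ⊔ zpowers s

theorem mem_zp_of_sq {s g : G} (ss : s * s = 1) (h : g ∈ zpowers s) : g = 1 ∨ g = s := by
  by_cases s1 : s = 1
  · subst s1; exact Or.inl (by simpa using h)
  refine Dd.uniq h (mem_zpowers s) ?_ ss s1
  obtain ⟨k, rfl⟩ := h
  simp only
  rw [← Commute.mul_zpow rfl, ss, one_zpow]

namespace DH

variable {X U : Subgroup G} {y t s : G} {w : ℕ} (h : DH X U y t s w)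
include h

theorem ch : ∃ n, w = 2 ^ (n + 2) ∧ Ch.DH X U y t s n := by
  obtain ⟨n, rfl⟩ := h.pw
  exact ⟨n, rfl, h.toCh⟩

theorem four_dvd : 4 ∣ w := by
  obtain ⟨n, rfl⟩ := h.pw
  exact ⟨2 ^ n, by ring⟩

theorem w_pos : 0 < w := by
  obtain ⟨n, rfl⟩ := h.pw
  positivity

theorem four_le : 4 ≤ w := Nat.le_of_dvd h.w_pos h.four_dvd

theorem eq_four_or : w = 4 ∨ 8 ∣ w := by
  obtain ⟨n, rfl⟩ := h.pw
  rcases n with _ | n
  exacts [Or.inl rfl, Or.inr ⟨2 ^ n, by ring⟩]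

theorem tt : t * t = 1 := let ⟨_, _, c⟩ := h.ch; c.tt
theorem t1 : t ≠ 1 := let ⟨_, _, c⟩ := h.ch; c.t1
theorem tK : t ∈ zpowers y := let ⟨_, _, c⟩ := h.ch; c.tK
theorem tX : t ∈ X := let ⟨_, _, c⟩ := h.ch; c.tX
theorem KX : zpowers y ≤ X := zpowers_le_of_mem h.yX
theorem Kt : zpowers y ≤ 𝐂[t] := let ⟨_, _, c⟩ := h.ch; c.Kt
theorem KU : zpowers y ≤ 𝐍(U) := zpowers_le_of_mem h.yU
theorem yH : y ∈ X ⊓ 𝐂[t] := ⟨h.yX, h.Kt (mem_zpowers y)⟩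
theorem sH : s ∈ X ⊓ 𝐂[t] := let ⟨_, _, c⟩ := h.ch; c.sH
theorem tH : t ∈ X ⊓ 𝐂[t] := ⟨h.tX, self_mem_cent1 t⟩
theorem UH : U ≤ X ⊓ 𝐂[t] := le_inf h.UX h.Ut
theorem HU : X ⊓ 𝐂[t] ≤ 𝐍(U) := let ⟨_, _, c⟩ := h.ch; c.HU
theorem yy : y * y ≠ 1 := let ⟨_, _, c⟩ := h.ch; c.a_sq
theorem sA : s ∉ U ⊔ zpowers y := let ⟨_, _, c⟩ := h.ch; c.sA
theorem invz {z : G} (hz : z ∈ zpowers y) : s * z * s = z⁻¹ := inv_zp h.ss h.inv hz
theorem uniq {z : G} (hz : z ∈ zpowers y) (zz : z * z = 1) : z = 1 ∨ z = t :=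
  Dd.uniq hz h.tK zz h.tt h.t1
theorem disj {z : G} (hz : z ∈ zpowers y) (hU : z ∈ U) : z = 1 :=
  let ⟨_, _, c⟩ := h.ch; c.disj hz hU
theorem invol_A {j : G} (hj : j ∈ U ⊔ zpowers y) (jj : j * j = 1) : j = 1 ∨ j = t :=
  let ⟨_, _, c⟩ := h.ch; c.invol hj jj
theorem cover' {g : G} (hg : g ∈ X ⊓ 𝐂[t]) : g ∈ U ⊔ zpowers y ∨ s * g ∈ U ⊔ zpowers y :=
  let ⟨_, _, c⟩ := h.ch; c.cover g hg
theorem HA : X ⊓ 𝐂[t] ≤ 𝐍(U ⊔ zpowers y) := let ⟨_, _, c⟩ := h.ch; c.HA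
theorem exists_pow {g : G} (hg : g ∈ U ⊔ zpowers y) (hU : g ∉ U) : ∃ m : ℕ, g ^ m = t :=
  let ⟨_, _, c⟩ := h.ch; c.exists_pow hg hU

theorem v4 : V4 t s := ⟨h.t1, fun e => h.sy (e ▸ one_mem _), fun e => h.sy (e ▸ h.tK), h.tt, h.ss,
  mem_cent1.1 h.sH.2⟩

theorem card_H : 𝐨((X ⊓ 𝐂[t] : Subgroup G)) = 2 * w * 𝐨(U) := by
  obtain ⟨n, rfl, c⟩ := h.ch
  rw [c.card_H, c.card_A]; ring

theorem idx_U : U.relIndex (X ⊓ 𝐂[t]) = 2 * w := by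
  obtain ⟨n, rfl, c⟩ := h.ch
  rw [c.idx_U]; ring

/-- `|H : C_H(s)| = (w / 2) k(s)` -/
theorem relIndex_s : 2 * (𝐂[s] : Subgroup G).relIndex (X ⊓ 𝐂[t]) = w * kk U s := by
  obtain ⟨n, rfl, c⟩ := h.ch
  rw [c.relIndex_s]; ring

theorem kk_odd (j : G) : Odd (kk U j) := h.odd.of_dvd_nat (relIndex_dvd_card' _ _)

theorem kk_pos (j : G) : 0 < kk U j := (h.kk_odd j).pos

theorem form : Form w ((𝐂[t] : Subgroup G).relIndex X) (kk U s) (kk U (s * y)) :=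
  chStmt G X U y t s w h

theorem sK : s ∈ 𝐍(zpowers y) := H6.Cyc.mem_norm_zpowers (by
  rw [inv_eq_of_sq h.ss, h.inv]; exact inv_mem (mem_zpowers y))

theorem yS : y ∈ SS y s := mem_sup_left (mem_zpowers y)
theorem sS : s ∈ SS y s := mem_sup_right (mem_zpowers s)
theorem tS : t ∈ SS y s := mem_sup_left h.tK
theorem SH : SS y s ≤ X ⊓ 𝐂[t] := sup_le (zpowers_le_of_mem h.yH) (zpowers_le_of_mem h.sH)
theorem SX : SS y s ≤ X := h.SH.trans inf_le_left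
theorem VS : VV t s ≤ SS y s := V4.le_iff.2 ⟨h.tS, h.sS⟩
omit h in
theorem S_le {M : Subgroup G} (hy : y ∈ M) (hs : s ∈ M) : SS y s ≤ M :=
  sup_le (zpowers_le_of_mem hy) (zpowers_le_of_mem hs)

theorem mem_S {g : G} : g ∈ SS y s ↔ g ∈ zpowers y ∨ s * g ∈ zpowers y := by
  refine ⟨fun e => ?_, fun e => e.elim mem_sup_left fun e =>
    (mul_mem_cancel_left h.sS).1 (mem_sup_left e)⟩
  obtain ⟨a, ha, b, hb, rfl⟩ := (mem_sup_of_norm' (zpowers_le_of_mem h.sK)).1 e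
  rcases mem_zp_of_sq h.ss ha with rfl | rfl
  · exact Or.inl (by simpa)
  · exact Or.inr (by rwa [← mul_assoc, h.ss, one_mul])

theorem out_eq {g : G} (hg : g ∈ SS y s) (g1 : g ∉ zpowers y) : ∃ z ∈ zpowers y, g = s * z :=
  ⟨s * g, (h.mem_S.1 hg).resolve_left g1, by rw [← mul_assoc, h.ss, one_mul]⟩

theorem card_S : 𝐨(SS y s) = 2 * w := by
  rw [← H1.card_mul_relIndex (le_sup_left : zpowers y ≤ SS y s), Nat.card_zpowers, h.ord,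
    relIndex_eq_two_iff_exists_notMem_and'.2 ⟨s, h.sS, h.sy, fun g hg => (h.mem_S.1 hg).symm⟩,
    mul_comm]

theorem two_S : IsPGroup 2 (SS y s) := by
  obtain ⟨n, e⟩ := h.pw
  exact isPGroup_of_card_eq (n := n + 3) (by rw [h.card_S, e]; ring)

theorem two_K : IsPGroup 2 (zpowers y) := h.two_S.to_le le_sup_left

theorem dd : Dd (SS y s) y := by
  refine ⟨h.two_S, h.yS, fun g hg e => ?_, fun g hg e => ?_, fun g a g' a' b b' => ?_⟩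
  · obtain ⟨a, ha, rfl⟩ := h.out_eq hg e
    rw [← mul_assoc, h.invz ha, inv_mul_cancel]
  · obtain ⟨a, ha, rfl⟩ := h.out_eq hg e
    rw [mul_assoc s a, ← mul_assoc, h.invz (mul_mem ha (mem_zpowers y)), mul_inv_rev,
      inv_mul_cancel_right]
  · obtain ⟨c, hc, rfl⟩ := h.out_eq a b
    obtain ⟨c', hc', rfl⟩ := h.out_eq a' b'
    rw [← mul_assoc, h.invz hc]
    exact mul_mem (inv_mem hc) hc'

theorem sdH : SdProd U (SS y s) (X ⊓ 𝐂[t]) :=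
  sdProd_of_card h.UH h.SH (h.SH.trans h.HU)
    (disjoint_iff.1 (disjoint_of_coprime_natCard (P4.coprime_of_odd h.two_S h.odd)))
    (by rw [h.card_H, h.card_S, mul_comm])

theorem syl_H : IsSyl 2 (SS y s) (X ⊓ 𝐂[t]) :=
  ⟨h.SH, h.two_S, by rw [h.sdH.relIndex_right]; exact P4.odd_iff_not_dvd.1 h.odd⟩

theorem syl : IsSyl 2 (SS y s) X := by
  obtain ⟨T, hT, h1⟩ := exists_isSyl_ge Nat.prime_two h.two_S h.SX
  obtain ⟨z, hz, zc, z1, zz⟩ := P4.exists_invol_center hT.pgrp ⟨le_rfl, le_norm_self T⟩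
    fun e => h.t1 (mem_bot.1 (e ▸ h1 h.tS))
  obtain ⟨g, hg, rfl⟩ := h.conj z (hT.le hz) z1 zz
  have h2 := h.syl_H.conj g
  rw [conj_inf, conj_eq_of_mem hg, ← cent1_conj] at h2
  have h3 := h2.card_dvd Nat.prime_two hT.pgrp (le_inf hT.le (mem_cent_iff_cent1.1 zc))
  rw [card_conj] at h3
  exact hT.of_card_le Nat.prime_two h.two_S h.SX (Nat.le_of_dvd Nat.card_pos h3)

theorem odd_index : Odd ((𝐂[t] : Subgroup G).relIndex X) := by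
  rw [P4.odd_iff_not_dvd, ← inf_relIndex_left]
  exact fun e => h.syl.ndvd (e.trans (relIndex_dvd_of_le_left _ h.SH))

theorem dd_of_le {T : Subgroup G} (hT : IsPGroup 2 T) (hX : T ≤ X) : ∃ c, Dd T c := by
  obtain ⟨g, -, h1⟩ := h.syl.exists_le_conj Nat.prime_two hT hX
  obtain ⟨d, -, -, h2⟩ := (h.dd.map _).sub h1
  exact ⟨d, h2⟩

theorem dc : DC X := by
  refine dc_of_syl (S := (SS y s).subgroupOf X) (c := ⟨y, h.yX⟩) ?_
    (Dd.comap X.subtype_injective ?_)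
  · rw [← isSyl_map_iff X.subtype_injective, map_subgroupOf_eq_of_le h.SX,
      ← MonoidHom.range_eq_map, range_subtype]
    exact h.syl
  · rw [map_subgroupOf_eq_of_le h.SX]; exact h.dd

theorem npc : HasNPC 2 (X ⊓ 𝐂[t]) := hasNPC_of_normal Nat.prime_two
  (h.sdH.hall ((isPi_compl_singleton_iff' Nat.prime_two).2 (P4.odd_iff_not_dvd.1 h.odd))
    (by rw [compl_compl]; exact (isPi_singleton_iff Nat.prime_two).2 h.two_S)).1 h.HU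

theorem eq_core : U = pPrimeCoreOf 2 (X ⊓ 𝐂[t]) := by
  refine eq_of_le_of_card_ge (H6.Cyc.le_core h.npc h.UH h.odd) (le_of_eq ?_)
  have := (h.npc.sdProd Nat.prime_two h.syl_H).card.symm.trans h.sdH.card
  exact Nat.eq_of_mul_eq_mul_right Nat.card_pos this

theorem le_of_odd {W : Subgroup G} (hW : W ≤ X ⊓ 𝐂[t]) (ho : Odd 𝐨(W)) : W ≤ U :=
  h.eq_core ▸ H6.Cyc.le_core h.npc hW ho

theorem mem_of_odd {g : G} (hg : g ∈ X ⊓ 𝐂[t]) (ho : Odd (orderOf g)) : g ∈ U :=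
  h.le_of_odd (zpowers_le_of_mem hg) (by rwa [Nat.card_zpowers]) (mem_zpowers g)

theorem odd_of_mem {g : G} (hg : g ∈ U) : Odd (orderOf g) :=
  h.odd.of_dvd_nat (orderOf_dvd_card_of_mem hg)

theorem solv : Group.IsSolvable (X ⊓ 𝐂[t] : Subgroup G) := H6.Cyc.solv_of_npc h.npc

/-- Any element of `S \ ⟨y⟩` may replace `s`. -/
theorem replace {j : G} (hj : j ∈ SS y s) (j1 : j ∉ zpowers y) : DH X U y t j w := by
  refine ⟨h.yX, h.SX hj, h.ord, h.pw, h.ty, h.dd.sq j hj j1, j1, h.dd.inv j hj j1, h.UX, h.Ut, h.odd,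
    h.yU, h.HU (h.SH hj), fun g hg => ?_, h.conj⟩
  obtain ⟨u, hu, z, hz, rfl⟩ := h.sdH.mem_iff.1 hg
  by_cases e : z ∈ zpowers y
  · exact ⟨u, hu, z, e, Or.inl rfl⟩
  · exact ⟨u, hu, z * j, h.dd.mul z hz j hj e j1, Or.inr (by
      rw [mul_assoc, mul_assoc, h.dd.sq j hj j1, mul_one])⟩

theorem SS_replace {j : G} (hj : j ∈ SS y s) (j1 : j ∉ zpowers y) : SS y j = SS y s :=
  eq_of_le_of_card_ge (S_le h.yS hj) (by rw [h.card_S, (h.replace hj j1).card_S])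

theorem syS : s * y ∈ SS y s := mul_mem h.sS h.yS

theorem sy1 : s * y ∉ zpowers y := by rw [mul_mem_cancel_right (mem_zpowers y)]; exact h.sy

theorem swap : DH X U y t (s * y) w := h.replace h.syS h.sy1

theorem SS_swap : SS y (s * y) = SS y s := h.SS_replace h.syS h.sy1

omit h in
/-- `k` is constant on the classes of `N(U)`. -/
theorem kk_conj {g : G} (hg : g ∈ 𝐍(U)) (j : G) : kk U (g * j * g⁻¹) = kk U j := by
  rw [kk, kk, cent1_conj, ← relIndex_conj 𝐂[j] U g, conj_eq_of_mem_norm hg]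

theorem conj_s {z : G} (hz : z ∈ zpowers y) : z⁻¹ * s * z⁻¹⁻¹ = s * (z * z) := by
  rw [← h.invz hz, inv_eq_iff_eq_inv.2 (h.invz hz), mul_assoc (s * z), h.ss, mul_one, mul_assoc]

theorem kk_swap : kk U (s * y * y) = kk U s := by
  rw [mul_assoc, ← h.conj_s (mem_zpowers y), kk_conj (inv_mem h.yU)]

theorem map {K : Type v} [Group K] {f : G →* K} (hf : Function.Injective f) :
    DH (X.map f) (U.map f) (f y) (f t) (f s) w := by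
  refine ⟨mem_map_of_mem f h.yX, mem_map_of_mem f h.sX, by rw [orderOf_injective f hf, h.ord], h.pw,
    by rw [← map_pow, h.ty], by rw [← map_mul, h.ss, map_one], ?_,
    by rw [← map_mul, ← map_mul, h.inv, map_inv], map_mono h.UX,
    (map_mono h.UH).trans ((map_inf_cent1 hf X t).le.trans inf_le_right),
    by rw [card_map_inj hf]; exact h.odd, le_normalizer_map f (mem_map_of_mem f h.yU),
    le_normalizer_map f (mem_map_of_mem f h.sU), fun g hg => ?_, ?_⟩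
  · rw [← MonoidHom.map_zpowers, mem_map_iff_mem hf]; exact h.sy
  · rw [← map_inf_cent1 hf] at hg
    obtain ⟨g, hg, rfl⟩ := hg
    obtain ⟨u, hu, z, hz, e⟩ := h.cover g hg
    exact ⟨f u, mem_map_of_mem f hu, f z, MonoidHom.map_zpowers f y ▸ mem_map_of_mem f hz,
      e.imp (fun e => by rw [e, map_mul]) fun e => by rw [e, map_mul, map_mul]⟩
  · rintro _ ⟨j, hj, rfl⟩ j1 jj
    obtain ⟨g, hg, rfl⟩ := h.conj j hj (fun e => j1 (by rw [e, map_one]))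
      (hf (by rw [map_mul, jj, map_one]))
    exact ⟨f g, mem_map_of_mem f hg, by simp⟩

theorem cj (g : G) :
    DH (X ^ᵍ g) (U ^ᵍ g) (g * y * g⁻¹) (g * t * g⁻¹) (g * s * g⁻¹) w := h.map (conj_injective g)

theorem cjX {g : G} (hg : g ∈ X) :
    DH X (U ^ᵍ g) (g * y * g⁻¹) (g * t * g⁻¹) (g * s * g⁻¹) w := by
  have := h.cj g
  rwa [conj_eq_of_mem hg] at this

theorem cjH {g : G} (hg : g ∈ X ⊓ 𝐂[t]) : DH X U (g * y * g⁻¹) t (g * s * g⁻¹) w := by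
  have := h.cjX hg.1
  rwa [conj_eq_of_mem_norm (h.HU hg), mem_cent1_iff_conj.1 hg.2] at this

theorem out_conj {j : G} (hj : j ∈ SS y s) (j1 : j ∉ zpowers y) :
    ∃ z ∈ zpowers y, z * s * z⁻¹ = j ∨ z * (s * y) * z⁻¹ = j := by
  obtain ⟨a, ha, rfl⟩ := h.out_eq hj j1
  have k : ∀ b ∈ zpowers (y * y), ∃ z ∈ zpowers y, z * z = b := by
    rintro _ ⟨k, rfl⟩
    exact ⟨y ^ k, zpow_mem (mem_zpowers y) k, (Commute.mul_zpow rfl k).symm⟩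
  rcases H6.Cyc.mem_sq_or y (mul_mem (inv_mem (mem_zpowers y)) ha) with e | e
  · obtain ⟨z, hz, e⟩ := k _ e
    exact ⟨z⁻¹, inv_mem hz, Or.inr (by rw [h.swap.conj_s hz, e]; group)⟩
  · obtain ⟨z, hz, e⟩ := k _ e
    exact ⟨z⁻¹, inv_mem hz, Or.inl (by rw [h.conj_s hz, e]; group)⟩

/-- The involutions of a subgroup containing `S`. -/
theorem invol_M {M : Subgroup G} (hM : M ≤ X) (hy : y ∈ M) (hs : s ∈ M) {j : G} (hj : j ∈ M)
    (j1 : j ≠ 1) (jj : j * j = 1) :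
    ∃ g ∈ M, g * t * g⁻¹ = j ∨ g * s * g⁻¹ = j ∨ g * (s * y) * g⁻¹ = j := by
  obtain ⟨g, hg, e⟩ := (h.syl.of_le (S_le hy hs) hM).exists_le_conj Nat.prime_two
    (P4.isPGroup_zpowers_of_sq jj) (zpowers_le_of_mem hj)
  obtain ⟨a, ha, rfl⟩ := mem_conj'.1 (e (mem_zpowers j))
  by_cases a1 : a ∈ zpowers y
  · rcases h.uniq a1 (by rw [conj_mul] at jj; simpa using jj) with rfl | rfl
    exacts [absurd (by simp) j1, ⟨g, hg, Or.inl rfl⟩]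
  · obtain ⟨z, hz, e⟩ := h.out_conj ha a1
    exact ⟨g * z, mul_mem hg (zpowers_le_of_mem hy hz),
      Or.inr (e.imp (fun e => by rw [← e]; group) fun e => by rw [← e]; group)⟩

theorem invol_H {j : G} (hj : j ∈ X ⊓ 𝐂[t]) (j1 : j ≠ 1) (jj : j * j = 1) (jt : j ≠ t) :
    ∃ g ∈ X ⊓ 𝐂[t], g * s * g⁻¹ = j ∨ g * (s * y) * g⁻¹ = j := by
  obtain ⟨g, hg, e⟩ := h.invol_M inf_le_left h.yH h.sH hj j1 jj
  exact ⟨g, hg, e.resolve_left fun e => jt (e.symm.trans (mem_cent1_iff_conj.1 hg.2))⟩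

/-- `s` and `s y` are not conjugate in `H`. -/
theorem not_conj {g : G} (hg : g ∈ X ⊓ 𝐂[t]) : g * s * g⁻¹ ≠ s * y := fun e => by
  obtain ⟨u, hu, a, ha, rfl⟩ := h.sdH.mem_iff.1 hg
  obtain ⟨z, hz, h1⟩ : ∃ z ∈ zpowers y, a * s * a⁻¹ = s * (z * z) := by
    by_cases a1 : a ∈ zpowers y
    · exact ⟨a⁻¹, inv_mem a1, by rw [← h.conj_s (inv_mem a1), inv_inv]⟩
    · obtain ⟨z, hz, rfl⟩ := h.out_eq ha a1
      exact ⟨z, hz, by rw [mul_inv_rev, inv_eq_of_sq h.ss, ← h.invz hz]; simp [mul_assoc, h.ss, ← mul_assoc s s]⟩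
  have h2 : z * z ∈ zpowers y := mul_mem hz hz
  have h3 := mul_mem ((mem_normalizer_iff.1 (inv_mem h.sU) u).1 hu)
    ((mem_normalizer_iff.1 (h.KU h2) _).1 (inv_mem hu))
  rw [show s⁻¹ * u * s⁻¹⁻¹ * (z * z * u⁻¹ * (z * z)⁻¹) =
    s⁻¹ * (u * (s * (z * z)) * u⁻¹) * (z * z)⁻¹ by group, ← h1,
    show u * (a * s * a⁻¹) * u⁻¹ = u * a * s * (u * a)⁻¹ by group, e, inv_mul_cancel_left] at h3
  have h4 := mul_inv_eq_one.1 (h.disj (mul_mem (mem_zpowers y) (inv_mem h2)) h3)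
  obtain ⟨k, rfl⟩ := hz
  have h5 : y ∈ zpowers (y ^ 2) := ⟨k, by
    simp only at h4 ⊢; rw [sq, Commute.mul_zpow rfl, ← h4]⟩
  rw [mem_zpowers_pow_iff, h.ord] at h5
  have := Nat.dvd_gcd (dvd_refl 2) ((by norm_num : 2 ∣ 4).trans h.four_dvd)
  omega

/-- Every noncentral involution of `H` is part of a set-up. -/
theorem of_H {j : G} (hj : j ∈ X) (v : V4 t j) : ∃ y', DH X U y' t j w := by
  obtain ⟨g, hg, rfl | rfl⟩ := h.invol_H ⟨hj, mem_cent1.2 v.comm⟩ v.s1 v.ss v.ts.symm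
  exacts [⟨_, h.cjH hg⟩, ⟨_, h.swap.cjH hg⟩]

theorem of_invol {a : G} (ha : a ∈ X) (a1 : a ≠ 1) (aa : a * a = 1) :
    ∃ U' y' s', DH X U' y' a s' w := by
  obtain ⟨g, hg, rfl⟩ := h.conj a ha a1 aa
  exact ⟨_, _, _, h.cjX hg⟩

theorem of_v4 {a b : G} (ha : a ∈ X) (hb : b ∈ X) (v : V4 a b) : ∃ U' y', DH X U' y' a b w := by
  obtain ⟨U', y', s', h'⟩ := h.of_invol ha v.t1 v.tt
  exact ⟨U', h'.of_H hb v⟩

theorem y0_mem : y ^ (w / 4) ∈ zpowers y := pow_mem (mem_zpowers y) _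

theorem y0_sq : y ^ (w / 4) * y ^ (w / 4) = t := by
  obtain ⟨k, rfl⟩ := h.four_dvd
  rw [← h.ty, ← pow_add]; congr 1; omega

theorem sw {u : G} (hu : u ∈ zpowers y) (uu : u * u = t) : Sw u t s :=
  ⟨mem_cent1_iff_conj.1 (h.Kt hu), by
    have := h.conj_s (inv_mem hu)
    rw [inv_inv, ← mul_inv_rev, uu, inv_eq_of_sq h.tt] at this
    rw [this, h.v4.comm.eq]⟩

theorem sw0 : Sw (y ^ (w / 4)) t s := h.sw h.y0_mem h.y0_sq

theorem exists_sw {a b : G} (ha : a ∈ X) (hb : b ∈ X) (v : V4 a b) :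
    ∃ g ∈ X, g * g = a ∧ Sw g a b := by
  obtain ⟨U', y', h'⟩ := h.of_v4 ha hb v
  exact ⟨_, h'.KX h'.y0_mem, h'.y0_sq, h'.sw0⟩

theorem exists_tri {a b : G} (ha : a ∈ X) (hb : b ∈ X) (v : V4 a b) : ∃ x ∈ X, Tri x a b := by
  obtain ⟨g, hg, -, h1⟩ := h.exists_sw ha hb v
  obtain ⟨g', hg', -, h2⟩ := h.exists_sw hb ha v.swap
  exact ⟨_, mul_mem (mul_mem (mul_mem hg' hg) (inv_mem hg')) (inv_mem hg), h1.tri h2 v⟩

theorem mem_B {g : G} : g ∈ U ⊓ 𝐂[s] ↔ g ∈ X ∧ g ∈ 𝐂(VV t s) ∧ Odd (orderOf g) := by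
  rw [cent_VV]
  exact ⟨fun e => ⟨h.UX e.1, ⟨h.Ut e.1, e.2⟩, h.odd_of_mem e.1⟩,
    fun e => ⟨h.mem_of_odd ⟨e.1, e.2.1.1⟩ e.2.2, e.2.1.2⟩⟩

theorem B_le : U ⊓ 𝐂[s] ≤ X ⊓ 𝐂(VV t s) := fun _ e => ⟨(h.mem_B.1 e).1, (h.mem_B.1 e).2.1⟩

theorem odd_B : Odd 𝐨((U ⊓ 𝐂[s] : Subgroup G)) := h.odd.of_dvd_nat (FT.card_dvd_of_le inf_le_left)

theorem le_B {W : Subgroup G} (hW : W ≤ X ⊓ 𝐂(VV t s)) (ho : Odd 𝐨(W)) : W ≤ U ⊓ 𝐂[s] :=
  fun _ e => h.mem_B.2 ⟨(hW e).1, (hW e).2, ho.of_dvd_nat (orderOf_dvd_card_of_mem e)⟩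

theorem norm_B : 𝐍(X) ⊓ 𝐍(VV t s) ≤ 𝐍(U ⊓ 𝐂[s]) := fun g hg =>
  mem_norm_of_conj_le (h.le_B (conj_le_of_mem_norm h.B_le (H1.le_normalizer_inf inf_le_left
    (inf_le_right.trans (H1.normalizer_le_normalizer_centralizer _)) hg))
      (by rw [card_conj]; exact h.odd_B))

theorem tri_B {x : G} (hx : x ∈ X) (tri : Tri x t s) : x ∈ 𝐍(U ⊓ 𝐂[s]) :=
  h.norm_B ⟨le_norm_self X hx, tri.mem_norm h.v4⟩

theorem B_ts : U ⊓ 𝐂[t * s] = U ⊓ 𝐂[s] := by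
  ext g
  refine and_congr_right fun hu => ?_
  have c := mem_cent1_iff_commute.1 (h.Ut hu)
  change g ∈ 𝐂[t * s] ↔ g ∈ 𝐂[s]
  simp only [mem_cent1_iff_commute]
  exact ⟨fun e => by simpa using c.inv_left.mul_left e, c.mul_left⟩

/-- `C_X(V) = C_U(s) × V` -/
theorem cent_V {g : G} (hg : g ∈ X ⊓ 𝐂(VV t s)) : ∃ b ∈ U ⊓ 𝐂[s], ∃ v ∈ VV t s, b * v = g := by
  have h1 : IsSyl 2 (VV t s) (X ⊓ 𝐂(VV t s)) := by
    refine isSyl_of_maximal Nat.prime_two (le_inf (h.VS.trans h.SX) (V4.le_cent h.v4))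
      h.v4.isPGroup fun R h1 h2 h3 => le_antisymm (fun g hg => ?_) h1
    obtain ⟨c, d⟩ := h.dd_of_le h3 (h2.trans inf_le_left)
    have h4 := cent_VV t s ▸ (h2 hg).2
    exact d.four h.v4 (h1 V4.t_mem) (h1 V4.s_mem) hg (mem_cent1.1 h4.1) (mem_cent1.1 h4.2)
  obtain ⟨b, hb, v, hv, e⟩ := ((h.npc.of_le Nat.prime_two (inf_le_inf_left X
    (cent_le_cent1 V4.t_mem))).sdProd Nat.prime_two h1).mem_iff.1 hg
  exact ⟨b, h.le_B (H6.Cyc.core_le _) (H6.Cyc.odd_core _) hb, v, hv, e⟩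

theorem sub {M : Subgroup G} (hM : M ≤ X) (hy : y ∈ M) (hs : s ∈ M)
    (fus : ∀ j ∈ M, j ≠ 1 → j * j = 1 → ∃ g ∈ M, g * t * g⁻¹ = j) : DH M (U ⊓ M) y t s w := by
  refine ⟨hy, hs, h.ord, h.pw, h.ty, h.ss, h.sy, h.inv, inf_le_right, inf_le_left.trans h.Ut,
    h.odd.of_dvd_nat (FT.card_dvd_of_le inf_le_left), inf_normalizer_le_normalizer_inf
      ⟨h.yU, le_norm_self M hy⟩, inf_normalizer_le_normalizer_inf ⟨h.sU, le_norm_self M hs⟩,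
    fun g hg => ?_, fus⟩
  obtain ⟨u, hu, z, hz, e⟩ := h.cover g ⟨hM hg.1, hg.2⟩
  refine ⟨u, ⟨hu, ?_⟩, z, hz, e⟩
  have h1 := zpowers_le_of_mem hy hz
  rcases e with rfl | rfl
  · exact (mul_mem_cancel_right h1).1 hg.1
  · exact (mul_mem_cancel_right h1).1 ((mul_mem_cancel_right hs).1 hg.1)

/-- One class of involutions in `M` as soon as `s` and `s y` are fused to `t`. -/
theorem fus {M : Subgroup G} (hM : M ≤ X) (hy : y ∈ M) (hs : s ∈ M)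
    (h1 : ∃ g ∈ M, g * t * g⁻¹ = s) (h2 : ∃ g ∈ M, g * t * g⁻¹ = s * y) :
    ∀ j ∈ M, j ≠ 1 → j * j = 1 → ∃ g ∈ M, g * t * g⁻¹ = j := fun j hj j1 jj => by
  obtain ⟨a, ha, h1⟩ := h1
  obtain ⟨b, hb, h2⟩ := h2
  obtain ⟨g, hg, e | e | e⟩ := h.invol_M hM hy hs hj j1 jj
  · exact ⟨g, hg, e⟩
  · exact ⟨g * a, mul_mem hg ha, by rw [← e, ← h1]; group⟩
  · exact ⟨g * b, mul_mem hg hb, by rw [← e, ← h2]; group⟩

end DH

/-- In a simple group no proper overgroup of `C(t)` has one class of involutions. -/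
theorem DH.over [IsSimpleGroup G] {U M : Subgroup G} {y t s : G} {w : ℕ} (h : DH ⊤ U y t s w)
    (h1 : 𝐂[t] ≤ M) (fus : ∀ j ∈ M, j ≠ 1 → j * j = 1 → ∃ g ∈ M, g * t * g⁻¹ = j) : M = ⊤ :=
  let ⟨_, _, c⟩ := h.ch; c.over_top h1 fus

theorem DH.over_tri [IsSimpleGroup G] {U M : Subgroup G} {y t s : G} {w : ℕ} (h : DH ⊤ U y t s w)
    (h1 : 𝐂[t] ≤ M) (hM : M ≠ ⊤) :
    M ⊓ 𝐍(VV t s) ≤ 𝐂[t] ∨ M ⊓ 𝐍(VV t (s * y)) ≤ 𝐂[t] := by
  have key : ∀ s', DH ⊤ U y t s' w → ¬ M ⊓ 𝐍(VV t s') ≤ 𝐂[t] → ∃ g ∈ M, g * t * g⁻¹ = s' := by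
    intro s' h' e
    obtain ⟨g, hg, e⟩ := SetLike.not_le_iff_exists.1 e
    rcases h'.v4.mem_iff.1 ((mem_normalizer_iff.1 hg.2 t).1 V4.t_mem) with a | a | a | a
    · exact absurd a (V4.cj h'.v4 g).t1
    · exact absurd (mem_cent1_iff_conj.2 a) e
    · exact ⟨g, hg.1, a⟩
    · refine ⟨_, mul_mem (h1 (h'.Kt h'.y0_mem)) hg.1, ?_⟩
      rw [← h'.sw0.third h'.v4, ← a]; group
  by_contra e
  rw [not_or] at e
  exact hM (h.over h1 (h.fus le_top (h1 h.yH.2) (h1 h.sH.2) (key s h e.1) (key _ h.swap e.2)))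

theorem DC.exists_dh [IsSimpleGroup G] (h : DC G) (na : ¬ IsMulCommutative G)
    (h8 : 8 ∣ Nat.card G) : ∃ (U : Subgroup G) (y t s : G) (w : ℕ), DH ⊤ U y t s w := by
  obtain ⟨S, hS⟩ := exists_isSyl Nat.prime_two (⊤ : Subgroup G)
  obtain ⟨y, d⟩ := h.dd hS.pgrp
  have h1 : 8 ∣ 𝐨(S) := by
    rw [← card_top, ← H1.card_mul_relIndex hS.le] at h8
    exact ((Nat.prime_two.coprime_iff_not_dvd.2 hS.ndvd).pow_left 3).dvd_of_dvd_mul_right h8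
  rcases d.cyc_or with e | ⟨s, v, e⟩ | ⟨yy, s, hs, s1⟩
  · exact absurd (P4.solvable_of_cyclic hS e) (H6.Cyc.not_solv na)
  · rw [e, v.card] at h1; omega
  obtain ⟨t, tK, t1, tt⟩ := P4.exists_invol (hS.pgrp.to_le d.le)
    (zpowers_ne_bot.2 fun e => yy (by rw [e, mul_one]))
  have m : P4.Max2 S y t s := ⟨hS, d.cT, tK, t1, tt, hs, s1, d.sq s hs s1,
    fun g hg => or_iff_not_imp_left.2 (d.mul s hs g hg s1), fun z hz => d.sq_of_comm hs s1 hz⟩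
  obtain ⟨n, hn⟩ := exists_card_eq_pow Nat.prime_two (hS.pgrp.to_le d.le)
  rw [Nat.card_zpowers] at hn
  obtain ⟨n, rfl⟩ : ∃ k, n = k + 2 := by
    rw [m.card, hn, ← pow_succ', show 8 = 2 ^ 3 by norm_num,
      Nat.pow_dvd_pow_iff_le_right one_lt_two] at h1
    exact ⟨n - 2, by omega⟩
  have sd := (h.npc_cent t1 tt).sdProd Nat.prime_two (hS.of_le m.le_cent le_top)
  refine ⟨_, y, t, s, _, trivial, trivial, hn, ⟨n, rfl⟩, ?_, m.ss, s1, d.inv s hs s1, le_top,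
    sd.le_left, H6.Cyc.odd_core _, sd.norm d.cT, sd.norm hs, fun g hg => ?_, fun j _ j1 jj => ?_⟩
  · refine (m.uniq (pow_mem (mem_zpowers y) _) ?_).resolve_left
      (pow_ne_one_of_lt_orderOf (by rw [pow_succ, Nat.mul_div_cancel _ two_pos]; positivity) ?_)
    · rw [← pow_add, ← two_mul, pow_succ, Nat.mul_div_cancel _ two_pos, ← pow_succ', ← hn,
        pow_orderOf_eq_one]
    · rw [hn]; exact Nat.div_lt_self (by positivity) one_lt_two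
  · obtain ⟨u, hu, a, ha, rfl⟩ := sd.mem_iff.1 hg.2
    by_cases e : a ∈ zpowers y
    · exact ⟨u, hu, a, e, Or.inl rfl⟩
    · exact ⟨u, hu, a * s, d.mul a ha s hs e s1, Or.inr (by
        rw [mul_assoc, mul_assoc, m.ss, mul_one])⟩
  · rcases m.isConj_or j1 jj with e | ⟨N, e, -⟩
    · obtain ⟨g, e⟩ := isConj_iff.1 e
      exact ⟨g, trivial, e⟩
    · exact absurd e (H6.Cyc.index_ne_two na N)

end Cfsg.Agent.P15
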