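/-
P15, chapter A: odd order subgroups normalized by `C(t)` are centralized by `t`.
-/
import Cfsg.Agent.P15.A2
import Cfsg.Agent.P15.Bas1

set_option autoImplicit false
set_option linter.unusedSectionVars false
set_option linter.style.haveILetI false

namespace Cfsg.Agent.P15

open Subgroup Cfsg Cfsg.Agent Cfsg.Agent.FT H2 P5 P5.Mx
open scoped commutatorElement Pointwise

universe u

theorem PA.not_cfg (A1 : A1Stmt.{u}) {G : Type u} [Group G] [Finite G] (gf : GF G)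
    {U T M : Subgroup G} {y t s : G} {w p : ℕ} (h : DH ⊤ U y t s w)
    (c : MCfg (VV t s) t p T M) (nc : M ⊓ 𝐍(VV t s) ≤ 𝐂[t]) : False := by
  haveI := gf.simple
  obtain ⟨x, -, tri⟩ := h.exists_tri trivial trivial h.v4
  have k := F4.of_v4 h.v4
  refine PA.AX.false ⟨h.v4, AH.of_tri gf h.v4 tri c, c, nc, fun z hz z1 => ?_,
    ⟨_, h.SH.trans inf_le_right, h.syl.pgrp, h.syl.ndvd⟩, A1 G gf t s x p T M h.v4 tri c nc⟩
  by_cases e : z = t
  · exact ⟨1, one_mem _, by simp [e], by simp [e]⟩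
  have m := mul_mem hz (V4.t_mem (s := s))
  have e1 : z * t * t = z := by rw [mul_assoc, h.tt, mul_one]
  have n1 := k.mul_ne_one V4.t_mem e
  have n2 : z * t ≠ t := fun e => z1 (by simpa using e)
  have v := k.v4 m V4.t_mem n1 h.t1 n2
  obtain ⟨g, -, -, sw⟩ := h.exists_sw trivial trivial v
  have e2 : VV (z * t) t = VV t s := le_antisymm (V4.le_iff.2 ⟨m, V4.t_mem⟩)
    (k.le_of_mem m V4.t_mem n1 h.t1 n2 V4.t_mem V4.s_mem)
  exact ⟨g, e2 ▸ sw.mem_norm, e1 ▸ sw.2, e1 ▸ sw.third v⟩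

theorem aStmt (A1 : A1Stmt.{u}) : AStmt.{u} := by
  intro G _ _ gf U y t s w h W ho hW
  haveI := gf.simple
  by_contra hn
  have htW : zpowers t ≤ 𝐍(W) := (zpowers_le.2 h.tH.2).trans hW
  obtain ⟨p, hp, hp1⟩ : ∃ p : ℕ, p.Prime ∧ ¬ zpowers t ≤ 𝐂(pCoreOf p W) := by
    by_contra hcon
    push Not at hcon
    exact hn (zpowers_le_cent_iff.1 (FT.coprime_cent_fitting htW (coprime_zpowers h.tt ho)
      (Mx.isSolvable_of_odd ho) (le_cent_fittingOf hcon)))
  have hodd : Odd (Nat.card (pCoreOf p W)) := odd_of_le (pCoreOf_le _ _) ho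
  have hp2 : p ≠ 2 := by
    rintro rfl
    obtain ⟨k, hk⟩ := IsPGroup.iff_card.1 (isPGroup_pCoreOf 2 W)
    rw [hk] at hodd
    obtain rfl : k = 0 := by
      by_contra h0
      exact Nat.not_even_iff_odd.2 hodd (Nat.even_pow.2 ⟨even_two, h0⟩)
    rw [pow_zero, card_eq_one] at hk
    exact hp1 (by rw [hk, zpowers_le_cent_iff]; exact bot_le)
  have hMP : 𝐂[t] ≤ 𝐍(pCoreOf p W) := hW.trans (normalizer_le_normalizer_pCoreOf p _)
  have htP := (zpowers_le.2 h.tH.2).trans hMP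
  have hT := H1.commutator_le_of_le_normalizer htP
  have hT1 : ⁅pCoreOf p W, zpowers t⁆ ≠ ⊥ := fun e =>
    hp1 (H1.commutator_eq_bot_iff_le_centralizer'.1 e)
  have hW1 : W ≠ ⊤ := fun e => by
    have := odd_of_le (le_top.trans e.ge : VV t s ≤ W) ho
    rw [h.v4.card] at this
    exact absurd this (by decide)
  obtain ⟨R, hR, hN⟩ := exists_coatom_norm hW1 hT1 (hT.trans (pCoreOf_le _ _))
  have c : ∀ j, MCfg (VV t j) t p ⁅pCoreOf p W, zpowers t⁆ R := fun j =>
    ⟨V4.t_mem, h.t1, hp, hp2, (isPGroup_pCoreOf p _).to_le hT, hT1,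
      H1.commutator_commutator_eq htP (coprime_zpowers h.tt hodd),
      H1.le_normalizer_commutator hMP (cent1_le_norm_zpowers t), hN, hR⟩
  rcases h.over_tri (c s).CM hR.1 with nc | nc
  · exact PA.not_cfg A1 gf h (c _) nc
  · exact PA.not_cfg A1 gf h.swap (c _) nc

end Cfsg.Agent.P15
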