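/-
P15: involutions acting on `L = π(SL₂(F))` through `GL₂(F)`.
-/
import Cfsg.Agent.P15.Defs

set_option autoImplicit false
set_option linter.unusedSectionVars false

namespace Cfsg.Agent.P15

open Matrix Subgroup Cfsg Cfsg.Agent Cfsg.Agent.FT Cfsg.Agent.H4.SL2 Cfsg.Agent.P4
open Cfsg.Agent.P5 (V4 Tri)
open Cfsg.Agent.P7 (Cov Ab conjSL uni sle)

universe u

namespace BL

variable {X : Type u} [Group X] {F : Type} [Field F]

theorem conjSL_eq_iff {γ : GL (Fin 2) F} {y y' : SL F} :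
    conjSL γ y = y' ↔ γ.1 * y.1 = y'.1 * γ.1 := by
  constructor
  · rintro rfl
    change _ = (γ.1 * y.1 * (γ⁻¹).1) * γ.1
    rw [mul_assoc, Units.inv_mul, mul_one]
  · intro h
    apply Subtype.ext
    change γ.1 * y.1 * (γ⁻¹).1 = _
    rw [h, mul_assoc, Units.mul_inv, mul_one]

theorem conjSL_spec (γ : GL (Fin 2) F) (y : SL F) : γ.1 * y.1 = (conjSL γ y).1 * γ.1 :=
  conjSL_eq_iff.1 rfl

theorem conjSL_mul (γ δ : GL (Fin 2) F) (y : SL F) : conjSL (γ * δ) y = conjSL γ (conjSL δ y) :=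
  conjSL_eq_iff.2 (by
    rw [Units.val_mul, mul_assoc, conjSL_spec δ, ← mul_assoc, conjSL_spec γ, mul_assoc])

theorem tr_conjSL (γ : GL (Fin 2) F) (y : SL F) : tr (conjSL γ y) = tr y := by
  have h : ∀ y : SL F, tr y = trace y.1 := fun y => by simp [tr, trace_fin_two]
  rw [h, h]
  change trace (γ.1 * y.1 * (γ⁻¹).1) = _
  rw [trace_mul_comm, ← mul_assoc, Units.inv_mul, one_mul]

theorem conjSL_smul {γ δ : GL (Fin 2) F} {β : F} (e : δ.1 = β • γ.1) (y : SL F) :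
    conjSL δ y = conjSL γ y :=
  conjSL_eq_iff.2 (by rw [e, Matrix.smul_mul, Matrix.mul_smul, conjSL_spec])

theorem det_ne (γ : GL (Fin 2) F) : γ.1 0 0 * γ.1 1 1 - γ.1 0 1 * γ.1 1 0 ≠ 0 := by
  rw [← det_fin_two]
  exact (Matrix.isUnit_iff_isUnit_det _).1 γ.isUnit |>.ne_zero

/-- `j` acts on `L` as conjugation by `γ`. -/
def Lf (π : SL F →* X) (j : X) (γ : GL (Fin 2) F) : Prop :=
  ∀ y, j * π y * j⁻¹ = π (conjSL γ y)

variable {π : SL F →* X} {L : Subgroup X}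

theorem Lf.mul {j j' : X} {γ γ' : GL (Fin 2) F} (h : Lf π j γ) (h' : Lf π j' γ') :
    Lf π (j * j') (γ * γ') := fun y => by
  rw [conjSL_mul, ← h, ← h']; group

theorem lf_pi (x : SL F) : Lf π (π x) (SpecialLinearGroup.toGL x) := fun y => by
  rw [← map_inv, ← map_mul, ← map_mul]
  exact congrArg π (conjSL_eq_iff.2 (by
    change (x * y).1 = (x * y * x⁻¹ * x).1
    rw [inv_mul_cancel_right])).symm

theorem Lf.commute {j : X} {γ : GL (Fin 2) F} (h : Lf π j γ) {x : SL F}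
    (e : γ.1 * x.1 = x.1 * γ.1) : Commute j (π x) := by
  have := h x
  rw [conjSL_eq_iff.2 e] at this
  exact mul_inv_eq_iff_eq_mul.1 this

theorem Lf.ext (hc : Cov π L) (hL : 𝐂(L) = ⊥) {j j' : X} {γ γ' : GL (Fin 2) F} (h : Lf π j γ)
    (h' : Lf π j' γ') (e : ∀ y, conjSL γ y = conjSL γ' y) : j = j' := by
  have : j'⁻¹ * j ∈ 𝐂(L) := mem_cent.2 fun a ha => by
    obtain ⟨y, rfl⟩ := hc.exists_eq ha
    have h1 := (h y).trans ((congrArg π (e y)).trans (h' y).symm)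
    calc π y * (j'⁻¹ * j) = j'⁻¹ * (j' * π y * j'⁻¹) * j := by group
      _ = _ := by rw [← h1]; group
  rw [hL, mem_bot, inv_mul_eq_one] at this
  exact this.symm

theorem Lf.comm (hc : Cov π L) {j : X} {γ : GL (Fin 2) F} (h : Lf π j γ) {x : SL F}
    (e : Commute j (π x)) (hx : π x * π x ≠ 1) : γ.1 * x.1 = x.1 * γ.1 := by
  have h1 : conjSL γ x * x⁻¹ ∈ center (SL F) := by
    rw [← hc.eq_one_iff, map_mul, ← h, e.eq, map_inv]; group
  by_cases h2 : conjSL γ x * x⁻¹ = 1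
  · exact conjSL_eq_iff.1 (mul_inv_eq_one.1 h2)
  · exfalso
    obtain ⟨a, b, c⟩ := mem_center_iff'.1 h1
    obtain ⟨h3, h4⟩ := center_entry h1 h2
    have h5 := tr_conjSL γ x
    rw [← inv_mul_cancel_right (conjSL γ x) x] at h5
    generalize conjSL γ x * x⁻¹ = z at *
    refine hx (by
      rw [← map_mul, hc.eq_one_iff]
      refine sq_mem_center (mul_left_cancel₀ h4 ?_)
      simp only [tr, sle, a, b, ← c, h3] at h5 ⊢
      linear_combination -h5)

theorem uni_sq (hc : Cov π L) : π (uni 1) * π (uni 1) ≠ 1 := by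
  rw [← map_mul, Ne, hc.eq_one_iff, ← P7.uni_add, P7.uni_mem_center, one_add_one_eq_two]
  exact hc.two_ne

theorem Lf.scalar (hc : Cov π L) {γ : GL (Fin 2) F} (h : Lf π 1 γ) :
    γ.1 0 1 = 0 ∧ γ.1 1 0 = 0 ∧ γ.1 0 0 = γ.1 1 1 := by
  let w : SL F := Agent.L.mkSL2 1 0 1 1 (by ring)
  have h1 := h.comm hc (Commute.one_left _) (uni_sq hc)
  have h2 := h.comm hc (x := w) (Commute.one_left _) (by
    rw [← map_mul, Ne, hc.eq_one_iff, mem_center_iff']
    simp only [w, sle]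
    rintro ⟨-, e, -⟩
    exact hc.two_ne (by linear_combination e))
  have a := congrFun (congrFun h1 0) 0
  have b := congrFun (congrFun h1 0) 1
  have c := congrFun (congrFun h2 0) 0
  simp only [mul_apply, Fin.sum_univ_two] at a b c
  change γ.1 0 0 * 1 + γ.1 0 1 * 0 = 1 * γ.1 0 0 + 1 * γ.1 1 0 at a
  change γ.1 0 0 * 1 + γ.1 0 1 * 1 = 1 * γ.1 0 1 + 1 * γ.1 1 1 at b
  change γ.1 0 0 * 1 + γ.1 0 1 * 1 = 1 * γ.1 0 0 + 0 * γ.1 1 0 at c
  exact ⟨by linear_combination c, by linear_combination -a, by linear_combination b⟩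

theorem Lf.tr0 (hc : Cov π L) (hL : 𝐂(L) = ⊥) {j : X} {γ : GL (Fin 2) F} (h : Lf π j γ)
    (j1 : j ≠ 1) (jj : j * j = 1) : γ.1 1 1 = -γ.1 0 0 := by
  obtain ⟨a, b, c⟩ := (jj ▸ h.mul h).scalar hc
  simp only [Units.val_mul, mul_apply, Fin.sum_univ_two] at a b c
  by_contra h0
  have h1 : γ.1 0 0 + γ.1 1 1 ≠ 0 := fun e => h0 (by linear_combination e)
  have h2 : γ.1 0 1 = 0 := mul_left_cancel₀ h1 (by linear_combination a)
  have h3 : γ.1 1 0 = 0 := mul_left_cancel₀ h1 (by linear_combination b)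
  have h4 : γ.1 0 0 = γ.1 1 1 := mul_left_cancel₀ h1 (by linear_combination c)
  refine j1 (h.ext hc hL (γ' := 1) (fun y => ?_) fun y => conjSL_smul (β := γ.1 0 0) ?_ y)
  · rw [conjSL_eq_iff.2 (by simp : (1 : GL (Fin 2) F).1 * y.1 = y.1 * (1 : GL (Fin 2) F).1)]; simp
  · ext i k
    fin_cases i <;> fin_cases k <;> simp [h2, h3, h4]

/-- An involution commuting with `t` inverts the elements of `C_L(t)` of order `> 2`. -/
theorem inverts (hc : Cov π L) (hL : 𝐂(L) = ⊥) (hs : Sem π L) {t s c : X} (hV : V4 t s)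
    (cL : c ∈ L) (ct : c ∈ 𝐂[t]) (cc : c * c ≠ 1) : s * c * s = c⁻¹ := by
  obtain ⟨x, rfl⟩ := hc.exists_eq cL
  obtain ⟨τ, hτ⟩ := hs.pg t hV.tt
  obtain ⟨σ, hσ⟩ := hs.pg s hV.ss
  have e1 := Lf.tr0 hc hL hτ hV.t1 hV.tt
  have e2 := Lf.tr0 hc hL hσ hV.s1 hV.ss
  have e3 := Lf.tr0 hc hL (Lf.mul hτ hσ) hV.ts1 hV.tsts
  have e4 := Lf.comm hc hτ (mem_cent1_iff_commute.1 ct) cc
  have hx : x ∉ center (SL F) := fun e => cc (by rw [hc.eq_one_iff.2 e, one_mul])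
  obtain ⟨z, hz⟩ := exists_psi hx e4
  have d := det_ne τ
  have e5 : conjSL σ x = x⁻¹ := by
    rw [conjSL_eq_iff, coe_inv_eq]
    have h := fun i k => congrFun (congrFun hz i) k
    have h00 := h 0 0
    have h01 := h 0 1
    have h10 := h 1 0
    have h11 := h 1 1
    simp only [Units.val_mul, mul_apply, Fin.sum_univ_two] at e3
    simp [psi_apply] at h00 h01 h10 h11
    have h2 := hc.two_ne
    have hb : z.im ≠ 0 := fun e => by
      rw [e] at h00 h01 h10 h11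
      have : z.re = 0 := mul_left_cancel₀ h2 (by linear_combination h00 + h11 + e1)
      apply d
      rw [← h00, ← h01, this]; ring
    rw [← h00, ← h01, ← h10, ← h11, e2] at e3
    rw [← h00, ← h11] at e1
    have e6 : σ.1 0 0 * (x 0 0 - x 1 1) + σ.1 0 1 * x 1 0 + σ.1 1 0 * x 0 1 = 0 :=
      mul_left_cancel₀ hb (by linear_combination e3)
    ext i k
    fin_cases i <;> fin_cases k <;> simp [mul_apply, Fin.sum_univ_two, tr, e2]
    · linear_combination e6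
    · ring
    · ring
    · linear_combination e6
  have := hσ x
  rwa [e5, map_inv, P5.inv_eq_of_sq hV.ss] at this

/-- `C_L(c)` centralizes every involution centralizing `c`. -/
theorem cent_le (hc : Cov π L) (hs : Sem π L) {j c : X} (jj : j * j = 1) (cL : c ∈ L)
    (cj : c ∈ 𝐂[j]) (cc : c * c ≠ 1) : L ⊓ 𝐂[c] ≤ 𝐂[j] := by
  obtain ⟨x, rfl⟩ := hc.exists_eq cL
  obtain ⟨γ, hγ⟩ := hs.pg j jj
  have hx : x ∉ center (SL F) := fun e => cc (by rw [hc.eq_one_iff.2 e, one_mul])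
  obtain ⟨z, hz⟩ := exists_psi hx (Lf.comm hc hγ (mem_cent1_iff_commute.1 cj) cc)
  rw [hc.cent_eq cc]
  rintro _ ⟨y, hy, rfl⟩
  obtain ⟨w, hw⟩ := exists_psi hx (Y := y.1) (val_congr (mem_cent1.1 hy)).symm
  exact mem_cent1_iff_commute.2 (Lf.commute hγ (by rw [← hz, ← hw, ← map_mul, mul_comm, map_mul]))

/-- At most one involution centralizes `c`. -/
theorem uniq (hc : Cov π L) (hL : 𝐂(L) = ⊥) (hs : Sem π L) {j j' c : X} (j1 : j ≠ 1)
    (jj : j * j = 1) (j1' : j' ≠ 1) (jj' : j' * j' = 1) (cL : c ∈ L) (cj : c ∈ 𝐂[j])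
    (cj' : c ∈ 𝐂[j']) (cc : c * c ≠ 1) : j = j' := by
  by_contra hne
  obtain ⟨x, rfl⟩ := hc.exists_eq cL
  obtain ⟨γ, hγ⟩ := hs.pg j jj
  obtain ⟨δ, hδ⟩ := hs.pg j' jj'
  have hx : x ∉ center (SL F) := fun e => cc (by rw [hc.eq_one_iff.2 e, one_mul])
  obtain ⟨z, hz⟩ := exists_psi hx (Lf.comm hc hγ (mem_cent1_iff_commute.1 cj) cc)
  obtain ⟨w, hw⟩ := exists_psi hx (Lf.comm hc hδ (mem_cent1_iff_commute.1 cj') cc)
  have e : γ * δ = δ * γ := Units.ext (by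
    rw [Units.val_mul, Units.val_mul, ← hz, ← hw, ← map_mul, mul_comm, map_mul])
  have h1 : j * j' = j' * j := Lf.ext hc hL (Lf.mul hγ hδ) (Lf.mul hδ hγ) fun y => by rw [e]
  have h2 := inverts hc hL hs ⟨j1, j1', hne, jj, jj', h1⟩ cL cj cc
  rw [mem_cent1.1 cj', mul_assoc, jj', mul_one] at h2
  exact cc (mul_eq_one_iff_eq_inv.2 h2)

theorem exists_sq_ne (h3 : 3 < Nat.card F) : ∃ m : F, m ≠ 0 ∧ m * m ≠ 1 := by
  classical
  by_contra! h
  haveI : Finite F := Nat.finite_of_card_ne_zero (by omega)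
  have h1 : (Set.univ : Set F) ⊆ {0, 1, -1} := fun m _ => by
    by_cases e : m = 0
    · exact Or.inl e
    · exact Or.inr (mul_self_eq_one_iff.1 (h m e))
  have h2 := Set.ncard_le_ncard h1
  rw [Set.ncard_univ] at h2
  have h4 := Set.ncard_insert_le (0 : F) {1, -1}
  have h5 := Set.ncard_insert_le (1 : F) {-1}
  rw [Set.ncard_singleton] at h5
  omega

/-- An outer involution centralizes an element of `L` of order `> 2`. -/
theorem exists_cent (hc : Cov π L) (hL : 𝐂(L) = ⊥) (h3 : 3 < Nat.card F) (hs : Sem π L) {t : X}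
    (tt : t * t = 1) (tL : t ∉ L) : ∃ c ∈ L, c ∈ 𝐂[t] ∧ c * c ≠ 1 := by
  obtain ⟨τ, hτ⟩ := hs.pg t tt
  have e1 := Lf.tr0 hc hL hτ (fun e => tL (e ▸ one_mem _)) tt
  have d0 := det_ne τ
  set d := τ.1 0 0 * τ.1 1 1 - τ.1 0 1 * τ.1 1 0 with hd
  obtain ⟨m, m0, hm⟩ : ∃ m : F, m ≠ 0 ∧ 1 + d * m ^ 2 ≠ 0 := by
    by_cases e : 1 + d = 0
    · obtain ⟨m, m0, hm⟩ := exists_sq_ne h3
      exact ⟨m, m0, fun e' => hm (by linear_combination e * m ^ 2 - e')⟩
    · exact ⟨1, one_ne_zero, by simpa using e⟩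
  obtain ⟨a, b, b0, hab⟩ : ∃ a b : F, b ≠ 0 ∧ a ^ 2 + d * b ^ 2 = 1 :=
    ⟨(1 - d * m ^ 2) / (1 + d * m ^ 2), 2 * m / (1 + d * m ^ 2),
      div_ne_zero (mul_ne_zero hc.two_ne m0) hm, by field_simp; ring⟩
  let x : SL F := Agent.L.mkSL2 (a + b * τ.1 0 0) (b * τ.1 0 1) (b * τ.1 1 0) (a + b * τ.1 1 1) (by
    rw [hd, e1] at hab; rw [e1]; linear_combination hab)
  have hx : x.1 = a • (1 : Matrix (Fin 2) (Fin 2) F) + b • τ.1 := by
    ext i k
    fin_cases i <;> fin_cases k <;> simp [x, Agent.L.mkSL2]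
  refine ⟨π x, hc.mem x, mem_cent1_iff_commute.2 (Lf.commute hτ (by
    rw [hx]; simp [mul_add, add_mul])), fun e => tL ?_⟩
  have x1 : x ∉ center (SL F) := fun h => by
    obtain ⟨h1, h2, h4⟩ := mem_center_iff'.1 h
    simp only [x, sle, e1] at h1 h2 h4
    have h5 : τ.1 0 0 = 0 := mul_left_cancel₀ (mul_ne_zero hc.two_ne b0) (by linear_combination h4)
    apply d0
    rw [hd, h5, (mul_eq_zero.1 h1).resolve_left b0]; ring
  have h6 := tr_of_sq_mem_center x1 (by rwa [← hc.eq_one_iff, map_mul])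
  simp only [tr, x, sle, e1] at h6
  have a0 : a = 0 := mul_left_cancel₀ hc.two_ne (by linear_combination h6)
  rw [Lf.ext hc hL hτ (lf_pi x) fun y => (conjSL_smul (β := b) (by
    change x.1 = _
    rw [hx, a0]; simp) y).symm]
  exact hc.mem x

end BL

end Cfsg.Agent.P15
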