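/-
P15: the facts `Bar` for groups between `PSL₂(q)` and its automorphism group.
-/
import Cfsg.Agent.P15.BarL0

set_option autoImplicit false
set_option linter.unusedSectionVars false

namespace Cfsg.Agent.P15

open Subgroup Cfsg Cfsg.Agent Cfsg.Agent.FT Cfsg.Agent.H4.SL2 Cfsg.Agent.P4
open Cfsg.Agent.P5 (V4 Tri)
open Cfsg.Agent.P7 (Cov Ab)
open scoped commutatorElement

universe u

namespace BL

variable {X : Type u} [Group X] [Finite X]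

theorem v4_mul {t s : X} (hV : V4 t s) : V4 t (t * s) := hV.comm.eq ▸ hV.swap.rot

theorem comm_of_inv {s t a : X} (hs : s * s = 1) (h1 : s * a * s = a⁻¹) (h2 : t * a * t = a⁻¹)
    (ht : t * t = 1) : Commute (s * t) a := by
  have e : t * a = a⁻¹ * t := by rw [← h2, mul_assoc, ht, mul_one]
  have e' : s * a⁻¹ = a * s := by rw [← h1, ← mul_assoc, ← mul_assoc, hs, one_mul]
  change s * t * a = a * (s * t)
  rw [mul_assoc, e, ← mul_assoc, e', mul_assoc]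

theorem VV_swap (t s : X) : VV s t = VV t s := by rw [VV, Set.pair_comm]

theorem mem_V (dc : DC X) {t s : X} (hV : V4 t s) {T : Subgroup X} (hT : IsPGroup 2 T)
    (tT : t ∈ T) (sT : s ∈ T) {g : X} (hg : g ∈ T) (h1 : Commute g t) (h2 : Commute g s) :
    g ∈ VV t s := by
  obtain ⟨c, -, hc⟩ := dc T hT
  have cy : IsCyclic (zpowers c) := inferInstance
  obtain ⟨v, z, vV, vc, zV, zc, z1⟩ : ∃ v z, v ∈ VV t s ∧ v ∉ zpowers c ∧ z ∈ VV t s ∧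
      z ∈ zpowers c ∧ z ≠ 1 := by
    by_cases a : t ∈ zpowers c
    · exact ⟨s, t, V4.s_mem, fun b => (P7.eq_of_invol_cyclic cy a hV.t1 hV.tt b hV.ss).elim hV.s1
        hV.ts.symm, V4.t_mem, a, hV.t1⟩
    by_cases b : s ∈ zpowers c
    · exact ⟨t, s, V4.t_mem, a, V4.s_mem, b, hV.s1⟩
    · exact ⟨t, t * s, V4.t_mem, a, mul_mem V4.t_mem V4.s_mem, (hc t tT a).2.2 s sT b, hV.ts1⟩
  have VT : VV t s ≤ T := V4.le_iff.2 ⟨tT, sT⟩
  have key : ∀ g ∈ zpowers c, g ∈ 𝐂(VV t s) → g ∈ VV t s := fun g hg hn => by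
    have e := P5.inverts_of_mem_zpowers (s := v) (by
      rw [P5.inv_eq_of_sq (hV.sq vV)]; exact (hc v (VT vV) vc).2.1) hg
    rw [mem_cent.1 hn v vV, mul_inv_cancel_right] at e
    rcases P7.eq_of_invol_cyclic cy zc z1 (hV.sq zV) hg (mul_eq_one_iff_eq_inv.2 e) with rfl | rfl
    exacts [one_mem _, zV]
  have hn : g ∈ 𝐂(VV t s) := mem_cent_iff_cent1.2 (V4.le_iff.2
    ⟨mem_cent1_iff_commute.2 h1, mem_cent1_iff_commute.2 h2⟩)
  by_cases a : g ∈ zpowers c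
  · exact key g a hn
  · have vC : v ∈ 𝐂(VV t s) := mem_cent.2 fun w hw => by
      rw [← P5.inv_eq_of_sq (hV.sq (mul_mem hw vV)), mul_inv_rev, P5.inv_eq_of_sq (hV.sq hw),
        P5.inv_eq_of_sq (hV.sq vV)]
    exact (mul_mem_cancel_right vV).1 (key _ ((hc g hg a).2.2 v (VT vV) vc) (mul_mem hn vC))

theorem exists_swap (dc : DC X) {t s : X} (hV : V4 t s) {T : Subgroup X} (hT : IsPGroup 2 T)
    (h : VV t s < T) (hc : T ≤ 𝐂[t]) :
    ∃ u ∈ T ⊓ 𝐍(VV t s), u * t * u⁻¹ = t ∧ u * s * u⁻¹ = t * s := by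
  obtain ⟨u, hu, hn⟩ := SetLike.exists_of_lt
    (lt_inf_norm_of_isNilpotent (isNilpotent_of_isPGroup Nat.prime_two hT) h)
  have e := mem_cent1_iff_conj.1 (hc hu.1)
  refine ⟨u, hu, e, ?_⟩
  rcases hV.mem_iff.1 ((mem_normalizer_iff.1 hu.2 s).1 V4.s_mem) with a | a | a | a
  · exact absurd (conj_eq_one_iff.1 a) hV.s1
  · exact absurd (by simpa using a.trans e.symm : s = t).symm hV.ts
  · exact absurd (mem_V dc hV hT (h.le V4.t_mem) (h.le V4.s_mem) hu.1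
      (mul_inv_eq_iff_eq_mul.1 e) (mul_inv_eq_iff_eq_mul.1 a)) hn
  · exact a

/-- Fusion in a four-group takes place in its normalizer. -/
theorem fuse (dc : DC X) {t s g : X} (hV : V4 t s) (e : g * t * g⁻¹ = s) :
    ∃ n ∈ 𝐍(VV t s), n * t * n⁻¹ = s := by
  have h1 : VV t s ≤ 𝐂[t] := V4.le_iff.2 ⟨self_mem_cent1 t, mem_cent1_iff_commute.2 hV.comm⟩
  have h2 : VV t s ≤ 𝐂[s] := V4.le_iff.2 ⟨mem_cent1_iff_commute.2 hV.comm.symm, self_mem_cent1 s⟩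
  obtain ⟨T, hT, k1⟩ := exists_isSyl_ge Nat.prime_two hV.isPGroup h1
  obtain ⟨T', hT', k2⟩ := exists_isSyl_ge Nat.prime_two hV.isPGroup h2
  have h3 := hT.conj g
  rw [← cent1_conj, e] at h3
  have h4 : 𝐨(T') = 𝐨(T) := (hT'.card_eq Nat.prime_two h3).trans (card_conj T g)
  rcases k1.eq_or_lt with rfl | k3
  · obtain rfl : VV t s = T' := H1.eq_of_le_of_card_le k2 h4.le
    obtain ⟨c, hc, e'⟩ := hT'.exists_conj_eq Nat.prime_two h3
    refine ⟨c * g, by rwa [← conj_eq_self_iff, ← conj_conj], ?_⟩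
    rw [← mem_cent1_iff_conj.1 hc]
    nth_rewrite 1 [← e]
    group
  · have k4 : VV s t < T' := by
      rw [VV_swap]
      refine k2.lt_of_ne fun a => k3.ne (H1.eq_of_le_of_card_le k1 (by rw [← h4, a]))
    obtain ⟨u, hu, a1, a2⟩ := exists_swap dc hV hT.pgrp k3 hT.le
    obtain ⟨v, hv, -, b2⟩ := exists_swap dc hV.swap hT'.pgrp k4 hT'.le
    refine ⟨u * v, mul_mem hu.2 (VV_swap t s ▸ hv.2), ?_⟩
    calc u * v * t * (u * v)⁻¹ = u * (v * t * v⁻¹) * u⁻¹ := by group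
      _ = u * s * u⁻¹ * (u * t * u⁻¹) := by rw [b2]; group
      _ = s := by rw [a1, a2, hV.comm.eq, mul_assoc, hV.tt, mul_one]

theorem exists_fix {t s : X} (hV : V4 t s) {Z : Subgroup X} (ho : Odd 𝐨(Z)) (h1 : Z ≠ ⊥)
    (ht : t ∈ 𝐍(Z)) (hs : s ∈ 𝐍(Z)) :
    ∃ z ∈ Z, z ≠ 1 ∧ (z ∈ 𝐂[t] ∨ z ∈ 𝐂[s] ∨ z ∈ 𝐂[t * s]) := by
  by_contra! h
  have key : ∀ v, v * v = 1 → v ∈ 𝐍(Z) → (∀ z ∈ Z, z ≠ 1 → z ∉ 𝐂[v]) → ∀ z ∈ Z,
      v * z * v = z⁻¹ := fun v vv hv h z hz => by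
    obtain ⟨b, hb, a, -, e1, e2, rfl⟩ := P5.Mx.exists_cent_mul_inv ho vv hv hz
    by_cases b1 : b = 1
    · rwa [b1, one_mul]
    · exact absurd (mem_cent1_iff_commute.2 e1.symm) (h b hb b1)
  obtain ⟨z, hz, z1⟩ := (bot_or_exists_ne_one Z).resolve_left h1
  exact (h z hz z1).2.2 (mem_cent1_iff_commute.2 (comm_of_inv hV.tt
    (key t hV.tt ht (fun z a b => (h z a b).1) z hz)
    (key s hV.ss hs (fun z a b => (h z a b).2.1) z hz) hV.ss))

theorem le_cent_of_inf {L W : Subgroup X} {v : X}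
    (m3 : ∀ g : X, Odd (orderOf g) → v * g * v = g⁻¹ → g ∈ L) (ho : Odd 𝐨(W)) (vv : v * v = 1)
    (hv : v ∈ 𝐍(W)) (h : W ⊓ L ≤ 𝐂[v]) : W ≤ 𝐂[v] := fun w hw => by
  obtain ⟨b, -, a, ha, e1, e2, rfl⟩ := P5.Mx.exists_cent_mul_inv ho vv hv hw
  exact mul_mem (mem_cent1_iff_commute.2 e1.symm)
    (h ⟨ha, m3 a (ho.of_dvd_nat (orderOf_dvd_card_of_mem ha)) e2⟩)

variable {F : Type} [Field F] {π : SL F →* X} {L : Subgroup X}

theorem k1 (hn : L.Normal) (hc : Cov π L) (hs : Sem π L) {t s : X} (hV : V4 t s) {p : ℕ}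
    (hp : p.Prime) (p2 : p ≠ 2) {W : Subgroup X} (hW : IsPGroup p W) (hN : VV t s ≤ 𝐍(W)) :
    W ≤ 𝐂[t] ∨ W ≤ 𝐂[s] ∨ W ≤ 𝐂[t * s] := by
  have ho := P5.Mx.odd_of_isPGroup hp p2 hW
  have key : ∀ v ∈ VV t s, W ⊓ L ≤ 𝐂[v] → W ≤ 𝐂[v] := fun v hv =>
    le_cent_of_inf (fun g a b => hs.m3 g v a (hV.sq hv) b) ho (hV.sq hv) (hN hv)
  by_cases h0 : W ⊓ L = ⊥
  · exact Or.inl (key t V4.t_mem (h0 ▸ bot_le))
  have hN' : VV t s ≤ 𝐍(𝐙((W ⊓ L : Subgroup X))) := (H1.le_normalizer_inf hN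
    (by rw [normalizer_eq_top]; exact le_top)).trans (norm_le_norm_center _)
  have ho' : Odd 𝐨(𝐙((W ⊓ L : Subgroup X))) := P5.Mx.odd_of_le (inf_le_left.trans inf_le_left) ho
  obtain ⟨z, hz, z1, h⟩ := exists_fix hV ho' (center_ne_bot (isNilpotent_of_isPGroup hp
    (hW.to_le inf_le_left)) h0) (hN' V4.t_mem) (hN' V4.s_mem)
  have key' : ∀ v ∈ VV t s, z ∈ 𝐂[v] → W ≤ 𝐂[v] := fun v hv a => key v hv
    ((le_inf inf_le_right (mem_cent_iff_cent1.1 hz.2)).trans (cent_le hc hs (hV.sq hv) hz.1.2 a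
      fun e => z1 (P5.eq_one_of_odd ho' hz e)))
  exact h.imp (key' t V4.t_mem) (Or.imp (key' s V4.s_mem) (key' _ (mul_mem V4.t_mem V4.s_mem)))

theorem d1aux (hL : 𝐂(L) = ⊥) (hc : Cov π L) (h3 : 3 < Nat.card F) (hs : Sem π L) {t s a : X}
    (hV : V4 t s) (aL : a ∈ L) (ho : Odd (orderOf a)) (aa : a * a ≠ 1) (has : a ∈ 𝐂[s])
    (h : 𝐂[t] ≤ 𝐂[s]) : False := by
  have key : ∀ c ∈ L, c ∈ 𝐂[t] → c * c = 1 := fun c cL ct => by
    by_contra cc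
    have := inverts hc hL hs hV cL ct cc
    rw [mem_cent1.1 (h ct), mul_assoc, hV.ss, mul_one] at this
    exact cc (mul_eq_one_iff_eq_inv.2 this)
  have tL : t ∈ L := by
    by_contra tL
    obtain ⟨c, cL, ct, cc⟩ := exists_cent hc hL h3 hs hV.tt tL
    exact cc (key c cL ct)
  obtain ⟨x, rfl⟩ := hc.exists_eq tL
  have tx := hc.tr_ne_of_invol hV.t1 hV.tt
  by_cases sL : s ∈ L
  · obtain ⟨y, rfl⟩ := hc.exists_eq sL
    obtain ⟨-, c1, c2⟩ := (hc.cases hV.t1).resolve_right fun e => tx e.1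
    obtain ⟨-, -, c3⟩ := (hc.cases hV.s1).resolve_right fun e => hc.tr_ne_of_invol hV.s1 hV.ss e.1
    have h1 : 𝐨(Ab π x) ≤ 2 := (card_le_of_le (K := zpowers (π x)) fun c hc' =>
      (P7.mem_zpowers_invol hV.tt).2 (P7.eq_of_invol_cyclic c1 (hc.self_mem x) hV.t1 hV.tt hc'
        (key c (hc.Ab_le_L x hc') (hc.Ab_le_cent x hc')))).trans
      (Nat.le_of_dvd two_pos (P5.Mx.card_zpowers_dvd_two hV.tt))
    obtain ⟨w, rfl⟩ := hc.exists_eq aL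
    have h2 : π w ∈ Ab π y := hc.mem_Ab.2 (mem_cent1.2 (Subtype.ext
      (Lf.comm hc (lf_pi y) (mem_cent1_iff_commute.1 has) aa)))
    have h4 := orderOf_dvd_card_of_mem h2
    have h5 := orderOf_dvd_card_of_mem (hc.self_mem y)
    rw [orderOf_eq_prime (by rw [sq, hV.ss]) hV.s1] at h5
    rw [show 𝐨(Ab π y) = 2 by omega] at h4
    exact aa (by rw [← sq]; exact orderOf_dvd_iff_pow_eq_one.1 h4)
  · obtain ⟨j, jL, jj, jA, ji, -⟩ := hc.exists_inv hV.t1 tx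
    have h1 : j ∈ 𝐂[π x] := mem_cent1_iff_conj.2 (by
      rw [ji _ (hc.self_mem x), P5.inv_eq_of_sq hV.tt])
    have h2 : V4 s j := ⟨hV.s1, fun e => jA (e ▸ one_mem _), fun e => sL (e ▸ jL), hV.ss, jj,
      mem_cent1_iff_commute.1 (h h1)⟩
    have h4 : V4 (π x) j := ⟨hV.t1, h2.s1, fun e => jA (e ▸ hc.self_mem x), hV.tt, jj,
      mem_cent1_iff_commute.1 h1⟩
    exact sL (uniq hc hL hs h4.ts1 h4.tsts hV.s1 hV.ss aL (mem_cent1_iff_commute.2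
      (comm_of_inv hV.tt (inverts hc hL hs hV.swap aL has aa)
        (inverts hc hL hs h2 aL has aa) jj)) has aa ▸ mul_mem tL jL)

end BL

open BL in
theorem barLStmt : BarLStmt.{u} := by
  intro X _ _ F _ π L dc hn hL hc h3 hs
  refine ⟨fun t s hV p hp p2 Q hQ e hN => ?_, fun t s hV p hp p2 W => k1 hn hc hs hV hp p2,
    fun t s hV p hp p2 a b oa ob h1 h2 h4 h5 => ?_⟩
  · have ho := P5.Mx.odd_of_isPGroup hp p2 hQ
    by_contra h0
    have h1 := P5.Mx.not_le_cent1 h0 e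
    obtain ⟨a, ha, a1⟩ := (bot_or_exists_ne_one (Q ⊓ L)).resolve_left fun h => h1
      (le_cent_of_inf (fun g a b => hs.m3 g t a hV.tt b) ho hV.tt (hN (self_mem_cent1 t))
        (h ▸ bot_le))
    have aa : a * a ≠ 1 := fun e => a1 (P5.eq_one_of_odd ho ha.1 e)
    have key : ∀ s, V4 t s → ¬ Q ≤ 𝐂[s] := fun s hV h => by
      refine d1aux hL hc h3 hs hV ha.2 (ho.of_dvd_nat (orderOf_dvd_card_of_mem ha.1)) aa (h ha.1)
        fun g hg => mem_cent1_iff_conj.2 (uniq hc hL hs (mt conj_eq_one_iff.1 hV.s1)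
          (by rw [conj_mul, hV.ss, mul_one, mul_inv_cancel]) hV.s1 hV.ss ha.2 ?_ (h ha.1) aa)
      rw [cent1_conj]
      exact conj_mono h g ((conj_eq_of_mem_norm (hN hg)).ge ha.1)
    rcases k1 hn hc hs hV hp p2 hQ ((V4.le_iff.2 ⟨self_mem_cent1 t,
      mem_cent1_iff_commute.2 hV.comm⟩).trans hN) with h | h | h
    exacts [h1 h, key s hV h, key _ (v4_mul hV) h]
  · haveI := Fact.mk hp
    have ho := hp.odd_of_ne_two p2
    have aL := hs.m3 a s (oa ▸ ho) hV.ss h2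
    have bL := hs.m3 b t (ob ▸ ho) hV.tt h5
    have pg : ∀ c : X, orderOf c = p → IsPGroup p (zpowers c) := fun c e =>
      IsPGroup.of_card (n := 1) (by rw [Nat.card_zpowers, e, pow_one])
    have sq1 : ∀ c : X, orderOf c = p → c * c ≠ 1 := fun c e e' =>
      p2 ((Nat.prime_dvd_prime_iff_eq hp Nat.prime_two).1
        (e ▸ orderOf_dvd_of_pow_eq_one (by rw [sq, e'])))
    obtain ⟨P, hP, k⟩ := exists_isSyl_ge hp (pg a oa) (zpowers_le.2 aL)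
    obtain ⟨g, hg, k'⟩ := hP.exists_conj_le hp (pg b ob) (zpowers_le.2 bL)
    have aP := k (mem_zpowers a)
    have bP := k' (conj_mem_conj (mem_zpowers b) g)
    obtain ⟨z, hz, z1⟩ := (bot_or_exists_ne_one _).resolve_left (center_ne_bot
      (isNilpotent_of_isPGroup hp hP.pgrp) fun e => sq1 a oa (by
        rw [show a = 1 from mem_bot.1 (e ▸ aP), one_mul]))
    obtain ⟨x, rfl⟩ := hc.exists_eq (hP.le hz.1)
    have h6 : P ≤ Ab π x := by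
      rw [← hc.cent_eq fun e => z1 (P5.eq_one_of_odd (P5.Mx.odd_of_isPGroup hp p2 hP.pgrp) hz.1 e)]
      exact le_inf hP.le (mem_cent_iff_cent1.1 hz.2)
    have h7 := cent_le hc hs hV.tt aL h1 (sq1 a oa)
      ⟨hP.le bP, mem_cent1_iff_commute.2 (hc.Ab_comm z1 (h6 aP) (h6 bP))⟩
    have h8 := uniq hc hL hs hV.t1 hV.tt (j' := g * s * g⁻¹) (mt conj_eq_one_iff.1 hV.s1)
      (by rw [conj_mul, hV.ss, mul_one, mul_inv_cancel]) (hP.le bP) h7
      (by rw [cent1_conj]; exact conj_mem_conj h4 g)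
      (by rw [conj_mul]; exact mt conj_eq_one_iff.1 (sq1 b ob))
    exact fuse dc (g := g⁻¹) hV (by rw [h8]; group)

end Cfsg.Agent.P15
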