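/-
P15, part B, first case: local analysis (port of P5/B1).
-/
import Cfsg.Agent.P15.Ch
import Cfsg.Agent.P15.Bas0
import Cfsg.Agent.P15.BarL

set_option autoImplicit false
set_option linter.unusedSectionVars false
set_option linter.style.haveILetI false

namespace Cfsg.Agent.P15.B1

open Subgroup Cfsg Cfsg.Agent Cfsg.Agent.FT
open Cfsg.Agent.H2 (layerOf fstarOf)
open Cfsg.Agent.P5 (V4 Tri inv_eq_of_sq eq_one_of_odd)
open scoped commutatorElement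

universe u

variable {G : Type u} [Group G] [Finite G]

theorem eq_of_two (gf : GF G) {M R : Subgroup G} (hM : IsCoatom M) (hR : IsCoatom R)
    (eM : layerOf M = ⊥) (eR : layerOf R = ⊥) (h2 : P5.Mx.Two M) (hF : fittingOf R ≤ M)
    (hZ : P5.Mx.ZF M ≤ R) {p : ℕ} (hp : p.Prime) (p2 : p ≠ 2) (hO : pCoreOf p M ≠ ⊥) : R = M := by
  haveI := gf.simple
  have key : ∀ r : ℕ, r.Prime → pCoreOf r M ≠ ⊥ → pCoreOf r R ≠ ⊥ := by
    intro r hr h1 h0
    haveI := Fact.mk hr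
    have hZR : P5.Mx.Zr r M ≤ R := (P5.Mx.Zr_le_ZF hr M).trans hZ
    have a1 := H2.fittingOf_le_sup hr R
    rw [h0, bot_sup_eq] at a1
    have a2 : P5.Mx.Zr r M ≤ 𝐂(fittingOf R) := P5.Mx.le_cent_of_le le_rfl a1
      (hZR.trans (H2.le_normalizer_pPrimeCoreOf r R)) (hF.trans (P5.Mx.le_norm_Zr r M))
      (H1.coprime_card_of_isPGroup (P5.Mx.isPGroup_Zr r M)
        (H2.coprime_card_pPrimeCoreOf r R)).symm
    exact P5.Mx.Zr_ne_bot hr h1 (eq_bot_iff.2 (h0 ▸ H2.le_pCoreOf_of_le_fittingOf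
      (P5.Mx.isPGroup_Zr r M)
      ((le_inf hZR a2).trans (H2.inf_centralizer_fittingOf_le_of_layerOf_eq_bot eR))))
  refine (gf.bt M R hM hR ?_ (by rwa [H2.fstarOf_eq, eR, bot_sup_eq]) p hp p2 hO).symm
  rw [H2.fstarOf_eq, eM, bot_sup_eq]
  refine P5.Mx.fittingOf_le_of fun r hr => ?_
  by_cases h0 : pCoreOf r M = ⊥
  · exact h0 ▸ bot_le
  obtain ⟨q, hq, hne, hq1⟩ := h2 r hr
  exact P5.Mx.pCoreOf_le_of_two hr hq hne hR (H2.isPGroup_pCoreOf r R) (key r hr h0)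
    (H2.pCoreOf_le r R) (H2.le_normalizer_pCoreOf r R) ((H2.pCoreOf_le_fittingOf hr R).trans hF)
    (H2.isPGroup_pCoreOf q R) (key q hq hq1) (H2.pCoreOf_le q R) (H2.le_normalizer_pCoreOf q R)
    ((H2.pCoreOf_le_fittingOf hq R).trans hF)

/-- The hypotheses of the first case. -/
structure BH (U : Subgroup G) (y t s : G) (w : ℕ) : Prop where
  gf : GF G
  dh : DH ⊤ U y t s w
  co : IsCoatom 𝐂[t]
  fc : FC U t

namespace BH

variable {U : Subgroup G} {y t s : G} {w : ℕ} (h : BH U y t s w)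
include h

theorem ch : ∃ n, w = 2 ^ (n + 2) ∧ Ch.DH ⊤ U y t s n := by
  obtain ⟨n, rfl⟩ := h.dh.pw
  exact ⟨n, rfl, h.dh.toCh⟩

theorem ss : s * s = 1 := h.dh.ss

theorem odd : Odd 𝐨(U) := h.dh.odd

theorem UH : U ≤ 𝐂[t] := h.dh.Ut

theorem HU : 𝐂[t] ≤ 𝐍(U) := by
  obtain ⟨n, -, d⟩ := h.ch
  simpa using d.HU

theorem sH : s ∈ 𝐂[t] := by
  obtain ⟨n, -, d⟩ := h.ch
  exact d.sH.2

theorem KH : zpowers y ≤ 𝐂[t] := by
  obtain ⟨n, -, d⟩ := h.ch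
  exact d.Kt

theorem v4 : V4 t s := by
  obtain ⟨n, -, d⟩ := h.ch
  exact ⟨d.t1, fun e => h.dh.sy (e ▸ one_mem _), fun e => h.dh.sy (e ▸ d.tK), d.tt, h.ss,
    mem_cent1_iff_commute.1 h.sH⟩

theorem tt : t * t = 1 := h.v4.tt

theorem mem_U {g : G} (hg : g ∈ 𝐂[t]) (ho : Odd (orderOf g)) : g ∈ U := by
  obtain ⟨n, -, d⟩ := h.ch
  have h1 : (U.subgroupOf (⊤ ⊓ 𝐂[t])).Normal := normal_subgroupOf_iff_le_normalizer d.UH |>.2 d.HU
  have h2 := pow_index_mem (H := U.subgroupOf (⊤ ⊓ 𝐂[t])) ⟨g, mem_top g, hg⟩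
  rw [show (U.subgroupOf (⊤ ⊓ 𝐂[t])).index = 2 ^ (n + 3) from d.idx_U] at h2
  exact H8.mem_of_pow_mem_of_coprime (Nat.Coprime.pow_right _ (Nat.coprime_two_right.2 ho)) h2

theorem le_U {W : Subgroup G} (hW : W ≤ 𝐂[t]) (ho : Odd 𝐨(W)) : W ≤ U := fun _ hg =>
  h.mem_U (hW hg) (ho.of_dvd_nat (orderOf_dvd_card_of_mem hg))

theorem swap : BH U y⁻¹ t (s * y) w :=
  have d := h.dh
  have i := inv_eq_of_sq h.ss
  ⟨h.gf, ⟨trivial, trivial, (orderOf_inv y).trans d.ord, d.pw,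
    by rw [inv_pow, d.ty, inv_eq_of_sq h.tt], by rw [← mul_assoc, d.inv, inv_mul_cancel],
    fun e => d.sy (by simpa using mul_mem e (mem_zpowers y⁻¹)),
    by rw [inv_inv]; simp [← mul_assoc, h.ss], d.UX, d.Ut, d.odd,
    inv_mem d.yU, mul_mem d.sU d.yU, fun g hg => by
      obtain ⟨u, hu, z, hz, e | e⟩ := d.cover g hg
      · exact ⟨u, hu, z, by simpa using hz, .inl e⟩
      · refine ⟨u, hu, z * y, by simpa using mul_mem hz (mem_zpowers y), .inr ?_⟩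
        calc g = u * (z * y) * (y⁻¹ * s) := by rw [e]; group
          _ = _ := by rw [← d.inv, mul_assoc (s * y), h.ss, mul_one], d.conj⟩, h.co, h.fc⟩

/-- The element of order four. -/
theorem four : ∃ z ∈ zpowers y, z * z = t ∧ z * s * z⁻¹ = t * s := by
  obtain ⟨n, -, d⟩ := h.ch
  have e : y ^ 2 ^ n * y ^ 2 ^ n = t := by rw [← pow_add, ← two_mul, ← pow_succ', d.pw]
  refine ⟨y ^ 2 ^ n, pow_mem (mem_zpowers y) _, e, ?_⟩
  have := d.invK (inv_mem (pow_mem (mem_zpowers y) (2 ^ n)))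
  rw [inv_inv] at this
  rw [← e, mul_assoc, mul_assoc, mul_right_inj, eq_comm, ← mul_right_cancel_iff (a := s), this,
    mul_assoc, h.ss, mul_one]

theorem tri : ∃ x, Tri x t s := by
  obtain ⟨g, -, e⟩ := h.dh.conj s trivial h.v4.s1 h.ss
  obtain ⟨x, hx, e1⟩ := BL.fuse h.gf.dc h.v4 e
  obtain ⟨z, hz, -, e2⟩ := h.four
  rcases h.v4.mem_iff.1 ((mem_normalizer_iff.1 hx s).1 V4.s_mem) with a | a | a | a
  · exact absurd (conj_eq_one_iff.1 a) h.v4.s1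
  · have e3 := mem_cent1_iff_conj.1 (h.KH hz)
    refine ⟨x * z, ?_, ?_⟩
    · rw [← e1]
      nth_rewrite 2 [← e3]
      group
    · calc x * z * s * (x * z)⁻¹ = x * (z * s * z⁻¹) * x⁻¹ := by group
        _ = x * t * x⁻¹ * (x * s * x⁻¹) := by rw [e2]; group
        _ = t * s := by rw [e1, a, h.v4.comm.eq]
  · exact absurd (by simpa using e1.trans a.symm : t = s) h.v4.ts
  · exact ⟨x, e1, a⟩

theorem cU {u : G} (hu : u ∈ U) : Commute t u := mem_cent1_iff_commute.1 (h.UH hu)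

theorem tri_B {x : G} (tri : Tri x t s) : x ∈ 𝐍((U ⊓ 𝐂[s] : Subgroup G)) := by
  refine inv_mem_iff.1 (mem_norm_of_conj_le fun g hg => ?_)
  obtain ⟨b, hb, rfl⟩ := mem_conj'.1 hg
  have c : ∀ y, Commute (x * y * x⁻¹) b → x⁻¹ * b * x⁻¹⁻¹ ∈ 𝐂[y] := fun y e => by
    rw [← conj_mem_conj_iff (g := x), ← cent1_conj, mem_cent1_iff_commute]
    convert e using 1; group
  have cs := mem_cent1_iff_commute.1 hb.2
  exact ⟨h.mem_U (c t (tri.1 ▸ cs)) (by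
    rw [show orderOf (x⁻¹ * b * x⁻¹⁻¹) = orderOf b from (MulAut.conj x⁻¹).orderOf_eq b]
    exact h.odd.of_dvd_nat (orderOf_dvd_card_of_mem hb.1)),
    c s (tri.2 ▸ (h.cU hb.1).mul_left cs)⟩

theorem t_cent {X : Subgroup G} (hX : X ≤ U) : t ∈ 𝐂(X) := mem_cent_iff_cent1.2 (hX.trans h.UH)

theorem cent_ts {X : Subgroup G} (hX : X ≤ U) : X ⊓ 𝐂[t * s] = X ⊓ 𝐂[s] := by
  ext u
  refine and_congr_right fun hu => ?_
  have := h.cU (hX hu)
  exact ⟨fun e => mem_cent1_iff_commute.2 (by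
    simpa using this.inv_left.mul_left (mem_cent1_iff_commute.1 e)),
    fun e => mem_cent1_iff_commute.2 (this.mul_left (mem_cent1_iff_commute.1 e))⟩

theorem notMem {x : G} (tri : Tri x t s) : x ∉ 𝐂[t] := fun e =>
  tri.not_commute h.v4 (mem_cent1_iff_commute.1 e).symm

theorem norm_eq {X : Subgroup G} (h1 : X ≠ ⊥) (hX : X ≤ U) (hn : 𝐂[t] ≤ 𝐍(X)) : 𝐍(X) = 𝐂[t] :=
  haveI := h.gf.simple
  P5.Mx.norm_eq h.co h1 (hX.trans h.UH) hn

theorem not_le_cent (h1 : U ≠ ⊥) : ¬ U ≤ 𝐂[s] := fun e => by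
  obtain ⟨x, tri⟩ := h.tri
  have := h.tri_B tri
  rw [inf_of_le_left e, h.norm_eq h1 le_rfl h.HU] at this
  exact h.notMem tri this

theorem solv : Group.IsSolvable 𝐂[t] := h.gf.dc.solv_cent h.v4.t1 h.tt

theorem H_norm (p : ℕ) : 𝐂[t] ≤ 𝐍(pCoreOf p U) :=
  h.HU.trans (H2.normalizer_le_normalizer_pCoreOf p U)

theorem pCore_le (p : ℕ) : pCoreOf p U ≤ pCoreOf p 𝐂[t] :=
  le_pCoreOf ⟨(H2.pCoreOf_le p U).trans h.UH, h.H_norm p⟩ (H2.isPGroup_pCoreOf p U)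

theorem two_ne : pCoreOf 2 𝐂[t] ≠ ⊥ := fun e => h.v4.t1 (mem_bot.1 (e ▸ zpowers_le.1
  (le_pCoreOf ⟨zpowers_le.2 (self_mem_cent1 t), P5.Mx.cent1_le_norm_zpowers t⟩
    (P5.isPGroup_zpowers_of_sq h.tt))))

theorem ne_two {p : ℕ} {Y : Subgroup G} (hY : Y ≤ pCoreOf p U) (h1 : Y ≠ ⊥) : p ≠ 2 := by
  rintro rfl
  exact Nat.not_even_iff_odd.2 (P5.Mx.odd_of_le (hY.trans (H2.pCoreOf_le 2 U)) h.odd)
    (even_iff_two_dvd.2 (prime_dvd_card_of_isPGroup Nat.prime_two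
      ((H2.isPGroup_pCoreOf 2 U).to_le hY) h1))

theorem lay {p : ℕ} (hp : p.Prime) {Y : Subgroup G} (hY : Y ≤ pCoreOf p U) (h1 : Y ≠ ⊥) {z : G}
    (zt : z ∈ 𝐂[t]) (zs : z * s * z⁻¹ = t * s) (zY : z ∈ 𝐍(Y)) (sY : s ∈ 𝐍(Y))
    (hx : U ⊓ 𝐂[s] ≤ 𝐍(Y) ∨ ⁅U, zpowers s⁆ ≤ fittingOf U) : 𝐍(Y) ≤ 𝐂[t] := by
  haveI := h.gf.simple
  have hYU := hY.trans (H2.pCoreOf_le p U)
  obtain ⟨R, hR, hN⟩ := P5.Mx.exists_coatom_norm h.co.1 h1 (hYU.trans h.UH)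
  have tR := hN (cent_le_norm _ (h.t_cent hYU))
  have sR := hN sY
  have zR := hN zY
  have hV := h.v4
  have e : layerOf R = ⊥ := by
    by_contra hE
    have hn := H2.le_normalizer_layerOf R
    have k : ∀ a ∈ layerOf R, z * a * z⁻¹ * a ∈ layerOf R := fun a ha =>
      mul_mem ((mem_normalizer_iff.1 (hn zR) a).1 ha) ha
    refine h.fc Y (hY.trans (H2.pCoreOf_le_fittingOf hp _)) h1 R hR hN ?_
    rcases h.gf.dc.meet hV ((V4.le_iff.2 ⟨tR, sR⟩).trans hn) (by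
      by_contra h3
      exact (H1.commutator_lt_of_isSolvable (P5.Mx.isSolvable_of_odd (Nat.not_even_iff_odd.1
        (mt even_iff_two_dvd.1 h3))) hE).ne (H2.commutator_layerOf R)) with a | a | a
    · exact a
    · simpa [zs, mul_assoc, h.ss] using k s a
    · have := k _ a
      rwa [← conj_mul, zs, mem_cent1_iff_conj.1 zt, mul_assoc, hV.tsts, mul_one] at this
  refine hN.trans (le_of_eq ?_)
  have hYF := (hY.trans (h.pCore_le p)).trans (H2.pCoreOf_le_fittingOf hp _)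
  have hO : pCoreOf p 𝐂[t] ≠ ⊥ := fun e => h1 (eq_bot_iff.2 (e ▸ hY.trans (h.pCore_le p)))
  have two : P5.Mx.Two 𝐂[t] := fun r _ => by
    by_cases e : r = 2
    · exact ⟨p, hp, e ▸ h.ne_two hY h1, hO⟩
    · exact ⟨2, Nat.prime_two, Ne.symm e, h.two_ne⟩
  have hZ := (P5.Mx.ZF_le_cent hYF).trans ((cent_le_norm _).trans hN)
  refine eq_of_two h.gf h.co hR (H2.layerOf_eq_bot_of_isSolvable h.solv) e two
    (P5.Mx.fittingOf_le_of fun r hr => ?_) hZ hp (h.ne_two hY h1) hO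
  by_cases h0 : pCoreOf r 𝐂[t] = ⊥
  swap
  · exact two.pCoreOf_le h.co hZ hr h0
  have h2 := P5.bender_i (cent_fittingOf_le h.solv) hYF (sup_le ((le_norm_self Y).trans hN)
    (inf_le_right.trans ((cent_le_norm _).trans hN))) hr h0
  have hn := (pCoreOf_normal r R).2
  have hW := H2.isPGroup_pCoreOf r R
  generalize pCoreOf r R = W at h2 hn hW
  have ho := P5.Mx.odd_of_isPGroup hr (fun e => h.two_ne (e ▸ h0)) hW
  have h3 := L.inverts_of_fpf hV.tt (hn tR) fun a ha hc =>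
    mem_bot.1 (h2 ▸ mem_inf.2 ⟨ha, mem_cent1_iff_commute.2 hc⟩)
  obtain ⟨x, tri⟩ := h.tri
  have k1 : W ⊓ 𝐂[s] = ⊥ := by
    have k1 : Odd 𝐨((W ⊓ 𝐂[s]) ^ᵍ x⁻¹) := by
      rw [card_conj]; exact P5.Mx.odd_of_le inf_le_left ho
    have k2 : (W ⊓ 𝐂[s]) ^ᵍ x⁻¹ ≤ U := h.le_U (by
      rw [← le_conj_iff, ← cent1_conj, tri.1]; exact inf_le_right) k1
    have k3 : ⁅(W ⊓ 𝐂[s]) ^ᵍ x⁻¹, zpowers s⁆ = (W ⊓ 𝐂[s]) ^ᵍ x⁻¹ :=
      P5.comm_eq_of_inv k1 h.ss fun a ha => by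
        have := h3 _ (mem_conj.1 ha).1
        rw [inv_inv, ← tri.third hV, conj_mul, conj_mul, conj_inv] at this
        have e1 : t * s * a * (t * s) = a⁻¹ := by simpa using this
        have e2 := h.cU (inv_mem (k2 ha))
        calc s * a * s = t * (t * s * a * (t * s)) * t := by
              rw [hV.comm.eq]
              calc s * a * s = (t * t) * s * a * s * (t * t) := by simp [h.tt]
                _ = _ := by rw [← hV.comm.eq]; simp only [mul_assoc, hV.comm.eq]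
          _ = a⁻¹ := by rw [e1, e2.eq, mul_assoc, h.tt, mul_one]
    have k4 := (isPGroup_map_iff (conj_injective x⁻¹)).2 (hW.to_le (inf_le_left (b := 𝐂[s])))
    haveI := Fact.mk hr
    have : (W ⊓ 𝐂[s]) ^ᵍ x⁻¹ ≤ pCoreOf r U := by
      rcases hx with hx | hx
      · refine P5.le_pCoreOf_of_comm h.odd h.ss h.dh.sU k2 k4 hr k3 ?_
        rw [← conj_le_norm_iff (g := x), conj_inv_conj]
        exact (conj_le_of_mem_norm le_rfl (h.tri_B tri)).trans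
          (H1.le_normalizer_inf ((hx.trans hN).trans hn) (inf_le_right.trans (le_norm_self _)))
      · exact H2.le_pCoreOf_of_le_fittingOf k4 (k3.ge.trans ((commutator_mono k2 le_rfl).trans hx))
    exact conj_eq_bot_iff.1 (eq_bot_iff.2 (h0 ▸ this.trans (h.pCore_le r)))
  have k2 : W ⊓ 𝐂[t * s] = ⊥ := by
    rw [← zs, cent1_conj, ← conj_eq_self_iff.2 (hn zR), ← conj_inf, k1, conj_bot]
  intro a' ha'
  obtain ⟨b, hb, a, ha, e1, e2, rfl⟩ := P5.Mx.exists_cent_mul_inv ho hV.ss (hn sR) ha'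
  rw [mem_bot.1 (k1.le ⟨hb, mem_cent1_iff_commute.2 e1.symm⟩), mem_bot.1 (k2.le
    ⟨ha, mem_cent1_iff_commute.2 (P5.Mx.commute_mul_of_inverts hV.tt (h3 a ha) e2 hV.ss)⟩), mul_one]
  exact one_mem _

theorem norm_B {z : G} (zs : z * s * z⁻¹ = t * s) {X : Subgroup G} (hX : X ≤ U)
    (hn : z ∈ 𝐍(X)) : z ∈ 𝐍((X ⊓ 𝐂[s] : Subgroup G)) := by
  rw [← conj_eq_self_iff, conj_inf, conj_eq_self_iff.2 hn, ← cent1_conj, zs, h.cent_ts hX]

/-- `s` centralizes or inverts `O_p(U)`. -/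
theorem dich {p : ℕ} (hp : p.Prime) :
    pCoreOf p U ≤ 𝐂[s] ∨ ∀ a ∈ pCoreOf p U, s * a * s = a⁻¹ := by
  have hV := h.v4
  by_cases h0 : pCoreOf p U ⊓ 𝐂[s] = ⊥
  · exact .inr (L.inverts_of_fpf hV.ss (h.H_norm p h.sH) fun a ha hc =>
      mem_bot.1 (h0 ▸ mem_inf.2 ⟨ha, mem_cent1_iff_commute.2 hc⟩))
  left
  have hQ := H2.pCoreOf_le p U
  obtain ⟨x, tri⟩ := h.tri
  obtain ⟨z, hz, -, zs⟩ := h.four
  have h3 := h.lay hp inf_le_left h0 (h.KH hz) zs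
    (h.norm_B zs hQ (h.H_norm p (h.KH hz)))
    (cent_le_norm _ (mem_cent_iff_cent1.2 inf_le_right)) (.inl (H1.le_normalizer_inf
      (inf_le_left.trans (H2.le_normalizer_pCoreOf p U)) (inf_le_right.trans (le_norm_self _))))
  have := Fact.mk hp
  have h4 := H1.pxq_lemma (P := pCoreOf p U ⊓ 𝐂[s]) (Q := zpowers t) (G := pCoreOf p U ^ᵍ x)
    ((H2.isPGroup_pCoreOf p U).to_le inf_le_left)
    ((isPGroup_map_iff (conj_injective _)).2 (H2.isPGroup_pCoreOf p U))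
    (by
      rw [norm_conj, le_conj_iff]
      exact (conj_le_of_mem_norm (inf_le_inf_right _ hQ) (inv_mem (h.tri_B tri))).trans
        (inf_le_left.trans (H2.le_normalizer_pCoreOf p U)))
    (by
      rw [zpowers_le, norm_conj, ← tri.third hV, conj_mem_conj_iff]
      exact h.H_norm p (mul_mem (self_mem_cent1 t) h.sH))
    (by rw [cent_zpowers]; exact inf_le_left.trans (hQ.trans h.UH))
    (P5.Mx.coprime_zpowers hV.tt (by rw [card_conj]; exact P5.Mx.odd_of_le hQ h.odd))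
    (by rw [cent_zpowers]; exact inf_le_right.trans ((cent_le_norm _).trans h3))
  rw [zpowers_le, cent_conj, ← tri.third hV, conj_mem_conj_iff] at h4
  exact mem_cent_iff_cent1.1 (by simpa using mul_mem (inv_mem (h.t_cent hQ)) h4)

end BH

end Cfsg.Agent.P15.B1
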