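/-
P15, part B, first case.
-/
import Cfsg.Agent.P15.B1a

set_option autoImplicit false
set_option linter.unusedSectionVars false
set_option linter.style.haveILetI false

namespace Cfsg.Agent.P15

open Subgroup Cfsg Cfsg.Agent Cfsg.Agent.FT
open Cfsg.Agent.P5 (V4 Tri inv_eq_of_sq eq_one_of_odd)
open scoped commutatorElement

universe u

namespace B1.BH

variable {G : Type u} [Group G] [Finite G]
variable {U : Subgroup G} {y t s : G} {w : ℕ} (h : BH U y t s w)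
include h

local notation "𝐀" => (⁅U, zpowers s⁆ : Subgroup G)
local notation "𝐀'" => (⁅U, zpowers (s * y)⁆ : Subgroup G)

theorem A_normal : 𝐀 ⊲ U := ⟨comm_le_left_iff.2 (zpowers_le.2 h.dh.sU), by
  rw [commutator_comm]; exact H1.le_normalizer_commutator_self⟩

theorem A_cent : 𝐀 ≤ 𝐂(fittingOf U) := P5.Mx.le_cent_fittingOf fun p hp => by
  have hU := H2.le_normalizer_pCoreOf p U
  rcases h.dich hp with hs | hs
  · exact (commutator_mono le_rfl (zpowers_le.2 (mem_cent_iff_cent1.2 hs))).trans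
      (comm_le_right_iff.2 (H1.le_normalizer_centralizer hU))
  · exact P5.Mx.comm_le_cent_of_inverts h.ss (h.H_norm p h.sH) hs hU

theorem A_F : 𝐀 ≤ fittingOf U :=
  (le_inf h.A_normal.1 h.A_cent).trans (cent_fittingOf_le (P5.Mx.isSolvable_of_odd h.odd))

theorem A_inf : 𝐀 ⊓ 𝐂[s] = ⊥ := by
  have hc := P5.Mx.coprime_zpowers h.ss h.odd
  have h3 := H1.centralizer_inf_commutator_eq_bot
    (isMulComm_iff_le_cent.2 (h.A_cent.trans (cent_anti h.A_F)))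
    H1.le_normalizer_commutator_self (hc.coprime_dvd_right (FT.card_dvd_of_le h.A_normal.1))
  rwa [H1.commutator_commutator_eq (zpowers_le.2 h.dh.sU) hc, cent_zpowers, inf_comm] at h3

theorem sd : SdProd 𝐀 (U ⊓ 𝐂[s]) U :=
  ⟨by
    rw [← cent_zpowers]
    exact H1.commutator_sup_centralizer (zpowers_le.2 h.dh.sU) (P5.Mx.coprime_zpowers h.ss h.odd)
      (.inr (P5.Mx.isSolvable_of_odd h.odd)), inf_le_left.trans h.A_normal.2,
    eq_bot_iff.2 (h.A_inf ▸ inf_le_inf_left _ inf_le_right)⟩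

theorem kk_eq : kk U s = 𝐨(𝐀) := by rw [← h.sd.relIndex_right, inf_relIndex_left]

theorem Q_le {p : ℕ} (hi : ∀ a ∈ pCoreOf p U, s * a * s = a⁻¹) : pCoreOf p U ≤ 𝐀 :=
  (P5.comm_eq_of_inv (P5.Mx.odd_of_le (H2.pCoreOf_le p U) h.odd) h.ss hi).ge.trans
    (commutator_mono (H2.pCoreOf_le p U) le_rfl)

theorem not_cent {p : ℕ} (hp : p.Prime) (hd : p ∣ 𝐨(𝐀)) : ¬ pCoreOf p U ≤ 𝐂[s] := fun e => by
  obtain ⟨a, ha, oa⟩ := exists_mem_orderOf_eq_prime hp hd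
  have h1 := H2.le_pCoreOf_of_le_fittingOf (isPGroup_of_card_eq (p := p) (n := 1)
    (by rw [Nat.card_zpowers, oa, pow_one])) (zpowers_le.2 (h.A_F ha))
  rw [mem_bot.1 (h.A_inf.le ⟨ha, e (h1 (mem_zpowers a))⟩), orderOf_one] at oa
  exact hp.one_lt.ne oa

theorem type11 {p : ℕ} (hp : p.Prime) (h1 : pCoreOf p U ≤ 𝐂[s]) (h2 : pCoreOf p U ≤ 𝐂[s * y]) :
    pCoreOf p U = ⊥ := by
  by_contra h0
  haveI := Fact.mk hp
  obtain ⟨x, tri⟩ := h.tri
  obtain ⟨z, hz, -, zs⟩ := h.four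
  have hQ := H2.pCoreOf_le p U
  have hB := h.tri_B tri
  have a1 : pCoreOf p U ^ᵍ x ≤ pCoreOf p (U ⊓ 𝐂[s]) :=
    le_pCoreOf ⟨conj_le_of_mem_norm (le_inf hQ h1) hB, by
      rw [norm_conj, le_conj_iff]
      exact (conj_le_of_mem_norm le_rfl (inv_mem hB)).trans
        (inf_le_left.trans (H2.le_normalizer_pCoreOf p U))⟩
      ((isPGroup_map_iff (conj_injective _)).2 (H2.isPGroup_pCoreOf p U))
  have hM : 𝐀 ⊔ 𝐀' ≤ U := sup_le h.A_normal.1 h.swap.A_normal.1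
  have a2 : ⁅U, zpowers z⁆ ≤ 𝐀 ⊔ 𝐀' := (commutator_mono le_rfl ((zpowers_le.2 hz).trans
    (zpowers_le.2 (show y ∈ zpowers s ⊔ zpowers (s * y) by
      simpa using mul_mem (inv_mem (mem_sup_left (mem_zpowers s) : s ∈ zpowers s ⊔ zpowers (s * y)))
        (mem_sup_right (mem_zpowers (s * y))))))).trans (comm_sup_le
      (comm_le_left_iff.1 ((commutator_mono hM le_rfl).trans le_sup_left))
      (comm_le_left_iff.1 ((commutator_mono hM le_rfl).trans le_sup_right)) le_sup_left le_sup_right)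
  have a3 : ¬ p ∣ 𝐨((𝐀 ⊔ 𝐀' : Subgroup G)) := fun e =>
    ((Nat.Prime.dvd_mul hp).1 (e.trans (H1.card_sup_dvd (h.A_normal.1.trans h.swap.A_normal.2)))).elim
      (fun e => h.not_cent hp e h1) fun e => h.swap.not_cent hp e h2
  have a4 : ⁅pCoreOf p U ^ᵍ x, zpowers z⁆ = ⊥ := by
    rw [eq_bot_iff, ← H1.inf_eq_bot_of_coprime' (H1.coprime_card_of_isPGroup
      (H2.isPGroup_pCoreOf p (U ⊓ 𝐂[s])) ((Nat.Prime.coprime_iff_not_dvd hp).2 a3).symm)]
    exact le_inf ((commutator_mono ((a1.trans (H2.pCoreOf_le p _)).trans inf_le_left)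
      le_rfl).trans a2) ((commutator_mono a1 le_rfl).trans (comm_le_left_iff.2 (zpowers_le.2
        (H2.normalizer_le_normalizer_pCoreOf p _ (h.norm_B zs le_rfl (h.HU (h.KH hz)))))))
  have a5 := cent_le_norm _ (cent_comm.1 (comm_eq_bot_iff.1 a4) (mem_zpowers z))
  rw [norm_conj, h.norm_eq h0 hQ (h.H_norm p), ← cent1_conj, tri.1, mem_cent1_iff_conj, zs] at a5
  exact h.v4.t1 (by simpa using a5)

theorem mem_norm {p : ℕ} (hp : p.Prime) {Y : Subgroup G} (hY : Y ≤ pCoreOf p U) : s ∈ 𝐍(Y) :=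
  (h.dich hp).elim (fun e => cent_le_norm _ (mem_cent_iff_cent1.2 (hY.trans e)))
    fun e => P5.mem_norm_of_inv h.ss fun a ha => e a (hY ha)

theorem cent_le {a : G} (ha : a ∈ fittingOf U) (a1 : a ≠ 1) : 𝐂[a] ≤ 𝐂[t] := by
  obtain ⟨p, hp, hd⟩ := Nat.exists_prime_and_dvd (mt orderOf_eq_one_iff.1 a1)
  obtain ⟨b, hb, ob⟩ := exists_mem_orderOf_eq_prime hp (H := zpowers a) (by rwa [Nat.card_zpowers])
  have h1 := H2.le_pCoreOf_of_le_fittingOf (isPGroup_of_card_eq (p := p) (n := 1)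
    (by rw [Nat.card_zpowers, ob, pow_one])) (zpowers_le.2 (zpowers_le.2 ha hb))
  obtain ⟨z, hz, -, zs⟩ := h.four
  have h2 := h.mem_norm hp h1
  have h3 : y ∈ 𝐍(zpowers b) := (mul_mem_cancel_left h2).1 (h.swap.mem_norm hp h1)
  refine (H9.centralizer_le_of_mem_zpowers hb).trans ((cent_zpowers b).ge.trans
    ((cent_le_norm _).trans (h.lay hp h1 (fun e => ?_) (h.KH hz) zs (zpowers_le.2 h3 hz) h2
      (.inr h.A_F))))
  rw [zpowers_eq_bot.1 e, orderOf_one] at ob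
  exact hp.one_lt.ne ob

theorem semi {D K : Subgroup G} (hD : D ≤ fittingOf U ⊓ 𝐂[s]) (hK : K ≤ 𝐀) (hn : U ≤ 𝐍(K)) :
    𝐨(D) ∣ 𝐨(K) - 1 := by
  obtain ⟨x, tri⟩ := h.tri
  rw [← card_conj D x]
  refine SemiReg.card_dvd (fun e he e1 => ?_) (((conj_le_of_mem_norm (hD.trans (inf_le_inf_right _
    (H2.fittingOf_le U))) (h.tri_B tri)).trans inf_le_left).trans hn)
  obtain ⟨d, hd, rfl⟩ := mem_conj'.1 he
  refine eq_bot_iff.2 (h.A_inf ▸ inf_le_inf hK ?_)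
  rw [← tri.1, cent1_conj, cent1_conj]
  exact map_mono (h.cent_le (hD hd).1 fun e => e1 (by simp [e]))

theorem norm_inf {X : Subgroup G} (hX : X ≤ fittingOf U) (hn : U ≤ 𝐍(X)) :
    U ≤ 𝐍((X ⊓ 𝐂[s] : Subgroup G)) := fun u hu => mem_norm_of_conj_le fun g hg => by
  obtain ⟨a, ha, rfl⟩ := mem_conj'.1 hg
  refine mem_inf.2 ⟨(mem_normalizer_iff.1 (hn hu) a).1 ha.1, ?_⟩
  have h1 : u⁻¹ * s * u⁻¹⁻¹ ∈ 𝐂[a] := by
    simpa [commutatorElement_def] using mul_mem (cent_le_cent1 (hX ha.1) (h.A_cent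
      (commutator_mem_commutator (inv_mem hu) (mem_zpowers s)))) (mem_cent1_comm.1 ha.2)
  rw [mem_cent1_comm, cent1_conj, mem_conj]
  simpa using h1

theorem coprime (hi : ∀ p : ℕ, p.Prime → p ∣ 𝐨(𝐀) → ∀ a ∈ pCoreOf p U, s * y * a * (s * y) = a⁻¹) :
    (𝐨(𝐀)).Coprime (𝐂[t] : Subgroup G).index := by
  haveI := h.gf.simple
  refine Nat.coprime_of_dvd fun p hp hd => ?_
  have h1 := (h.dich hp).resolve_left (h.not_cent hp hd)
  have h0 : pCoreOf p U ≠ ⊥ := fun e => h.not_cent hp hd (e ▸ bot_le)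
  have hQ := H2.pCoreOf_le p U
  obtain ⟨P, hP, hQP⟩ := exists_isSyl_ge hp (H2.isPGroup_pCoreOf p U) (hQ.trans h.UH)
  have hPU := h.le_U hP.le (P5.Mx.odd_of_isPGroup hp (h.ne_two le_rfl h0) hP.pgrp)
  have hy : zpowers y ≤ 𝐂(pCoreOf p U) := zpowers_le.2 (mem_cent.2 fun a ha => by
    have := P5.Mx.commute_mul_of_inverts h.ss (h1 a ha) (hi p hp hd a ha) h.swap.ss
    rw [← mul_assoc, h.ss, one_mul] at this
    exact this.symm.eq)
  have hN : 𝐍(P) ≤ 𝐂[t] := fun g hg => by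
    have e1 : g * t * g⁻¹ ∈ 𝐂(pCoreOf p U) :=
      cent_anti hQP ((mem_normalizer_iff.1 (H1.normalizer_le_normalizer_centralizer P hg) t).1
        (h.t_cent hPU))
    have e2 : g * t * g⁻¹ * (g * t * g⁻¹) = 1 := by rw [conj_mul, h.tt, mul_one, mul_inv_cancel]
    obtain ⟨u, hu, z, hz, e | e⟩ := h.dh.cover _ ⟨trivial,
      h.norm_eq h0 hQ (h.H_norm p) ▸ cent_le_norm _ e1⟩
    · obtain ⟨n, -, d⟩ := h.ch
      exact mem_cent1_iff_conj.2 ((d.invol (e ▸ mul_mem (mem_sup_left hu) (mem_sup_right hz))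
        e2).resolve_left fun e => h.v4.t1 (conj_eq_one_iff.1 e))
    refine absurd (eq_bot_iff.2 fun a ha => ?_) h0
    have e3 : u * a * u⁻¹ = a⁻¹ := by
      have b1 := mem_cent.1 e1 _ (inv_mem ha)
      have b2 := mem_cent.1 (hy hz) a ha
      calc u * a * u⁻¹ = u * z * (s * a⁻¹ * s) * z⁻¹ * u⁻¹ := by
            rw [h1 _ (inv_mem ha), inv_inv, mul_assoc u z, ← b2]; group
        _ = u * z * s * a⁻¹ * (u * z * s)⁻¹ := by
            rw [mul_inv_rev, inv_eq_of_sq h.ss]; group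
        _ = a⁻¹ := by rw [← e, ← b1]; group
    have e4 := H2.commute_of_conj_eq_or_inv (Nat.coprime_two_right.2
      (h.odd.of_dvd_nat (orderOf_dvd_card_of_mem hu))) (.inr e3)
    rw [e4.eq, mul_inv_cancel_right, eq_inv_iff_mul_eq_one] at e3
    exact eq_one_of_odd h.odd (hQ ha) e3
  have h2 := IsSyl.of_norm hp (M := ⊤) (hP.of_le (le_inf le_top le_normalizer)
    (inf_le_right.trans hN))
  exact fun e => h2.ndvd (by
    rw [relIndex_top_right]; exact e.trans (index_dvd_of_le hP.le))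

theorem main (h1 : U ≠ ⊥) (hF : 𝐀 ⊓ 𝐂[s * y] = ⊥) : y ∈ 𝐂(U) ∧ U ⊓ 𝐂[s] = ⊥ := by
  haveI := h.gf.simple
  have k0 : ∀ p : ℕ, p.Prime → (∀ a ∈ pCoreOf p U, s * a * s = a⁻¹) →
      ∀ a ∈ pCoreOf p U, s * y * a * (s * y) = a⁻¹ := fun p hp e =>
    (h.swap.dich hp).elim (fun e1 a ha => by
      rw [mem_bot.1 (hF.le ⟨h.Q_le e ha, e1 ha⟩), mul_one, h.swap.ss, inv_one]) id
  have hi := fun p hp hd => k0 p hp ((h.dich hp).resolve_left (h.not_cent hp hd))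
  have hA : 𝐀 ≤ 𝐀' := le_of_forall_exists_isSyl_le fun p hp hd => (exists_isSyl hp 𝐀).imp
    fun P hP => ⟨hP, (H2.le_pCoreOf_of_le_fittingOf hP.pgrp (hP.le.trans h.A_F)).trans
      (h.swap.Q_le (hi p hp hd))⟩
  have e1 := (h.sd.inf_of_le_left hA).card
  rw [inf_of_le_right h.swap.A_normal.1, inf_assoc, inf_of_le_right
    (inf_le_right.trans h.swap.A_normal.1), inf_comm] at e1
  have e2 := h.semi (inf_le_inf_right _ h.swap.A_F) le_rfl h.A_normal.2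
  have e3 := h.coprime hi
  have o1 := P5.Mx.odd_of_le h.A_normal.1 h.odd
  have o2 := P5.Mx.odd_of_le h.swap.A_normal.1 h.odd
  have o3 := P5.Mx.odd_of_le (inf_le_left.trans h.swap.A_normal.1 : 𝐀' ⊓ 𝐂[s] ≤ U) h.odd
  have e4 : 𝐨(𝐀) ≠ 1 := fun e =>
    h.not_le_cent h1 (P5.Mx.comm_eq_bot_iff.1 (card_eq_one.1 e))
  have e5 := h.gf.ch _ _ _ _ _ _ h.dh
  rw [relIndex_top_right, h.kk_eq, h.swap.kk_eq] at e5
  have e6 := (h.gf.num _ _ _ _ h.dh.pw o1 o2 e5).2.2.2.2.2.2.2.2.1 _ e1 e3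
  have e7 : 𝐨((𝐀' ⊓ 𝐂[s] : Subgroup G)) = 1 := by
    generalize 𝐨((𝐀' ⊓ 𝐂[s] : Subgroup G)) = j at *
    generalize 𝐨(𝐀) = k at *
    obtain ⟨j, rfl⟩ := o3
    obtain ⟨k, rfl⟩ := o1
    have := Nat.le_of_dvd (by omega) (Nat.Coprime.dvd_of_dvd_mul_left
      (Nat.coprime_two_right.2 ⟨j, rfl⟩) (show 2 * j + 1 ∣ 2 * k by simpa using e2))
    omega
  have e8 : zpowers y ≤ 𝐂(fittingOf U) := P5.Mx.le_cent_fittingOf fun p hp => by
    rcases h.dich hp with a | a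
    · rw [(h.swap.dich hp).elim (h.type11 hp a) fun b =>
        eq_bot_iff.2 (card_eq_one.1 e7 ▸ le_inf (h.swap.Q_le b) a)]
      exact cent_comm.1 bot_le
    · refine zpowers_le.2 (mem_cent.2 fun b hb => ?_)
      have := P5.Mx.commute_mul_of_inverts h.ss (a b hb) (k0 p hp a b hb) h.swap.ss
      rw [← mul_assoc, h.ss, one_mul] at this
      exact this.symm.eq
  have hy := zpowers_le.2 h.dh.yU
  have e9 : y ∈ 𝐂(U) := by
    obtain ⟨n, -, d⟩ := h.ch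
    refine zpowers_le.1 (cent_comm.1 (comm_eq_bot_iff.1 ?_))
    rw [← H1.commutator_commutator_eq hy (by
      rw [d.card_K]; exact (Nat.coprime_two_left.2 h.odd).pow_left _)]
    exact comm_eq_bot_iff.2 (((le_inf (comm_le_left_iff.2 hy) ((commutator_mono le_rfl e8).trans
      (comm_le_right_iff.2 (H1.le_normalizer_centralizer (H2.le_normalizer_fittingOf U))))).trans
        (cent_fittingOf_le (P5.Mx.isSolvable_of_odd h.odd))).trans (cent_comm.1 e8))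
  refine ⟨e9, ?_⟩
  rcases h.gf.ca _ _ _ _ _ h.dh e9 with a | ⟨-, a⟩
  · rw [← h.A_inf, a]
  · rw [a, h.kk_eq] at e3
    exact (e4 (Nat.eq_one_of_dvd_coprimes e3 dvd_rfl ⟨45 * 𝐨(𝐀), by ring⟩)).elim

end B1.BH

theorem b1Stmt : B1Stmt.{u} := fun G _ _ gf U y t s w dh co fc => by
  have h : B1.BH U y t s w := ⟨gf, dh, co, fc⟩
  by_cases h1 : U = ⊥
  · subst h1
    exact ⟨zpowers_le.1 (cent_comm.1 bot_le), bot_inf_eq _⟩
  by_cases h2 : ⁅U, zpowers s⁆ ⊓ 𝐂[s * y] = ⊥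
  · exact h.main h1 h2
  have h3 : ⁅U, zpowers (s * y)⁆ ⊓ 𝐂[s] = ⊥ := by
    by_contra h3
    have a1 := h.semi (inf_le_inf_right _ h.swap.A_F) inf_le_left
      (h.swap.norm_inf h.A_F h.A_normal.2)
    have a2 := h.swap.semi (inf_le_inf_right _ h.A_F) inf_le_left
      (h.norm_inf h.swap.A_F h.swap.A_normal.2)
    have a3 := (one_lt_card_iff_ne_bot _).2 h2
    have a4 := (one_lt_card_iff_ne_bot _).2 h3
    have a5 := Nat.le_of_dvd (by omega) a1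
    have a6 := Nat.le_of_dvd (by omega) a2
    omega
  obtain ⟨a1, a2⟩ := h.swap.main h1 (by rwa [mul_inv_cancel_right])
  rw [inv_mem_iff] at a1
  refine ⟨a1, eq_bot_iff.2 fun u hu => a2.le ⟨hu.1, mem_cent1_comm.1 ?_⟩⟩
  exact mul_mem (mem_cent1_comm.1 hu.2) (cent_le_cent1 hu.1 a1)

end Cfsg.Agent.P15
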