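/-
P15: maximal subgroups of a minimal counterexample.
-/
import Cfsg.Agent.P15.Bas1

set_option autoImplicit false
set_option linter.unusedSectionVars false

namespace Cfsg.Agent.P15

open Subgroup Cfsg Cfsg.Agent Cfsg.Agent.FT
open Cfsg.Agent.H2 (pPrimeCoreOf layerOf fstarOf PStab)
open Cfsg.Agent.P5 (V4 Tri inv_eq_of_sq)
open Cfsg.Agent.P5.Mx (Two ZF Zr)
open Cfsg.Agent.H6.Cyc (Sw)
open scoped commutatorElement

universe u

variable {G : Type u} [Group G] [Finite G]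

theorem even_of_perf {L : Subgroup G} (hp : ⁅L, L⁆ = L) (h1 : L ≠ ⊥) : 2 ∣ 𝐨(L) := by
  by_contra e
  have := P4.solvable_of_odd (P4.odd_iff_not_dvd.2 e)
  exact (H1.commutator_lt_of_isSolvable this h1).ne hp

theorem even_layer {R : Subgroup G} (h : layerOf R ≠ ⊥) : 2 ∣ 𝐨(layerOf R) :=
  even_of_perf (H2.commutator_layerOf R) h

theorem DC.meet_layer (h : DC G) {t s : G} (v : V4 t s) {R : Subgroup G} (ht : t ∈ R) (hs : s ∈ R)
    (hE : layerOf R ≠ ⊥) : t ∈ layerOf R ∨ s ∈ layerOf R ∨ t * s ∈ layerOf R :=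
  h.meet v ((V4.le_iff.2 ⟨ht, hs⟩).trans (H2.le_normalizer_layerOf R)) (even_layer hE)

/-- A nontrivial layer of a group containing `D₈` contains its central involution. -/
theorem DC.t_mem_layer (h : DC G) {t s u : G} (v : V4 t s) (sw : Sw u t s) {R : Subgroup G}
    (ht : t ∈ R) (hs : s ∈ R) (hu : u ∈ R) (hE : layerOf R ≠ ⊥) : t ∈ layerOf R := by
  have hn := mem_normalizer_iff.1 (H2.le_normalizer_layerOf R hu)
  rcases h.meet_layer v ht hs hE with e | e | e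
  · exact e
  · exact (mul_mem_cancel_right e).1 (sw.2 ▸ (hn s).1 e)
  · exact (mul_mem_cancel_right ((hn s).2 (sw.2 ▸ e))).1 e

theorem CL.not_solv {R L K : Subgroup G} {t : G} (c : CL R L K t) : ¬ Group.IsSolvable L := fun e =>
  (H1.commutator_lt_of_isSolvable e fun e => c.t1 (mem_bot.1 (e ▸ c.tL))).ne c.perf

theorem CL.le_of_invol {R L K N : Subgroup G} {t j : G} (c : CL R L K t) (hn : L ≤ 𝐍(N))
    (hj : j ∈ L) (jN : j ∈ N) (j1 : j ≠ 1) (jj : j * j = 1) : L ≤ N := by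
  rcases c.qs (L ⊓ N) ⟨inf_le_left, H1.le_normalizer_inf (le_norm_self L) hn⟩ with e | e
  · exact inf_eq_left.1 e
  · exact absurd (P5.eq_one_of_odd e ⟨hj, jN⟩ jj) j1

theorem CL.le_layer {R L K R' : Subgroup G} {t : G} (c : CL R L K t) (h : DC G) (hR : L ≤ R')
    (hE : layerOf R' ≠ ⊥) : L ≤ layerOf R' := by
  obtain ⟨s, hs, v⟩ := c.ex
  have hn := hR.trans (H2.le_normalizer_layerOf R')
  rcases h.meet_layer v (hR c.tL) (hR hs) hE with e | e | e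
  exacts [c.le_of_invol hn c.tL e v.t1 v.tt, c.le_of_invol hn hs e v.s1 v.ss,
    c.le_of_invol hn (mul_mem c.tL hs) e v.ts1 v.tsts]

/-- The Frattini argument `R = L C_R(t)`. -/
theorem CL.frattini {R L K : Subgroup G} {t g : G} (c : CL R L K t) (hg : g ∈ R) :
    ∃ l ∈ L, ∃ h ∈ R ⊓ 𝐂[t], g = l * h := by
  obtain ⟨l, hl, e⟩ := c.conj _ ((mem_normalizer_iff.1 (c.nL hg) t).1 c.tL)
    (P4.conj_ne_one c.t1 g) (P4.conj_sq c.tt g)
  exact ⟨l, hl, l⁻¹ * g, mem_inf.2 ⟨mul_mem (inv_mem (c.LR hl)) hg, mem_cent1_iff_conj.2 (by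
    rw [show l⁻¹ * g * t * (l⁻¹ * g)⁻¹ = l⁻¹ * (g * t * g⁻¹) * l by group, ← e]; group)⟩, by group⟩

namespace GF

open P5.Mx H2

variable (gf : GF G)
include gf

theorem eq_of_two {M R : Subgroup G} (hM : IsCoatom M) (hR : IsCoatom R) (eM : layerOf M = ⊥)
    (eR : layerOf R = ⊥) (h2 : Two M) (hF : fittingOf R ≤ M) (hZ : ZF M ≤ R) : R = M := by
  have := gf.simple
  have key : ∀ r : ℕ, r.Prime → pCoreOf r M ≠ ⊥ → pCoreOf r R ≠ ⊥ := by
    intro r hr h1 h0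
    haveI := Fact.mk hr
    have hZR : Zr r M ≤ R := (Zr_le_ZF hr M).trans hZ
    have a1 := fittingOf_le_sup hr R
    rw [h0, bot_sup_eq] at a1
    have a2 : Zr r M ≤ 𝐂(fittingOf R) := le_cent_of_le le_rfl a1
      (hZR.trans (le_normalizer_pPrimeCoreOf r R)) (hF.trans (le_norm_Zr r M))
      (H1.coprime_card_of_isPGroup (isPGroup_Zr r M) (coprime_card_pPrimeCoreOf r R)).symm
    exact Zr_ne_bot hr h1 (eq_bot_iff.2 (h0 ▸ le_pCoreOf_of_le_fittingOf (isPGroup_Zr r M)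
      ((le_inf hZR a2).trans (inf_centralizer_fittingOf_le_of_layerOf_eq_bot eR))))
  obtain ⟨p, hp, p2, hO⟩ := h2 2 Nat.prime_two
  refine (gf.bt _ _ hM hR (by
    rw [fstarOf_eq, eM, bot_sup_eq]
    refine fittingOf_le_of fun r hr => ?_
    by_cases h0 : pCoreOf r M = ⊥
    · exact h0 ▸ bot_le
    obtain ⟨q, hq, hne, hq1⟩ := h2 r hr
    exact pCoreOf_le_of_two hr hq hne hR (isPGroup_pCoreOf r R) (key r hr h0) (pCoreOf_le r R)
      (le_normalizer_pCoreOf r R) ((pCoreOf_le_fittingOf hr R).trans hF) (isPGroup_pCoreOf q R)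
      (key q hq hq1) (pCoreOf_le q R) (le_normalizer_pCoreOf q R)
      ((pCoreOf_le_fittingOf hq R).trans hF)) (by rwa [fstarOf_eq, eR, bot_sup_eq]) p hp p2 hO).symm

theorem cent_ne_top {t : G} (t1 : t ≠ 1) : 𝐂[t] ≠ ⊤ :=
  have := gf.simple; H6.Cyc.cent1_ne_top' gf.na t1

theorem exists_coatom {X : Subgroup G} (h1 : X ≠ ⊥) (hs : Group.IsSolvable X) :
    ∃ R, IsCoatom R ∧ 𝐍(X) ≤ R :=
  have := gf.simple
  (eq_top_or_exists_le_coatom _).resolve_left (H6.Cyc.norm_ne_top' gf.na h1 hs)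

end GF

namespace DH

variable {U : Subgroup G} {y t s : G} {w : ℕ} (h : DH ⊤ U y t s w)
include h

theorem HU' : 𝐂[t] ≤ 𝐍(U) := fun _ e => h.HU ⟨trivial, e⟩

theorem normal : U ⊲ 𝐂[t] := ⟨h.Ut, h.HU'⟩

theorem le_U {W : Subgroup G} (hW : W ≤ 𝐂[t]) (ho : Odd 𝐨(W)) : W ≤ U :=
  h.le_of_odd (le_inf le_top hW) ho

theorem solv' : Group.IsSolvable 𝐂[t] := top_inf_eq 𝐂[t] ▸ h.solv

theorem H_norm (p : ℕ) : 𝐂[t] ≤ 𝐍(pCoreOf p U) :=
  h.HU'.trans (H2.normalizer_le_normalizer_pCoreOf p U)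

theorem H_normF : 𝐂[t] ≤ 𝐍(fittingOf U) :=
  h.HU'.trans (H2.normalizer_le_normalizer_fittingOf U)

theorem pCore_le (p : ℕ) : pCoreOf p U ≤ pCoreOf p 𝐂[t] :=
  le_pCoreOf ⟨(H2.pCoreOf_le p U).trans h.Ut, h.H_norm p⟩ (H2.isPGroup_pCoreOf p U)

theorem fit_le : fittingOf U ≤ fittingOf 𝐂[t] := fittingOf_le_of_normal h.normal

theorem two_ne : pCoreOf 2 𝐂[t] ≠ ⊥ := fun e => h.t1 (mem_bot.1 (e ▸ zpowers_le.1
  (le_pCoreOf ⟨zpowers_le.2 (self_mem_cent1 t), P5.Mx.cent1_le_norm_zpowers t⟩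
    (P4.isPGroup_zpowers_of_sq h.tt))))

theorem ne_two {p : ℕ} (h1 : pCoreOf p U ≠ ⊥) : p ≠ 2 := by
  rintro rfl
  exact P4.odd_iff_not_dvd.1 (P5.Mx.odd_of_le (H2.pCoreOf_le 2 U) h.odd)
    (prime_dvd_card_of_isPGroup Nat.prime_two (H2.isPGroup_pCoreOf 2 U) h1)

theorem two (h1 : U ≠ ⊥) : Two 𝐂[t] := fun r _ => by
  by_cases e : r = 2
  · by_contra h0
    push Not at h0
    refine h1 (eq_bot_iff.2 ((le_inf le_rfl ?_).trans ((cent_fittingOf_le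
      (P4.solvable_of_odd h.odd)).trans ?_))) <;>
    have : fittingOf U ≤ ⊥ := P5.Mx.fittingOf_le_of fun q hq => by
      by_contra h2
      exact h2 ((h.pCore_le q).trans
        (h0 q hq (e ▸ h.ne_two fun e => h2 e.le)).le)
    · rw [le_bot_iff.1 this, cent_bot]; exact le_top
    · exact this
  · exact ⟨2, Nat.prime_two, Ne.symm e, h.two_ne⟩

theorem norm_eq [IsSimpleGroup G] (co : IsCoatom 𝐂[t]) {X : Subgroup G} (h1 : X ≠ ⊥) (hX : X ≤ U)
    (hn : 𝐂[t] ≤ 𝐍(X)) : 𝐍(X) = 𝐂[t] := P5.Mx.norm_eq co h1 (hX.trans h.Ut) hn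

/-- No noncentral involution of `H` centralizes `U ≠ 1`. -/
theorem not_le_cent [IsSimpleGroup G] (co : IsCoatom 𝐂[t]) (h1 : U ≠ ⊥) : ¬ U ≤ 𝐂[s] := fun e => by
  obtain ⟨x, -, tri⟩ := h.exists_tri trivial trivial h.v4
  have h2 := h.tri_B trivial tri
  rw [inf_of_le_left e, h.norm_eq co h1 le_rfl h.HU'] at h2
  exact tri.not_commute h.v4 (mem_cent1.1 h2).symm

theorem le_cent_of_fit {j : G} (jj : j * j = 1) (hj : j ∈ 𝐍(U)) (hF : fittingOf U ≤ 𝐂[j]) :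
    U ≤ 𝐂[j] := by
  have h1 : zpowers j ≤ 𝐂(fittingOf U) := zpowers_le_of_mem (mem_cent_iff_cent1.2 hF)
  rw [← cent_zpowers, cent_comm]
  refine H1.le_centralizer_of_commutator_le (zpowers_le_of_mem hj) (P5.Mx.coprime_zpowers jj h.odd)
    (H := fittingOf U) (le_trans (le_inf (comm_le_left_iff.2 (zpowers_le_of_mem hj)) ?_)
      (cent_fittingOf_le (P4.solvable_of_odd h.odd))) h1
  exact (commutator_mono ((fittingOf_normal U).2.trans
    (H1.normalizer_le_normalizer_centralizer _)) h1).trans (comm_le_right_iff.2 le_rfl)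

variable (co : IsCoatom 𝐂[t]) {X R : Subgroup G} (hX : X ≤ fittingOf U) (h1 : X ≠ ⊥)
  (hN : 𝐍(X) ≤ R)
include co hX h1 hN

omit co h1 in
theorem t_mem : t ∈ R := hN (cent_le_norm _ (mem_cent_iff_cent1.2
  (hX.trans ((H2.fittingOf_le U).trans h.Ut))))

omit co h1 in
/-- `O_r(R)` meets `H` trivially when `O_r(H) = 1`. -/
theorem lay_inf {r : ℕ} (hr : r.Prime) (h0 : pCoreOf r 𝐂[t] = ⊥) : pCoreOf r R ⊓ 𝐂[t] = ⊥ :=
  P5.bender_i (cent_fittingOf_le h.solv') (hX.trans h.fit_le) (sup_le ((le_norm_self X).trans hN)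
    (inf_le_right.trans ((cent_le_norm _).trans hN))) hr h0

omit co h1 in
theorem lay_inv {r : ℕ} (hr : r.Prime) (h0 : pCoreOf r 𝐂[t] = ⊥) :
    ∀ a ∈ pCoreOf r R, t * a * t = a⁻¹ :=
  L.inverts_of_fpf h.tt ((pCoreOf_normal r R).2 (h.t_mem hX hN)) fun _ ha hc =>
    mem_bot.1 (h.lay_inf hX hN hr h0 ▸ mem_inf.2 ⟨ha, mem_cent1_iff_commute.2 hc⟩)

theorem lay0 (gf : GF G) (hR : IsCoatom R) (hE : layerOf R = ⊥)
    (h0 : ∀ r : ℕ, r.Prime → pCoreOf r 𝐂[t] = ⊥ → pCoreOf r R = ⊥) : R = 𝐂[t] := by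
  have := gf.simple
  have two := h.two fun e => h1 (eq_bot_iff.2 (e ▸ hX.trans (H2.fittingOf_le U)))
  have hZ := (P5.Mx.ZF_le_cent (hX.trans h.fit_le)).trans ((cent_le_norm _).trans hN)
  refine gf.eq_of_two co hR (H2.layerOf_eq_bot_of_isSolvable h.solv') hE two
    (P5.Mx.fittingOf_le_of fun r hr => ?_) hZ
  by_cases e : pCoreOf r 𝐂[t] = ⊥
  · exact h0 r hr e ▸ bot_le
  · exact two.pCoreOf_le co hZ hr e

omit co in
/-- If `t` is fused in `R` to the other involutions of a four-group then `E(R) ≠ 1`. -/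
theorem lay_tri (gf : GF G) (co : IsCoatom 𝐂[t]) (hR : IsCoatom R) {j x : G} (v : V4 t j)
    (hx : x ∈ R) (tri : Tri x t j) : layerOf R ≠ ⊥ := fun hE => by
  have := gf.simple
  refine tri.not_commute v (mem_cent1.1 (h.lay0 co hX h1 hN gf hR hE (fun r hr h0 => ?_) ▸ hx)).symm
  have h3 := h.lay_inv hX hN hr h0
  have hn := (pCoreOf_normal r R).2
  have ho := P5.Mx.odd_of_isPGroup hr (fun e => h.two_ne (e ▸ h0)) (H2.isPGroup_pCoreOf r R)
  generalize pCoreOf r R = W at h3 hn ho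
  have key : ∀ j : G, (∀ a ∈ W, j * a * j = a⁻¹) → ∀ a ∈ W,
      x * j * x⁻¹ * a * (x * j * x⁻¹) = a⁻¹ := fun j hj a ha => by
    have := hj _ (H1.conj_mem_of_le_normalizer' le_rfl (hn hx) ha)
    calc _ = x * (j * (x⁻¹ * a * x) * j) * x⁻¹ := by group
      _ = _ := by rw [this]; group
  refine eq_bot_iff.2 fun a ha => ?_
  have k1 := key t h3
  rw [show x * t * x⁻¹ = j from tri.1] at k1
  have k2 := key j k1 a ha
  have k3 : Commute (t * j) a := P5.Mx.commute_mul_of_inverts v.tt (h3 a ha) (k1 a ha) v.ss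
  rw [show x * j * x⁻¹ = t * j from tri.2, k3.eq, mul_assoc,
    v.tsts, mul_one, eq_inv_iff_mul_eq_one] at k2
  exact P5.eq_one_of_odd ho ha k2

end DH

end Cfsg.Agent.P15
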