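/-
P15, part B, second case: the configuration `TD`.
-/
import Cfsg.Agent.P15.Bas2

set_option autoImplicit false
set_option linter.unusedSectionVars false

namespace Cfsg.Agent.P15

open Subgroup Cfsg Cfsg.Agent Cfsg.Agent.FT
open Cfsg.Agent.H2 (pPrimeCoreOf layerOf fstarOf PStab)
open Cfsg.Agent.P5 (V4 Tri inv_eq_of_sq)
open scoped commutatorElement

universe u

variable {G : Type u} [Group G]

/-- The configuration before the choice of the prime. -/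
structure TB (U L K : Subgroup G) (y t s : G) (w : ℕ) : Prop where
  gf : GF G
  dh : DH ⊤ U y t s w
  co : IsCoatom 𝐂[t]
  cl : CL 𝐍(L) L K t
  sL : s ∈ L
  inv : ∀ a ∈ K, s * a * s = a⁻¹
  coL : IsCoatom 𝐍(L)
  nx : ∀ X ≤ fittingOf U ⊓ 𝐂(L), X ≠ ⊥ → 𝐍(X) ≤ 𝐍(L)
  ex : ∃ X ≤ fittingOf U, X ≠ ⊥ ∧ 𝐍(X) ≤ 𝐍(L)

variable [Finite G]

theorem TB.eq_one_of_inv {W : Subgroup G} (ho : Odd 𝐨(W)) {a j : G} (ha : a ∈ W) (h1 : Commute j a)
    (h2 : j * a * j⁻¹ = a⁻¹) : a = 1 := by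
  rw [h1.eq, mul_inv_cancel_right, eq_inv_iff_mul_eq_one] at h2
  exact P5.eq_one_of_odd ho ha h2

/-- An involution whose fixed points on `N` lie in `W ⊴ N` inverts `N / W`. -/
theorem TB.inv_mod {N W : Subgroup G} (ho : Odd 𝐨(N)) (hW : N ≤ 𝐍(W)) {j : G} (jj : j * j = 1)
    (hj : j ∈ 𝐍(N)) (hc : N ⊓ 𝐂[j] ≤ W) {n : G} (hn : n ∈ N) : j * n * j * n ∈ W := by
  obtain ⟨b, hb, i, hi, e1, e2, rfl⟩ := P5.Mx.exists_cent_mul_inv ho jj hj hn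
  have h1 : b ∈ W := hc ⟨hb, mem_cent1_iff_commute.2 e1.symm⟩
  have h2 := (mem_normalizer_iff.1 (hW (inv_mem hi)) b).1 h1
  have h3 : j * (b * i) * j * (b * i) = b * (i⁻¹ * b * i⁻¹⁻¹) := by
    rw [← mul_assoc j b, ← e1.eq, inv_inv, ← e2]; group
  exact h3 ▸ mul_mem h1 h2

/-- Generation by fixed points modulo `W`. -/
theorem TB.le_of_fix {N W : Subgroup G} (ho : Odd 𝐨(N)) (hW : N ≤ 𝐍(W)) {s j : G} (ss : s * s = 1)
    (jj : j * j = 1) (sN : s ∈ 𝐍(N)) (jN : j ∈ 𝐍(N)) (zW : s * j ∈ 𝐍(W)) (cs : N ⊓ 𝐂[s] ≤ W)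
    (cj : N ⊓ 𝐂[j] ≤ W) (cz : N ⊓ 𝐂[s * j] ≤ W) (h4 : (s * j) ^ 2 ^ 2 = 1) : N ≤ W := by
  have := Fact.mk Nat.prime_two
  have h2 := H1.isPGroup_zpowers_of_pow_eq_one h4
  rw [← H1.commutator_sup_centralizer (zpowers_le.2 (mul_mem sN jN))
    (H1.coprime_card_of_isPGroup h2 (Nat.coprime_two_right.2 ho)).symm
    (.inr (P4.solvable_of_odd ho)), cent_zpowers]
  refine sup_le (H1.commutator_zpowers_le zW fun g hg => ?_) cz
  have hn := inv_mem hg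
  have hm : j * g⁻¹ * j ∈ N := by simpa [inv_eq_of_sq jj] using (mem_normalizer_iff.1 jN _).1 hn
  have a1 := (mem_normalizer_iff.1 (hW hn) _).1 (TB.inv_mod ho hW jj jN cj hn)
  have a2 := (mem_normalizer_iff.1 (hW hg) _).1
    (mul_mem (TB.inv_mod ho hW ss sN cs hm) (inv_mem a1))
  convert a2 using 1
  rw [commutatorElement_def, mul_inv_rev, inv_eq_of_sq ss, inv_eq_of_sq jj]
  group

namespace TB

variable {U L K : Subgroup G} {y t s : G} {w : ℕ} (c : TB U L K y t s w)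
include c

theorem nH : ¬ 𝐂[t] ≤ 𝐍(L) := fun e => by
  rcases c.co.le_iff.1 e with e | e
  · exact c.coL.1 e
  · exact c.cl.not_solv (H1.isSolvable_of_le ((le_norm_self L).trans e.le) c.dh.solv')

theorem KU : K ≤ U := c.dh.le_U (c.cl.KL.trans inf_le_right) c.cl.odd

theorem KL : K ≤ L := c.cl.KL.trans inf_le_left

theorem sR : s ∈ 𝐍(L) := le_norm_self L c.sL

theorem odd (r : ℕ) : Odd 𝐨(pCoreOf r U) := P5.Mx.odd_of_le (H2.pCoreOf_le r U) c.dh.odd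

theorem Qt (r : ℕ) : pCoreOf r U ≤ 𝐂[t] := (H2.pCoreOf_le r U).trans c.dh.Ut

theorem fld {r : ℕ} (hr : r.Prime) : pCoreOf r U ⊓ 𝐍(L) ⊓ 𝐂[s] ≤ 𝐂(L) := by
  by_cases e : pCoreOf r U = ⊥
  · rw [e, bot_inf_eq, bot_inf_eq]; exact bot_le
  exact c.cl.fld s c.sL c.dh.v4 c.inv r hr (c.dh.ne_two e) _
    (le_inf inf_le_right (inf_le_left.trans (c.Qt r))) ((H2.isPGroup_pCoreOf r U).to_le inf_le_left)
    (H1.le_normalizer_inf (inf_le_right.trans (c.dh.H_norm r))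
      (inf_le_left.trans ((le_norm_self L).trans (le_norm_self _))))

theorem dec (r : ℕ) (hr : r.Prime) : ∀ g ∈ pCoreOf r U ⊓ 𝐍(L),
    ∃ b ∈ pCoreOf r U ⊓ 𝐂(L), ∃ e ∈ K ⊓ pCoreOf r U, g = b * e := fun g hg => by
  obtain ⟨b, hb, i, hi, e1, e2, rfl⟩ := P5.Mx.exists_cent_mul_inv
    (P5.Mx.odd_of_le inf_le_left (c.odd r)) c.dh.ss
    (P5.mem_norm_inf (c.dh.H_norm r c.dh.sH.2) (le_norm_self _ c.sR)) hg
  exact ⟨b, ⟨hb.1, c.fld hr ⟨hb, mem_cent1_iff_commute.2 e1.symm⟩⟩, i,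
    ⟨c.cl.mem s c.sL c.dh.v4 i ⟨hi.2, c.Qt r hi.1⟩ (c.dh.odd_of_mem (H2.pCoreOf_le r U hi.1)) e2,
      hi.1⟩, rfl⟩

theorem eq_one {a : G} (ha : a ∈ K) (h1 : a ∈ 𝐂(L)) : a = 1 :=
  eq_one_of_inv c.cl.odd ha (mem_centralizer_iff.1 h1 s c.sL)
    (by rw [inv_eq_of_sq c.dh.ss]; exact c.inv a ha)

theorem exists_p : ∃ p : ℕ, p.Prime ∧ pCoreOf p U ⊓ 𝐂(L) ≠ ⊥ := by
  by_contra! h0
  obtain ⟨X, hX, X1, hN⟩ := c.ex
  have hF := H2.isNilpotent_fittingOf U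
  have h1 : fittingOf U ⊓ 𝐍(L) ≤ K := by
    rw [← H2.fittingOf_eq_self (isNilpotent_of_le inf_le_left hF)]
    refine P5.Mx.fittingOf_le_of fun r hr g hg => ?_
    have h2 := H2.pCoreOf_le r _ hg
    obtain ⟨b, hb, e, he, rfl⟩ := c.dec r hr g ⟨H2.le_pCoreOf_of_le_fittingOf
      (H2.isPGroup_pCoreOf r _) ((H2.pCoreOf_le r _).trans inf_le_left) hg, h2.2⟩
    rw [mem_bot.1 ((h0 r hr).le hb), one_mul]; exact he.1
  have h2 := (norm_le_norm_of_le_cyclic (isCyclic_of_le h1 c.cl.cyc)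
    (le_inf hX ((le_norm_self X).trans hN))).trans hN
  have h3 : fittingOf U ⊓ 𝐍(L) = fittingOf U := by
    by_contra e
    exact (lt_inf_norm_of_isNilpotent hF (lt_of_le_of_ne inf_le_left e)).not_ge
      (inf_le_inf_left _ h2)
  rw [h3] at h2
  exact c.nH (c.dh.H_normF.trans h2)

theorem nxp {p : ℕ} (hp : p.Prime) {X : Subgroup G} (hX : X ≤ pCoreOf p U ⊓ 𝐂(L)) (h1 : X ≠ ⊥) :
    𝐍(X) ≤ 𝐍(L) :=
  c.nx X (hX.trans (inf_le_inf_right _ (H2.pCoreOf_le_fittingOf hp U))) h1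

/-- Normalizer growth. -/
theorem grow {p : ℕ} (hp : p.Prime) (ne : pCoreOf p U ⊓ 𝐂(L) ≠ ⊥) {j : G} (hj : j ∈ L)
    (h : pCoreOf p U ⊓ 𝐍(L) ⊓ 𝐂[j] ≤ 𝐂(L)) : pCoreOf p U ⊓ 𝐂[j] = pCoreOf p U ⊓ 𝐂(L) := by
  by_contra e
  refine (lt_inf_norm_of_isNilpotent (isNilpotent_of_isPGroup hp
    ((H2.isPGroup_pCoreOf p U).to_le inf_le_left)) (lt_of_le_of_ne
      (inf_le_inf_left _ (cent_le_cent1 hj)) (Ne.symm e))).not_ge fun g hg => ?_
  exact ⟨hg.1.1, h ⟨⟨hg.1.1, c.nxp hp le_rfl ne hg.2⟩, hg.1.2⟩⟩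

theorem le_of_conj {g : G} (h : L ^ᵍ g ≤ 𝐍(L)) : g ∈ 𝐍(L) := by
  have h1 : L ≤ 𝐍(L ^ᵍ g⁻¹) := by rw [norm_conj, le_conj_iff, inv_inv]; exact h
  have h2 : 2 ∣ 𝐨(L ^ᵍ g⁻¹) := by
    rw [card_conj]
    exact even_of_perf c.cl.perf fun e => c.cl.t1 (mem_bot.1 (e ▸ c.cl.tL))
  have v := c.dh.v4
  have h3 : L ≤ L ^ᵍ g⁻¹ := by
    rcases c.gf.dc.meet v ((V4.le_iff.2 ⟨c.cl.tL, c.sL⟩).trans h1) h2 with e | e | e
    exacts [c.cl.le_of_invol h1 c.cl.tL e v.t1 v.tt, c.cl.le_of_invol h1 c.sL e v.s1 v.ss,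
      c.cl.le_of_invol h1 (mul_mem c.cl.tL c.sL) e v.ts1 v.tsts]
  rw [le_conj_iff, inv_inv] at h3
  exact mem_norm_of_conj_le h3

theorem ti {p : ℕ} (hp : p.Prime) {z g : G} (hz : z ∈ pCoreOf p U ⊓ 𝐂(L)) (z1 : z ≠ 1)
    (hg : g * z * g⁻¹ ∈ pCoreOf p U ⊓ 𝐂(L)) : g ∈ 𝐍(L) := by
  refine c.le_of_conj (le_trans ?_ ((P5.Mx.cent1_le_norm_zpowers _).trans
    (c.nxp hp (zpowers_le.2 hg) (zpowers_ne_bot.2 (mt conj_eq_one_iff.1 z1)))))
  rw [cent1_conj]; exact conj_mono (mem_cent_iff_cent1.1 hz.2) g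

theorem dprod {p : ℕ} (hp : p.Prime) :
    DProd (pCoreOf p U ⊓ 𝐂(L)) (K ⊓ pCoreOf p U) (pCoreOf p U ⊓ 𝐍(L)) where
  sup := le_antisymm (sup_le (inf_le_inf_left _ (cent_le_norm L))
    (le_inf inf_le_right (inf_le_left.trans (c.KL.trans (le_norm_self L))))) fun g hg => by
      obtain ⟨b, hb, a, ha, rfl⟩ := c.dec p hp g hg
      exact mul_mem_sup hb ha
  cent := inf_le_left.trans (c.KL.trans (cent_comm.1 inf_le_right))
  disj := eq_bot_iff.2 fun _ ha => c.eq_one ha.2.1 ha.1.2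

theorem rank_le {p : ℕ} (hp : p.Prime) :
    pRank p (pCoreOf p U ⊓ 𝐂(L)) ≤ pRank p (K ⊓ pCoreOf p U) := by
  have hQ := H2.isPGroup_pCoreOf p U
  obtain ⟨g, h1, h2⟩ : ∃ g ∈ 𝐍((pCoreOf p U ⊓ 𝐍(L) : Subgroup G)), g ∉ 𝐍(L) := by
    by_cases e : pCoreOf p U ≤ 𝐍(L)
    · obtain ⟨g, h1, h2⟩ := SetLike.not_le_iff_exists.1 c.nH
      exact ⟨g, by rw [inf_of_le_left e]; exact c.dh.H_norm p h1, h2⟩
    · obtain ⟨g, h1, h2⟩ := SetLike.exists_of_lt (lt_inf_norm_of_isNilpotent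
        (isNilpotent_of_isPGroup hp hQ) (inf_lt_left.2 e))
      exact ⟨g, h1.2, fun e => h2 ⟨h1.1, e⟩⟩
  have h3 := (c.dprod hp).normal_left
  have h4 := ((c.dprod hp).conj g).normal_left
  rw [conj_eq_of_mem_norm h1] at h4
  have h5 := (dProd_of_normal (h4.1.trans h3.2) (h3.1.trans h4.2) (eq_bot_iff.2 fun y hy => by
    obtain ⟨z, hz, rfl⟩ := mem_conj'.1 hy.2
    by_contra e
    exact h2 (c.ti hp hz (fun e' => e (by simp [e'])) hy.1))).pRank_eq hp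
  have h6 := pRank_mono hp (sup_le h3.1 h4.1)
  rw [h5, (c.dprod hp).pRank_eq hp, pRank_conj hp] at h6
  exact Nat.le_of_add_le_add_left h6

theorem norm_P (p : ℕ) : 𝐍(L) ≤ 𝐍((pCoreOf p U ⊓ 𝐂(L) : Subgroup G)) := fun g hg => by
  obtain ⟨l, hl, h, hh, rfl⟩ := c.cl.frattini hg
  exact mul_mem (cent_le_norm _ (cent_comm.1 inf_le_right hl)) (P5.mem_norm_inf
    (c.dh.H_norm p hh.2) (H1.normalizer_le_normalizer_centralizer L hh.1))

theorem td {k l : ℕ} (c2 : CL2 𝐍(L) L K t k l) : ∃ a b p, TD U L K y t s a b w p k l := by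
  obtain ⟨p, hp, ne⟩ := c.exists_p
  have hQ := H2.isPGroup_pCoreOf p U
  have p2 : p ≠ 2 := c.dh.ne_two fun e => ne (by rw [e, bot_inf_eq])
  have eP := c.grow hp ne c.sL (c.fld hp)
  have cK : IsCyclic (K ⊓ pCoreOf p U : Subgroup G) := isCyclic_of_le inf_le_left c.cl.cyc
  have cP := isCyclic_of_pRank_le_one hp p2 (hQ.to_le inf_le_left)
    ((c.rank_le hp).trans (pRank_le_one_of_isCyclic hp cK))
  have dP := prime_dvd_card_of_isPGroup hp (hQ.to_le inf_le_left) ne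
  have dK := (pRank_pos_iff hp).1 (((pRank_pos_iff hp).2 dP).trans_le (c.rank_le hp))
  obtain ⟨a, ha, oa⟩ := exists_mem_orderOf_eq_prime hp dK
  obtain ⟨b, hb, ob⟩ := exists_mem_orderOf_eq_prime hp dP
  have b1 : zpowers b ≠ ⊥ := ne_bot_of_card_prime (by rwa [Nat.card_zpowers, ob])
  refine ⟨a, b, p, c.gf, c.dh, c.co, c.cl, c2, c.sL, hp, p2, eP ▸ inf_le_right, eP ▸ cP, ha, oa,
    eP ▸ hb, ob, c.nx, le_antisymm (c.nxp hp (zpowers_le.2 hb) b1) ((c.norm_P p).trans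
      (norm_le_norm_of_le_cyclic cP (zpowers_le.2 hb))), c.dec, fun g hg gp => ?_, c.nH⟩
  obtain ⟨d, hd, e, he, rfl⟩ := c.dec p hp g hg
  rw [((c.dprod hp).commute hd he).mul_pow, mul_eq_one_iff_eq_inv] at gp
  have h1 : d ^ p = 1 := mem_bot.1 ((c.dprod hp).disj ▸ mem_inf.2
    ⟨pow_mem hd p, gp ▸ inv_mem (pow_mem he p)⟩)
  rw [h1, eq_comm, inv_eq_one] at gp
  rw [sup_comm, eq_omegaOne_of_isCyclic hp cP (zpowers_le.2 hb) (by rw [Nat.card_zpowers, ob]),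
    eq_omegaOne_of_isCyclic hp cK (zpowers_le.2 ha) (by rw [Nat.card_zpowers, oa])]
  exact mul_mem_sup (mem_omegaOne hd h1) (mem_omegaOne he gp)

/-- No element of order four of `L` inverted by `s` inverts `K`. -/
theorem false_of_four {z : G} (zL : z ∈ L) (zz : z * z = t) (sz : s * z * s = z⁻¹)
    (iz : ∀ a ∈ K, z * a * z⁻¹ = a⁻¹) : False := by
  have := c.gf.simple
  obtain ⟨p, hp, ne⟩ := c.exists_p
  have hQ := H2.isPGroup_pCoreOf p U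
  have v := c.dh.v4
  have zt : z ∈ 𝐂[t] := mem_cent1_iff_commute.2 (zz ▸ (Commute.refl z).mul_left (Commute.refl z))
  have jj : s * z * (s * z) = 1 := by rw [← mul_assoc, sz, inv_mul_cancel]
  have jL : s * z ∈ L := mul_mem c.sL zL
  have jH : s * z ∈ 𝐂[t] := mul_mem c.dh.sH.2 zt
  have z2 : ¬ Commute s z := fun e => v.t1 (zz ▸ sq_of_comm_of_inv v.ss sz e)
  have v' : V4 t (s * z) := ⟨v.t1, fun e => z2 (by
      rw [eq_inv_of_mul_eq_one_right e]; exact (Commute.refl s).inv_right),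
    fun e => z2 (by
      rw [← inv_mul_eq_iff_eq_mul.2 e]
      exact (Commute.refl s).inv_right.mul_right v.comm.symm),
    v.tt, jj, mem_cent1_iff_commute.1 jH⟩
  have jR : ∀ r : ℕ, r.Prime → pCoreOf r U ⊓ 𝐍(L) ≤ 𝐂[s * z] := fun r hr g hg => by
    obtain ⟨b, hb, e, he, rfl⟩ := c.dec r hr g hg
    refine mul_mem (cent_le_cent1 jL hb.2) (mem_cent1_comm.1 (mem_cent1_iff_conj.2 ?_))
    rw [mul_inv_rev, inv_eq_of_sq v.ss, show s * z * e * (z⁻¹ * s) = s * (z * e * z⁻¹) * s by group,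
      iz e he.1, c.inv _ (inv_mem he.1), inv_inv]
  have es := c.grow hp ne c.sL (c.fld hp)
  have ez := c.grow hp ne zL fun g hg => by
    obtain ⟨b, hb, e, he, rfl⟩ := c.dec p hp g hg.1
    rw [eq_one_of_inv c.cl.odd he.1 (mem_cent1_iff_commute.1
      ((mul_mem_cancel_left (cent_le_cent1 zL hb.2)).1 hg.2)) (iz e he.1), mul_one]
    exact hb.2
  have PW : pCoreOf p U ⊓ 𝐂(L) ≤ pCoreOf p U ⊓ 𝐂[s * z] := inf_le_inf_left _ (cent_le_cent1 jL)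
  have jQ : pCoreOf p U ≤ 𝐂[s * z] := by
    by_contra e
    refine (lt_inf_norm_of_isNilpotent (isNilpotent_of_isPGroup hp hQ) (inf_lt_left.2 e)).not_ge ?_
    have sW : s ∈ 𝐍((pCoreOf p U ⊓ 𝐂[s * z] : Subgroup G)) := mem_norm_of_conj_le fun _ hq' => by
      obtain ⟨q, hq, rfl⟩ := mem_conj'.1 hq'
      have k1 := (mem_normalizer_iff.1 (c.dh.H_norm p c.dh.sH.2) q).1 hq.1
      refine ⟨k1, mem_cent1_iff_commute.2 ?_⟩
      have k2 : s * z = t * (s * (s * z) * s⁻¹) := by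
        rw [← mul_assoc s s, v.ss, one_mul, inv_eq_of_sq v.ss, ← mul_assoc, ← mul_inv_eq_iff_eq_mul,
          inv_eq_of_sq v.ss, sz, inv_eq_iff_mul_eq_one, ← mul_assoc,
          (mem_cent1_iff_commute.1 zt).symm.eq, mul_assoc, zz, v.tt]
      rw [k2]
      exact (mem_cent1_iff_commute.1 (c.Qt p k1)).mul_left
        ((mem_cent1_iff_commute.1 hq.2).conj s)
    have jW : s * z ∈ 𝐍((pCoreOf p U ⊓ 𝐂[s * z] : Subgroup G)) :=
      cent_le_norm _ (mem_cent_iff_cent1.2 inf_le_right)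
    have k3 : s * (s * z) = z := by rw [← mul_assoc, v.ss, one_mul]
    refine le_of_fix (P5.Mx.odd_of_le inf_le_left (c.odd p)) inf_le_right v.ss jj
      (P5.mem_norm_inf (c.dh.H_norm p c.dh.sH.2) (le_norm_self _ sW))
      (P5.mem_norm_inf (c.dh.H_norm p jH) (le_norm_self _ jW)) (mul_mem sW jW)
      ((inf_le_inf_right _ inf_le_left).trans (es ▸ PW)) (inf_le_inf_right _ inf_le_left)
      (k3.symm ▸ (inf_le_inf_right _ inf_le_left).trans (ez ▸ PW)) ?_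
    rw [k3, show 2 ^ 2 = 2 * 2 from rfl, pow_mul, sq z, zz, sq, v.tt]
  obtain ⟨y', h'⟩ := c.dh.of_H trivial v'
  refine h'.not_le_cent c.co (fun e => ne (eq_bot_iff.2
    (inf_le_left.trans (e ▸ H2.pCoreOf_le p U)))) (c.dh.le_cent_of_fit jj (c.dh.HU' jH)
      (P5.Mx.fittingOf_le_of fun r hr => ?_))
  by_cases e : r = p
  · exact e ▸ jQ
  exact (le_inf le_rfl ((P5.Mx.pCoreOf_le_cent hr hp e U).trans ((cent_anti inf_le_left).trans
    ((cent_le_norm _).trans (c.nxp hp le_rfl ne))))).trans (jR r hr)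

end TB

/-- In the `A₇` case there is an involution inverting `K` and an element of order four. -/
theorem CL.exists_s {R L K : Subgroup G} {t z : G} (c : CL R L K t) (dc : DC G) (h3 : 𝐨(K) = 3)
    (zL : z ∈ L) (zz : z * z = t) (iz : ∀ a ∈ K, z * a * z⁻¹ = a⁻¹) :
    ∃ s ∈ L, V4 t s ∧ s * z * s = z⁻¹ ∧ ∀ a ∈ K, s * a * s = a⁻¹ := by
  obtain ⟨s, sL, v⟩ := c.ex
  have zt : z ∈ 𝐂[t] := mem_cent1_iff_commute.2 (zz ▸ (Commute.refl z).mul_left (Commute.refl z))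
  obtain ⟨T, hT, zT⟩ := exists_isSyl_ge Nat.prime_two (H1.isPGroup_zpowers_of_pow_eq_one
    (g := z) (k := 2) (by rw [show 2 ^ 2 = 2 * 2 from rfl, pow_mul, sq z, zz, sq, v.tt]))
    (zpowers_le.2 (mem_inf.2 ⟨zL, zt⟩))
  obtain ⟨g, hg, hle⟩ := hT.exists_conj_le Nat.prime_two (P4.isPGroup_zpowers_of_sq v.ss)
    (zpowers_le.2 (mem_inf.2 ⟨sL, mem_cent1_iff_commute.2 v.comm⟩))
  have sT := hle (conj_mem_conj (mem_zpowers s) g)
  have v1 := V4.cj v g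
  rw [mem_cent1_iff_conj.1 hg.2] at v1
  generalize g * s * g⁻¹ = j at sT v1
  obtain ⟨d, hd⟩ := dc.dd hT.pgrp
  have zd : z ∈ zpowers d := by
    by_contra e
    exact v.t1 (zz ▸ hd.sq z (zT (mem_zpowers z)) e)
  have jd : j ∉ zpowers d := fun e =>
    (Dd.uniq e (zz ▸ mul_mem zd zd) v1.ss v.tt v.t1).elim v1.s1 v1.ts.symm
  have jz := hd.invz sT jd zd
  have jLH := hT.le sT
  rcases inf_eq_bot_or_le_of_card_prime (X := K) (h3 ▸ Nat.prime_three) 𝐂[j] with e | e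
  · exact ⟨j, jLH.1, v1, jz, Cfsg.Agent.L.inverts_of_fpf v1.ss (c.nK ⟨c.LR jLH.1, jLH.2⟩) fun a ha hc =>
      mem_bot.1 (e.le ⟨ha, mem_cent1_iff_commute.2 hc⟩)⟩
  have z2 : ¬ Commute j z := fun e => v.t1 (zz ▸ sq_of_comm_of_inv v1.ss jz e)
  have jj : j * z * (j * z) = 1 := by rw [← mul_assoc, jz, inv_mul_cancel]
  refine ⟨j * z, mul_mem jLH.1 zL, ⟨v.t1, fun e => z2 (by
      rw [eq_inv_of_mul_eq_one_right e]; exact (Commute.refl j).inv_right),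
    fun e => z2 (by
      rw [← inv_mul_eq_iff_eq_mul.2 e]
      exact (Commute.refl j).inv_right.mul_right v1.comm.symm),
    v.tt, jj, mem_cent1_iff_commute.1 (mul_mem jLH.2 zt)⟩, ?_, fun a ha => ?_⟩
  · rw [← mul_assoc, mul_assoc j z z, hd.invz sT jd (mul_mem zd zd)]; group
  · nth_rw 2 [← inv_eq_of_sq jj]
    rw [mul_inv_rev, show j * z * a * (z⁻¹ * j⁻¹) = j * (z * a * z⁻¹) * j⁻¹ by group, iz a ha,
      mem_cent1_iff_conj.1 (mem_cent1_comm.1 (e (inv_mem ha)))]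

theorem b2Stmt : B2Stmt.{u} := by
  intro G _ _ gf U y t s w h co hF
  have := gf.simple
  simp only [FC, not_forall, not_not] at hF
  obtain ⟨R, ⟨X, hX, X1, hR, hN, ht⟩, hmax⟩ := Set.exists_max_image {R : Subgroup G |
    ∃ X ≤ fittingOf U, X ≠ ⊥ ∧ IsCoatom R ∧ 𝐍(X) ≤ R ∧ t ∈ layerOf R} (fun R => 𝐨(layerOf R))
    (Set.toFinite _) (by
      obtain ⟨X, a, b, R, c, d, e⟩ := hF
      exact ⟨R, X, a, b, c, d, e⟩)
  obtain ⟨K, cl, hc⟩ := gf.kc R hR.1 t ht h.t1 h.tt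
  have e := P5.Mx.norm_eq hR (fun e => h.t1 (mem_bot.1 (e ▸ ht))) cl.LR cl.nL
  generalize layerOf R = L at cl hc e hmax
  subst e
  have key : ∀ j ∈ L, V4 t j → (∀ a ∈ K, j * a * j = a⁻¹) → ∃ y', TB U L K y' t j w := by
    intro j jL v hj
    obtain ⟨y', h'⟩ := h.of_H trivial v
    refine ⟨y', gf, h', co, cl, jL, hj, hR, fun Y hY Y1 => ?_, X, hX, X1, hN⟩
    have hY' := hY.trans inf_le_left
    obtain ⟨R', hR', k2⟩ := P5.Mx.exists_coatom_norm co.1 Y1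
      (hY'.trans ((H2.fittingOf_le U).trans h.Ut))
    have k3 : L ≤ R' := (cent_comm.1 (hY.trans inf_le_right)).trans ((cent_le_norm _).trans k2)
    obtain ⟨x, xL, tri⟩ := cl.tri j jL v
    have k4 := cl.le_layer gf.dc k3 (h.lay_tri hY' Y1 k2 gf co hR' v (k3 xL) tri)
    rw [H1.eq_of_le_of_card_le k4 (hmax R' ⟨Y, hY', Y1, hR', k2, k4 cl.tL⟩)]
    exact k2.trans (H2.le_normalizer_layerOf R')
  rcases hc with ⟨k, l, c2⟩ | c7
  · obtain ⟨j, jL, v⟩ := cl.ex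
    obtain ⟨y', c⟩ := key j jL v (c2.inv j (cl.LR jL) v)
    obtain ⟨a, b, p, td⟩ := c.td c2
    exact ⟨L, K, y', j, a, b, p, k, l, td⟩
  · obtain ⟨z, zL, zz⟩ := c7.ex4
    have iz := c7.inv4 z (cl.LR zL) zz
    obtain ⟨j, jL, v, jz, hj⟩ := cl.exists_s gf.dc c7.card zL zz iz
    obtain ⟨y', c⟩ := key j jL v hj
    exact (c.false_of_four zL zz jz iz).elim

end Cfsg.Agent.P15
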