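/-
P15: the component data for `L = π(SL₂(F))`.
-/
import Cfsg.Agent.P15.BarL
import Cfsg.Agent.P15.Bas0
import Cfsg.Agent.H6.PiElem

set_option autoImplicit false
set_option linter.unusedSectionVars false

namespace Cfsg.Agent.P15

open Matrix Subgroup Cfsg Cfsg.Agent Cfsg.Agent.FT Cfsg.Agent.H4.SL2 Cfsg.Agent.P4 OnePoint
open Cfsg.Agent.L (mkSL2 sl2Perm)
open Cfsg.Agent.P5 (V4 Tri)
open Cfsg.Agent.P7 (Cov Ab PU sle)
open scoped commutatorElement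

universe u

namespace CLL

variable {X : Type u} [Group X] [Finite X] {F : Type} [Field F] {π : SL F →* X} {L : Subgroup X}

theorem conj_J (hc : Cov π L) {x : SL F} (h : tr x = 0) :
    ∃ g : SL F, g * mkSL2 0 (-1) 1 0 (by ring) * g⁻¹ = x := by
  haveI := hc.finite
  have hd := det_eq x
  have e : x 1 1 = -x 0 0 := by rw [tr] at h; linear_combination h
  obtain ⟨u, w, hu⟩ : ∃ u w : F, x 1 0 * u ^ 2 - 2 * x 0 0 * u * w - x 0 1 * w ^ 2 = 1 := by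
    rw [e] at hd
    by_cases c0 : x 1 0 = 0
    · have a0 : x 0 0 ≠ 0 := fun a => by simp [a, c0] at hd
      have := hc.two_ne
      exact ⟨-(1 + x 0 1) / (2 * x 0 0), 1, by rw [c0]; field_simp; ring⟩
    · obtain ⟨a, b, hab⟩ := P3.exists_sq_add_sq hc.odd (x 1 0)
      refine ⟨(a + x 0 0 * b) / x 1 0, b, ?_⟩
      field_simp
      linear_combination hab + b ^ 2 * hd
  refine ⟨mkSL2 u (x 0 0 * u + x 0 1 * w) w (x 1 0 * u - x 0 0 * w) (by linear_combination hu),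
    mul_inv_eq_iff_eq_mul.2 ?_⟩
  rw [e] at hd
  apply P7.sl_ext <;> simp only [sle, e]
  · ring
  · linear_combination u * hd
  · ring
  · linear_combination w * hd

theorem conj (hc : Cov π L) {t j : X} (tL : t ∈ L) (t1 : t ≠ 1) (tt : t * t = 1) (jL : j ∈ L)
    (j1 : j ≠ 1) (jj : j * j = 1) : ∃ g ∈ L, g * t * g⁻¹ = j := by
  have key : ∀ x, π x ≠ 1 → π x * π x = 1 → tr x = 0 := fun x a b =>
    tr_of_sq_mem_center (mt hc.eq_one_iff.2 a) (by rwa [← hc.eq_one_iff, map_mul])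
  obtain ⟨x, rfl⟩ := hc.exists_eq tL
  obtain ⟨y, rfl⟩ := hc.exists_eq jL
  obtain ⟨g, rfl⟩ := conj_J hc (key x t1 tt)
  obtain ⟨g', rfl⟩ := conj_J hc (key y j1 jj)
  exact ⟨_, hc.mem (g' * g⁻¹), by simp only [map_mul, map_inv]; group⟩

theorem tri0 (dc : DC X) {t s : X} (v : V4 t s) (h1 : ∃ g, g * t * g⁻¹ = s)
    (h2 : ∃ g, g * t * g⁻¹ = t * s) : ∃ x, Tri x t s := by
  obtain ⟨g, e⟩ := h1
  obtain ⟨g', e'⟩ := h2
  obtain ⟨n, hn, a⟩ := BL.fuse dc v e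
  obtain ⟨m, hm, b⟩ := BL.fuse dc (V4.mul v) e'
  rw [VV_mul] at hm
  have st : s * t = t * s := v.comm.eq.symm
  rcases v.mem_iff.1 ((mem_normalizer_iff.1 hn s).1 V4.s_mem) with c | c | c | c
  · exact absurd (conj_eq_one_iff.1 c) v.s1
  · rcases v.mem_iff.1 ((mem_normalizer_iff.1 hm s).1 V4.s_mem) with d | d | d | d
    · exact absurd (conj_eq_one_iff.1 d) v.s1
    · refine ⟨m⁻¹, by rw [← d]; group, ?_⟩
      have : m * (t * s) * m⁻¹ = s := by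
        rw [← conj_mul, b, d, mul_assoc, st, ← mul_assoc, v.tt, one_mul]
      nth_rewrite 1 [← this]; group
    · refine ⟨m * n, ?_, ?_⟩
      · calc _ = m * (n * t * n⁻¹) * m⁻¹ := by group
          _ = s := by rw [a, d]
      · calc _ = m * (n * s * n⁻¹) * m⁻¹ := by group
          _ = t * s := by rw [c, b]
    · exact absurd (by simpa using b.trans d.symm) v.ts
  · exact absurd (by simpa using a.trans c.symm) v.ts
  · exact ⟨n, a, c⟩

theorem tri (dc : DC X) (hc : Cov π L) {t s : X} (v : V4 t s) (tL : t ∈ L) (sL : s ∈ L) :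
    ∃ x ∈ L, Tri x t s := by
  obtain ⟨g, hg, e⟩ := conj hc tL v.t1 v.tt sL v.s1 v.ss
  obtain ⟨g', hg', e'⟩ := conj hc tL v.t1 v.tt (mul_mem tL sL) v.ts1 v.tsts
  obtain ⟨x, hx⟩ := tri0 (dc.subgroup L) (v.subtype tL sL) ⟨⟨g, hg⟩, Subtype.ext e⟩
    ⟨⟨g', hg'⟩, Subtype.ext e'⟩
  exact ⟨x, x.2, hx.map L.subtype⟩

section
variable [DecidableEq F]

theorem fix_iff (c y : SL F) :
    sl2Perm F y (sl2Perm F c ∞) = sl2Perm F c ∞ ↔ (c⁻¹ * y * c) 1 0 = 0 := by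
  rw [← P7.fix_infty, map_mul, map_mul, map_inv, Equiv.Perm.mul_apply, Equiv.Perm.mul_apply,
    Equiv.Perm.inv_eq_iff_eq]

theorem fix_of_comm {y w : SL F} (hy : y ∉ center (SL F)) (hw : w ∈ 𝐂[y]) {ω : OnePoint F}
    (h : sl2Perm F y ω = ω) : sl2Perm F w ω = ω := by
  obtain ⟨c, rfl⟩ := P7.exists_infty ω
  rw [fix_iff] at h ⊢
  have h1 : c⁻¹ * y * c ∉ center (SL F) := fun e => hy (by
    simpa [mul_assoc] using (inferInstance : (center (SL F)).Normal).conj_mem _ e c)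
  obtain ⟨z, hz⟩ := exists_psi h1 (Y := (c⁻¹ * w * c).1) (val_congr (x := c⁻¹ * w * c * (c⁻¹ * y * c))
    (y := c⁻¹ * y * c * (c⁻¹ * w * c)) (by
      simpa using ((mem_cent1_iff_commute.1 hw).conj c⁻¹).symm.eq))
  have := congrFun (congrFun hz 1) 0
  change _ = (c⁻¹ * w * c) 1 0 at this
  rw [← this, psi_apply]
  change z.re * (1 : Matrix (Fin 2) (Fin 2) F) 1 0 + z.im * (c⁻¹ * y * c) 1 0 = 0
  rw [h]; simp

theorem borel (hc : Cov π L) (ω : OnePoint F) :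
    {j | j ≠ 1 ∧ j * j = 1 ∧ ∃ w, π w = j ∧ sl2Perm F w ω = ω}.ncard ≤ Nat.card F := by
  haveI := hc.finite
  obtain ⟨c, rfl⟩ := P7.exists_infty ω
  by_cases h : ∃ i : F, i * i = -1
  · obtain ⟨i, hi⟩ := h
    rw [← Set.ncard_univ]
    refine (Set.ncard_le_ncard (t := (fun b : F => π (c * mkSL2 i b 0 (-i) (by
      linear_combination -hi) * c⁻¹)) '' Set.univ) ?_).trans (Set.ncard_image_le)
    rintro _ ⟨j1, jj, w, rfl, hw⟩
    rw [fix_iff] at hw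
    have h0 := tr_of_sq_mem_center (mt hc.eq_one_iff.2 j1) (by rwa [← hc.eq_one_iff, map_mul])
    rw [← tr_conj c⁻¹, inv_inv, tr] at h0
    obtain ⟨v, rfl⟩ : ∃ v, w = c * v * c⁻¹ := ⟨c⁻¹ * w * c, by group⟩
    rw [show c⁻¹ * (c * v * c⁻¹) * c = v by group] at hw h0
    have hd := det_eq v
    have h1 : (v 0 0 - i) * (v 0 0 + i) = 0 := by
      linear_combination v 0 0 * h0 - hd - v 0 1 * hw - hi
    rcases mul_eq_zero.1 h1 with e | e
    · refine ⟨v 0 1, trivial, congrArg (fun z => π (c * z * c⁻¹)) ?_⟩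
      apply P7.sl_ext <;> simp only [sle, hw]
      · linear_combination -e
      · linear_combination e - h0
    · refine ⟨-v 0 1, trivial, ?_⟩
      simp only [map_mul]
      congr 2
      rw [hc.eq_iff, mem_center_iff']
      simp only [sle, hw]
      exact ⟨by linear_combination v 0 1 * h0 - v 0 1 * e, by ring, by linear_combination -i * h0⟩
  · rw [Set.eq_empty_of_forall_notMem (s := {j | j ≠ 1 ∧ j * j = 1 ∧ ∃ w, π w = j ∧
      sl2Perm F w (sl2Perm F c ∞) = sl2Perm F c ∞}), Set.ncard_empty]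
    · exact Nat.zero_le _
    rintro _ ⟨j1, jj, w, rfl, hw⟩
    obtain ⟨i, hi⟩ := P7.isSquare_of_fix (tr_of_sq_mem_center (mt hc.eq_one_iff.2 j1)
      (by rwa [← hc.eq_one_iff, map_mul])) hw
    exact h ⟨i, hi.symm⟩

theorem two_pts {y : SL F} (hy : y ∉ center (SL F)) :
    ∃ a b, ∀ ω, sl2Perm F y ω = ω → ω = a ∨ ω = b := by
  by_contra! h
  obtain ⟨a, ha, -⟩ := h ∞ ∞
  obtain ⟨b, hb, ba, -⟩ := h a a
  obtain ⟨c, hc, ca, cb⟩ := h a b
  exact hy (P7.center_of_three ba.symm ca.symm cb.symm ha hb hc)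

theorem odd_sub (hc : Cov π L) {M : Subgroup X} (hM : M ≤ L) (ho : Odd 𝐨(M)) (h1 : M ≠ ⊥) :
    (∃ z, π z ≠ 1 ∧ M ≤ Ab π z) ∨ ∃ ω, ∀ y, π y ∈ M → sl2Perm F y ω = ω := by
  haveI := (Subgroup.nontrivial_iff_ne_bot M).2 h1
  haveI := feit_thompson M ho
  obtain ⟨N, hN⟩ := Agent.L.exists_isMinNormal (G := M)
  haveI := hN.isMulCommutative_of_isSolvable
  obtain ⟨a, ha, a1⟩ := (N.bot_or_exists_ne_one).resolve_left hN.2.1
  have a1' : (a : X) ≠ 1 := fun e => a1 (Subtype.ext e)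
  obtain ⟨z, hz⟩ := hc.exists_eq (hM a.2)
  have z1 : π z ≠ 1 := hz ▸ a1'
  have h4 : ∀ g ∈ M, g * π z * g⁻¹ ∈ Ab π z := fun g hg => by
    rw [← hc.cent_eq fun e => a1' (P5.eq_one_of_odd ho a.2 (hz ▸ e)), hz]
    refine ⟨hM (mul_mem (mul_mem hg a.2) (inv_mem hg)), mem_cent1.2 ?_⟩
    exact congrArg Subtype.val (mem_centralizer_iff.1 (N.le_centralizer
      (hN.1.conj_mem a ha ⟨g, hg⟩)) a ha)
  rcases hc.cases z1 with ⟨ht, -, -⟩ | ⟨-, h2⟩
  · obtain ⟨j, -, jj, -, inv, hj⟩ := hc.exists_inv z1 ht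
    refine Or.inl ⟨z, z1, fun g hg => (hj _ (hc.self_mem z) z1 g (hM hg) (h4 g hg)).elim id
      fun h5 => ?_⟩
    have h6 := inv _ h5
    rw [← mul_assoc, jj, one_mul, _root_.mul_inv_rev, mul_left_inj] at h6
    rw [P5.eq_one_of_odd ho hg (mul_eq_one_iff_eq_inv.2 h6)]
    exact one_mem _
  · have h3 := hc.Ab_uni (one_ne_zero (α := F))
    obtain ⟨r, hr⟩ := hc.odd
    have h5 := hc.card_L
    obtain ⟨c, cL, e⟩ := hc.conj_of_coprime z1 (mt hc.uni_eq_one.1 one_ne_zero) h2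
      (by rw [h3, hc.card_PU]) (m' := r * (Nat.card F + 1))
      (by rw [hr] at h5 ⊢; rw [Nat.add_sub_cancel] at h5; linarith)
      (Nat.Coprime.mul_right (by rw [hr]; simp) (by simp))
    obtain ⟨γ, rfl⟩ := hc.exists_eq cL
    rw [h3] at e
    refine Or.inr ⟨sl2Perm F γ⁻¹ ∞, fun y hy => ?_⟩
    rw [fix_iff, inv_inv, ← hc.mem_norm_PU]
    refine hc.tiP (e ▸ conj_mem_conj (hc.self_mem z) (π γ)) (mt conj_eq_one_iff.1 z1) (hc.mem _)
      (le_normalizer ?_)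
    have := conj_mem_conj (h4 _ hy) (π γ)
    rw [e] at this
    convert this using 1
    simp only [map_mul, map_inv]; group

end

theorem good (hL : 𝐂(L) = ⊥) (hc : Cov π L) (hs : Sem π L) {x : SL F} (t1 : π x ≠ 1)
    (tt : π x * π x = 1) {a : X} (ha : a ∈ Ab π x) (aa : a * a ≠ 1) :
    {j | ∃ g ∈ L, g * π x * g⁻¹ = j ∧ Odd 𝐨(closure ({a, g * a * g⁻¹} : Set X))}.ncard ≤
      2 * Nat.card F + 1 := by
  classical
  obtain ⟨y, hy, rfl⟩ := ha
  have y1 : π y ≠ 1 := fun e => aa (by rw [e, one_mul])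
  have y2 := mt hc.eq_one_iff.2 y1
  obtain ⟨ω₁, ω₂, h⟩ := two_pts y2
  have at' : π y ∈ 𝐂[π x] := hc.Ab_le_cent x ⟨y, hy, rfl⟩
  let I := fun ω => {j | j ≠ 1 ∧ j * j = 1 ∧ ∃ w, π w = j ∧ sl2Perm F w ω = ω}
  refine (Set.ncard_le_ncard (t := insert (π x) (I ω₁ ∪ I ω₂)) ?_).trans
    ((Set.ncard_insert_le _ _).trans (Nat.succ_le_succ ((Set.ncard_union_le _ _).trans ?_)))
  swap
  · have := borel hc ω₁
    have := borel hc ω₂
    simp only [I]; omega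
  rintro _ ⟨g, hg, rfl, ho⟩
  have j1 : g * π x * g⁻¹ ≠ 1 := mt conj_eq_one_iff.1 t1
  have jj : g * π x * g⁻¹ * (g * π x * g⁻¹) = 1 := by rw [conj_mul, tt, mul_one, mul_inv_cancel]
  have m1 : π y ∈ closure ({π y, g * π y * g⁻¹} : Set X) := subset_closure (by simp)
  have m2 : g * π y * g⁻¹ ∈ closure ({π y, g * π y * g⁻¹} : Set X) := subset_closure (by simp)
  have bL : g * π y * g⁻¹ ∈ L := mul_mem (mul_mem hg (hc.mem y)) (inv_mem hg)
  rcases odd_sub hc (V4.le_iff.2 ⟨hc.mem y, bL⟩) ho (fun e => y1 (mem_bot.1 (e ▸ m1))) with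
    ⟨z, z1, hz⟩ | ⟨ω, hω⟩
  · exact Or.inl (BL.uniq hc hL hs j1 jj t1 tt bL (by rw [cent1_conj]; exact conj_mem_conj at' g)
      (BL.cent_le hc hs tt (hc.mem y) at' aa
        ⟨bL, mem_cent1_iff_commute.2 (hc.Ab_comm z1 (hz m1) (hz m2))⟩)
      (by rw [conj_mul]; exact mt conj_eq_one_iff.1 aa))
  · obtain ⟨γ, rfl⟩ := hc.exists_eq hg
    have h1 : sl2Perm F (γ * x * γ⁻¹) ω = ω := fix_of_comm (y := γ * y * γ⁻¹) (fun e => y2 (by
      simpa [mul_assoc] using (inferInstance : (center (SL F)).Normal).conj_mem _ e γ⁻¹))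
      (mem_cent1_iff_commute.2 ((mem_cent1_iff_commute.1 hy).symm.conj γ))
      (hω _ (by rwa [map_mul, map_mul, map_inv]))
    have h2 : π γ * π x * (π γ)⁻¹ ∈ I ω := ⟨j1, jj, _, by rw [map_mul, map_mul, map_inv], h1⟩
    rcases h ω (hω y m1) with rfl | rfl
    exacts [Or.inr (Or.inl h2), Or.inr (Or.inr h2)]

theorem out (hL : 𝐂(L) = ⊥) (hc : Cov π L) (h3 : 3 < Nat.card F) (hs : Sem π L) {t j : X}
    (v : V4 t j) (jL : j ∉ L) : ∃ K ≤ L ⊓ 𝐂[j], Odd 𝐨(K) ∧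
      (2 * 𝐨(K) + 1 = Nat.card F ∨ 2 * 𝐨(K) = Nat.card F + 1) ∧ ∀ a ∈ K, t * a * t = a⁻¹ := by
  obtain ⟨c, cL, cj, cc⟩ := BL.exists_cent hc hL h3 hs v.ss jL
  obtain ⟨y, rfl⟩ := hc.exists_eq cL
  have y1 : π y ≠ 1 := fun e => cc (by rw [e, one_mul])
  have h1 : Ab π y ≤ 𝐂[j] := hc.cent_eq cc ▸ BL.cent_le hc hs v.ss cL cj cc
  have h2 : ∀ a ∈ Ab π y, a * a = 1 → a = 1 := fun a ha aa => by_contra fun a1 =>
    jL (BL.uniq hc hL hs a1 aa v.s1 v.ss cL (mem_cent1_iff_commute.2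
      (hc.Ab_comm y1 ha (hc.self_mem y))) cj cc ▸ hc.Ab_le_L y ha)
  refine ⟨Ab π y, le_inf (hc.Ab_le_L y) h1, Agent.L.odd_card_of_forall_sq h2,
    ((hc.cases y1).resolve_right fun h => ?_).2.2, fun a ha => ?_⟩
  · obtain ⟨γ, hγ⟩ := hs.pg j v.ss
    have e1 := BL.Lf.tr0 hc hL hγ v.s1 v.ss
    obtain ⟨z, hz⟩ := exists_psi (mt hc.eq_one_iff.2 y1)
      (BL.Lf.comm hc hγ (mem_cent1_iff_commute.1 cj) cc)
    have h' := fun i k => congrFun (congrFun hz i) k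
    have h00 := h' 0 0
    have h01 := h' 0 1
    have h10 := h' 1 0
    have h11 := h' 1 1
    simp [psi_apply] at h00 h01 h10 h11
    have hd := det_eq y
    have ht := h.1
    rw [tr] at ht
    refine BL.det_ne γ (mul_left_cancel₀ (mul_ne_zero hc.two_ne hc.two_ne) ?_)
    rw [← h00, ← h11] at e1
    rw [← h00, ← h01, ← h10, ← h11]
    linear_combination (2 * z.re + z.im * (y 0 0 + y 1 1)) * e1 - z.im ^ 2 * ht + 4 * z.im ^ 2 * hd
  · by_cases aa : a * a = 1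
    · rw [h2 a ha aa, mul_one, v.tt, inv_one]
    · exact BL.inverts hc hL hs v.swap (hc.Ab_le_L y ha) (h1 ha) aa

end CLL

open CLL in
theorem cllStmt : CLLStmt.{u} := by
  intro X _ _ F _ π L dc hn hL hc h3 hs t tL t1 tt
  obtain ⟨x, rfl⟩ := hc.exists_eq tL
  have ht := hc.tr_ne_of_invol t1 tt
  obtain ⟨-, cy, hk⟩ := (hc.cases t1).resolve_right fun h => ht h.1
  obtain ⟨j, jL, jj, jA, inv, hj⟩ := hc.exists_inv t1 ht
  have tA := hc.self_mem x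
  have hA : Ab π x ≤ L ⊓ 𝐂[π x] := le_inf (hc.Ab_le_L x) (hc.Ab_le_cent x)
  have key : ∀ g ∈ L ⊓ 𝐂[π x], g ∈ Ab π x ∨ j * g ∈ Ab π x := fun g hg =>
    hj _ tA t1 g hg.1 (by rw [mem_cent1_iff_conj.1 hg.2]; exact tA)
  have jt : j ∈ 𝐂[π x] := mem_cent1_iff_conj.2 (by rw [inv _ tA, P5.inv_eq_of_sq tt])
  have v : V4 (π x) j := ⟨t1, fun e => jA (e ▸ one_mem _), fun e => jA (e ▸ tA), tt, jj,
    mem_cent1_iff_commute.1 jt⟩
  obtain ⟨c, hA'⟩ := P5.Mx.exists_zpowers_eq cy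
  obtain ⟨e, m, om, hm⟩ := Nat.exists_eq_two_pow_mul_odd (n := 𝐨(Ab π x)) Nat.card_pos.ne'
  set K := zpowers (c ^ 2 ^ e) with hK
  have KA : K ≤ Ab π x := zpowers_le.2 (pow_mem (hA' ▸ mem_zpowers c) _)
  have cK : 𝐨(K) = m := by
    rw [← hA', Nat.card_zpowers] at hm
    rw [hK, Nat.card_zpowers, orderOf_pow_of_dvd (by positivity) (hm ▸ Dvd.intro _ rfl), hm,
      Nat.mul_div_cancel_left _ (by positivity)]
  have oK : Odd 𝐨(K) := cK ▸ om
  have memK : ∀ g ∈ L ⊓ 𝐂[π x], Odd (orderOf g) → g ∈ K := fun g hg ho => by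
    have gA : g ∈ Ab π x := (key g hg).elim id fun h5 => by
      have h6 := inv _ h5
      rw [← mul_assoc, jj, one_mul, _root_.mul_inv_rev, mul_left_inj] at h6
      rw [P5.eq_one_of_odd (U := zpowers g) (by rwa [Nat.card_zpowers]) (mem_zpowers g)
        (mul_eq_one_iff_eq_inv.2 h6)]
      exact one_mem _
    obtain ⟨n, rfl⟩ := mem_zpowers_iff.1 (hA' ▸ gA : g ∈ zpowers c)
    refine H8.mem_of_pow_mem_of_coprime ((Nat.coprime_two_right.2 ho).pow_right e) ?_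
    rw [← zpow_natCast, ← _root_.zpow_mul, mul_comm, _root_.zpow_mul, zpow_natCast]
    exact zpow_mem (mem_zpowers _) n
  have sq : ∀ a ∈ K, a ≠ 1 → a * a ≠ 1 := fun a ha a1 e => a1 (P5.eq_one_of_odd oK ha e)
  have e0 : e ≠ 0 := fun h => t1 (P5.eq_one_of_odd (by rw [hm, h]; simpa using om) tA tt)
  obtain ⟨e, rfl⟩ := Nat.exists_eq_succ_of_ne_zero e0
  have h2k : 𝐨(Ab π x) * 2 = 𝐨((L ⊓ 𝐂[π x] : Subgroup X)) := by
    rw [← P7.card_mul_relIndex' hA]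
    have : (Ab π x).relIndex (L ⊓ 𝐂[π x]) = 2 :=
      index_eq_two_iff_exists_notMem_and'.2 ⟨⟨j, jL, jt⟩, jA, fun b => (key b b.2).symm⟩
    rw [this]
  have cL := hc.card_L
  have oq := hc.odd
  have hout := fun j (v : V4 (π x) j) => out hL hc h3 hs v
  have hgood := fun a (ha : a ∈ Ab π x) => good hL hc hs t1 tt ha
  have sim := hc.simple h3
  set k := 𝐨(Ab π x) with hk'
  generalize Nat.card F = q at *
  have ek : 2 ∣ k := hm ▸ (dvd_pow_self 2 e0).mul_right m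
  obtain ⟨l, rfl⟩ : ∃ l, q = k + l := ⟨q - k, by omega⟩
  have ol : Odd l := by rw [Nat.odd_iff] at oq ⊢; omega
  have cL' : 𝐨(L) = k * 2 * ((k + l) * l) := by
    refine Nat.eq_of_mul_eq_mul_left two_pos (cL.trans ?_)
    rcases hk with h | h
    · obtain rfl : l = k + 1 := by omega
      rw [show k + (k + 1) - 1 = 2 * k by omega]; ring
    · rw [show k + l - 1 = 2 * l by omega, mul_assoc, ← h]; ring
  refine ⟨K, k, l, ⟨le_top, by rw [normalizer_eq_top], tL, t1, tt, ?_,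
    fun N hN => (sim N hN).symm.imp_right fun h => by simp [h],
    fun i iL => conj hc tL t1 tt iL, fun s sL w => tri dc hc w tL sL, ⟨j, jL, v⟩, KA.trans hA, oK,
    inferInstance, fun g hg => mem_norm_of_conj_le ?_,
    fun s sL w g hg ho h => memK g ⟨hs.m3 g s ho w.ss h, hg.2⟩ ho,
    fun s sL w _ p hp p2 Y hY pY nY b hb => ?_⟩,
    ⟨by omega, by rw [Nat.odd_iff] at ol; omega, fun T hT => ?_, ?_, ?_, fun i _ w a ha => ?_,
      fun a ha a1 => BL.cent_le hc hs tt (hA (KA ha)).1 (hA (KA ha)).2 (sq a ha a1),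
      fun a ha a1 Z hZ pZ => ?_, fun s sL w => ?_,
      fun a ha pa => hgood a (KA ha) (sq a ha fun e => by simp [e] at pa; exact Nat.not_prime_one pa),
      fun i _ iL w => ?_⟩⟩
  · obtain ⟨z, zL, hz⟩ := tri dc hc v tL jL
    exact (sim _ (der_normal L)).resolve_left fun h1 =>
      hz.not_commute v (mem_cent.1 (comm_eq_bot_iff.1 h1 tL) z zL)
  · rintro _ ⟨a, ha, rfl⟩
    refine memK _ ⟨hn.conj_mem a (hA (KA ha)).1 g, (𝐂[π x]).mul_mem ((𝐂[π x]).mul_mem hg.2 (hA (KA ha)).2)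
      ((𝐂[π x]).inv_mem hg.2)⟩ ?_
    rw [MulEquiv.coe_toMonoidHom, MulEquiv.orderOf_eq]
    exact oK.of_dvd_nat (orderOf_dvd_card_of_mem ha)
  · obtain ⟨y, rfl⟩ := hc.exists_eq sL
    have pw : ∀ b ∈ Y, ∃ n, b ^ p ^ n = 1 := fun b hb =>
      (pY ⟨b, hb⟩).imp fun n h => congrArg Subtype.val h
    rw [hs.fld x y w p hp p2 b (pw b hb.1) (mem_cent1_iff_commute.1 (hY hb.1).2).symm
      (mem_cent1_iff_commute.1 hb.2).symm fun a ha => pw _ (mul_mem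
        ((mem_normalizer_iff.1 (nY (hA ha)) b).1 hb.1) (inv_mem hb.1))]
    exact one_mem _
  · rw [hT.card_eq_pow_factorization Nat.prime_two, cK, cL', hm,
      show 2 ^ e.succ * m * 2 * ((2 ^ e.succ * m + l) * l) =
        2 ^ (e + 2) * (m * ((2 ^ e.succ * m + l) * l)) by rw [Nat.succ_eq_add_one]; ring,
      Nat.factorization_mul (by positivity) (om.mul ((hm ▸ oq).mul ol)).pos.ne',
      Nat.prime_two.factorization_pow, Finsupp.add_apply, Finsupp.single_eq_same,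
      Nat.factorization_eq_zero_of_not_dvd (om.mul ((hm ▸ oq).mul ol)).not_two_dvd_nat,
      Nat.succ_eq_add_one]
    ring
  · rw [cK, hm]
    exact Nat.mul_dvd_mul_right (dvd_pow_self 2 e0) m
  · have := H1.card_inf_mul_relIndex 𝐂[π x] L
    rw [inf_comm, ← h2k, cL'] at this
    exact Nat.eq_of_mul_eq_mul_left (Nat.mul_pos Nat.card_pos two_pos) this
  · by_cases a1 : a = 1
    · rw [a1, mul_one, w.ss, inv_one]
    · exact BL.inverts hc hL hs w (hA (KA ha)).1 (hA (KA ha)).2 (sq a ha a1)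
  · obtain ⟨y, rfl⟩ := hc.exists_eq (hA (KA ha)).1
    rw [hc.cent_eq (sq _ ha a1), hc.Ab_eq t1 a1 (KA ha)] at hZ
    obtain ⟨n, hn⟩ := pZ.exists_card_eq
    exact Nat.le_of_dvd Nat.card_pos (Nat.Coprime.mul_dvd_of_dvd_of_dvd
      (hn ▸ (Nat.coprime_two_left.2 oK).pow_left n) (FT.card_dvd_of_le hZ) (FT.card_dvd_of_le KA))
  · rw [← H6.ncard_conj_orbit, hk', ← SetLike.coe_sort_coe, Nat.card_coe_set_eq]
    refine Set.ncard_le_ncard_of_injOn (j * ·) ?_ (mul_right_injective j).injOn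
    rintro _ ⟨g, hg, rfl⟩
    have w' := V4.cj w g
    rw [mem_cent1_iff_conj.1 hg.2] at w'
    exact (key _ ⟨hn.conj_mem s sL g, mem_cent1_iff_commute.2 w'.comm⟩).resolve_left fun h =>
      (P7.eq_of_invol_cyclic cy tA t1 tt h w'.ss).elim w'.s1 w'.ts.symm
  · obtain ⟨K', h1, h2, h4, h5⟩ := hout i w iL
    refine ⟨K', h1, ?_, h5⟩
    rw [Nat.odd_iff] at h2 ol
    omega

end Cfsg.Agent.P15
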