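/-
P15, chapter Ca, first part: the block of a linear character of `U` when `a` centralizes `U`.
-/
import Cfsg.Agent.P15.Ch5

set_option autoImplicit false
set_option linter.unusedSectionVars false

namespace Cfsg.Agent.P15.Ch

open Subgroup Cfsg Cfsg.Agent Cfsg.Agent.FT Cfsg.Agent.P1
open Cfsg.Agent.P5 (inv_eq_of_sq eq_one_of_odd pow_card_of_mem mul_pow_odd)
open scoped ComplexConjugate commutatorElement

universe u

variable {G : Type u} [Group G] [Finite G]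

/-- `(ψ (1 - ν))^X`. -/
noncomputable def tw (X A : Subgroup G) (ψ ν : G → ℂ) : G → ℂ := ind X A (ψ * (cf1 A - ν))

namespace DH

variable {X U : Subgroup G} {a t s : G} {n : ℕ} (h : DH X U a t s n)
include h

theorem mem_of_odd {g : G} (hg : g ∈ X ⊓ 𝐂[t]) {m : ℕ} (hm : Odd m) (e : g ^ m = 1) : g ∈ U := by
  have := H1.normal_subgroupOf_of_le h.HU
  exact H8.mem_of_coprime_index (N := U.subgroupOf (X ⊓ 𝐂[t])) (g := ⟨g, hg⟩) (by
    rw [orderOf_mk, ← relIndex, h.idx_U]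
    exact ((Nat.coprime_two_right.2 hm).coprime_dvd_left (orderOf_dvd_of_pow_eq_one e)).pow_right _)

theorem eq_t {z : G} (hz : z ∈ X) (z1 : z ≠ 1) (zz : z * z = 1) (c : Commute z a) : z = t := by
  have ha : a ∈ U ⊔ zpowers a := mem_sup_right (mem_zpowers a)
  have h1 : z ∈ X ⊓ 𝐂[t] := ⟨hz, mem_cent1_iff_commute.2 (h.pw ▸ c.symm.pow_left _)⟩
  refine (h.invol ((h.cover z h1).resolve_right fun e => ?_) zz).resolve_left z1
  obtain ⟨u, hu, y, hy, e⟩ := h.dec e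
  have c1 : Commute y a := by obtain ⟨i, rfl⟩ := mem_zpowers_iff.1 hy; exact .zpow_left (.refl a) i
  have e1 : u * a * u⁻¹ = a⁻¹ := by
    rw [eq_mul_inv_of_mul_eq e,
      show s * z * y⁻¹ * a * (s * z * y⁻¹)⁻¹ = s * (z * (y⁻¹ * a * y) * z⁻¹) * s⁻¹ by group,
      mul_assoc y⁻¹, ← c1.eq, inv_mul_cancel_left, c.eq, mul_inv_cancel_right,
      inv_eq_of_sq h.ss, h.inv]
  refine h.a_sq (h.disj (mul_mem (mem_zpowers a) (mem_zpowers a)) ?_)
  have := mul_mem ((mem_normalizer_iff.1 h.aU u).1 hu) (inv_mem hu)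
  rwa [show a * u * a⁻¹ * u⁻¹ = a * (u * a * u⁻¹)⁻¹ by group, e1, inv_inv] at this

theorem fusion (hc : U ≤ 𝐂[a]) {g u : G} (hg : g ∈ X) (hu : u ∈ U) (hu' : g * u * g⁻¹ ∈ U) :
    ∃ k ∈ X ⊓ 𝐂[t], k * u * k⁻¹ = g * u * g⁻¹ := by
  have pa : IsPGroup 2 (zpowers a) := IsPGroup.of_card h.card_K
  obtain ⟨P, hP, h1⟩ := exists_isSyl_ge Nat.prime_two pa (M := X ⊓ 𝐂[g * u * g⁻¹])
    (zpowers_le.2 ⟨h.aX, mem_cent1_comm.1 (hc hu')⟩)
  obtain ⟨c, hc', h2⟩ := hP.exists_conj_le Nat.prime_two (Q := zpowers a ^ᵍ g) (pa.map _) (by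
    rw [← zpowers_conj, zpowers_le, cent1_conj]
    exact ⟨P5.cj hg h.aX, conj_mem_conj (mem_cent1_comm.1 (hc hu)) g⟩)
  obtain ⟨z, hz, ho⟩ := exists_mem_orderOf_eq_prime Nat.prime_two
    (prime_dvd_card_of_isPGroup Nat.prime_two (hP.pgrp.to_le inf_le_left)
      (center_ne_bot (isNilpotent_of_isPGroup Nat.prime_two hP.pgrp)
        fun e => h.t1 (mem_bot.1 (e ▸ h1 h.tK))))
  have z1 : z ≠ 1 := by rintro rfl; simp at ho
  have zz : z * z = 1 := by rw [← sq, ← ho, pow_orderOf_eq_one]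
  have zX := (hP.1 hz.1).1
  have k1 := mul_mem hc'.1 hg
  have e1 := h.eq_t zX z1 zz (mem_cent.1 hz.2 a (h1 (mem_zpowers a))).symm
  have e2 := h.eq_t (P5.cj (inv_mem k1) zX) (mt conj_eq_one_iff.1 z1) (by rw [conj_mul, zz]; simp) (by
    have := P5.commute_cj (c * g)⁻¹ (show Commute z _ from (mem_cent.1 hz.2 _
      (h2 (conj_mem_conj (conj_mem_conj (mem_zpowers a) g) c))).symm)
    convert this using 1; group)
  refine ⟨c * g, ⟨k1, mem_cent1_iff_conj.2 ?_⟩, ?_⟩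
  · conv_lhs => rw [← e2]
    rw [← e1]; group
  · rw [← mem_cent1_iff_conj.1 hc'.2]; group

theorem ind_apply {φ : G → ℂ} (hc : φ ∈ CF (U ⊔ zpowers a)) (h0 : ∀ x ∈ U, φ x = 0) {g : G}
    (hg : g ∈ U ⊔ zpowers a) (hU : g ∉ U) : ind X (U ⊔ zpowers a) φ g = φ g + φ (s * g * s) := by
  rw [← ind_ind inf_le_left h.AH, h.normedTI.ind_apply (ind_mem_CFon_of_norm h.normedTI.norm
    fun x hx e => h0 x (not_not.1 fun e' => e ⟨hx, e'⟩)) ⟨hg, hU⟩, ind_of_mem _ _ (h.AH hg),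
    res_of_mem_CF hc, h.sum_H, sum_fs_congr fun x hx => CF_conj' hc hx g, sum_fs_const,
    sum_fs_congr (g := fun _ => φ (s * g * s)) fun x hx => by
        rw [← CF_conj' hc hx (s * g * s), mul_inv_rev, inv_eq_of_sq h.ss]
        simp only [mul_assoc], sum_fs_const]
  have := card_ne_zero_C (U ⊔ zpowers a)
  simp only [nsmul_eq_mul]
  field_simp

end DH

/-- A linear character `ψ` of `U × ⟨a⟩` which is trivial on `a` and fixed by `s`. -/
structure TW (X U : Subgroup G) (a t s : G) (n : ℕ) (ψ : G → ℂ) : Prop extends DH X U a t s n where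
  cU : U ≤ 𝐂[a]
  lψ : IsLin (U ⊔ zpowers a) ψ
  ψa : ψ a = 1
  ψs : ∀ g ∈ U ⊔ zpowers a, ψ (s * g * s) = ψ g

namespace TW

variable {X U : Subgroup G} {a t s : G} {n : ℕ} {ψ : G → ℂ} (h : TW X U a t s n ψ)
include h

theorem ψK {y : G} (hy : y ∈ zpowers a) : ψ y = 1 :=
  h.lψ.mem_cfKer_iff.1 (zpowers_le.2 (h.lψ.mem_cfKer_iff.2 h.ψa) hy)

theorem ψ_mul {u y : G} (hu : u ∈ U) (hy : y ∈ zpowers a) : ψ (u * y) = ψ u := by
  rw [h.lψ.2.2 u (mem_sup_left hu) y (mem_sup_right hy), h.ψK hy, mul_one]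

theorem stab : P5.Stab X U ψ := fun g hg u hu hu' => by
  obtain ⟨k, hk, e⟩ := h.fusion h.cU hg hu hu'
  rw [← e]
  rcases h.cover k hk with e | e
  · exact CF_conj h.lψ.mem_CF e u
  · rw [← CF_conj h.lψ.mem_CF e u, ← h.ψs _ (mem_sup_left
      ((mem_normalizer_iff.1 (h.HU hk) u).1 hu)), mul_inv_rev, inv_eq_of_sq h.ss]
    simp only [mul_assoc]

theorem dich {χ : G → ℂ} (hχ : χ ∈ Irr X) :
    (∀ y ∈ zpowers a, y ≠ 1 → ip U (fun g => χ (g * y)) ψ = 0) ∨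
      ∀ y ∈ zpowers a, y ≠ 1 → ∀ u ∈ U, χ (u * y) = χ y * ψ u := by
  classical
  have := Fintype.ofFinite G
  obtain ⟨B, hv⟩ := P1.exists_val Nat.prime_two
  have hc : (𝐨(U)).Coprime 2 := Nat.coprime_two_right.2 h.odd
  have hα := (h.lψ.res (le_sup_left : U ≤ _)).mem_Irr
  have cy : ∀ y ∈ zpowers a, U ≤ 𝐂[y] := fun y hy u hu => mem_cent1_comm.1
    (zpowers_le.2 (mem_cent1_comm.1 (h.cU hu)) hy)
  obtain ⟨f, hf, f1, f2⟩ := P5.exists_ext h.UX (φ := fun g => (𝐨(U) : ℂ)⁻¹ * conj (ψ g))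
    fun g hg u hu e => by simp only [h.stab g hg u hu e]
  have key : ∀ y ∈ zpowers a, y ≠ 1 → ∀ α ∈ Irr U, ip U (fun g => χ (g * y)) α ≠ 0 →
      B.valuation (P1.om χ (P1.toA f) - ip U α ψ / α 1) < 1 := fun y hy y1 α hα hd => by
    have := P5.smt Nat.prime_two hv (h.KX hy) (h.pow_K hy) h.UX (cy y hy) hc hχ hα hd hf (fun g => by
        rcases f2 g with e | ⟨x, -, -, e⟩
        · simp [e]
        · rw [e]
          refine P1.val_mul_le (by rw [map_inv₀, P1.val_nat_eq_one hv hc, inv_one]) ?_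
          exact P5.val_le_of_isIntegral _ (h.lψ.isChar.star.isIntegral _))
      fun g hg hU => (f2 g).resolve_right fun ⟨x, hx, e, _⟩ => hU (h.mem_of_odd (h.mem_H
        ((mem_normalizer_iff.1 (le_norm_self X hx) g).2 (h.UX e)) (mem_sup_right hy)
        (fun e => y1 (h.disj hy e)) (by
          rw [← mul_inv_eq_iff_eq_mul.1 hg, mul_inv_cancel_right]; exact mem_sup_right hy))
        h.odd (by
        have := pow_card_of_mem e
        rwa [conj_pow, conj_eq_one_iff] at this))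
    rwa [P1.om.eq_def α, P1.tr_apply, P1.coeff_toA,
      P1.sum_univ_eq (H := U) (fun g hg => res_of_notMem _ hg), sum_fs_congr (g := fun g =>
        (𝐨(U) : ℂ)⁻¹ * (α g * conj (ψ g))) fun g hg => by
          rw [res_of_mem _ hg, f1 g hg]; ring, ← Finset.mul_sum, ← ip_def] at this
  refine or_iff_not_imp_left.2 fun h0 y hy y1 u hu => ?_
  push Not at h0
  obtain ⟨y₀, hy₀, y2, h0⟩ := h0
  have k1 := key y₀ hy₀ y2 _ hα (by rwa [ip_res_right])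
  rw [← ip_res_right, ip_irr_self hα, res_one, h.lψ.2.1, div_one] at k1
  have hC : res U (fun g => χ (g * y)) ∈ CF U := mem_CF_of (fun x hx => res_of_notMem _ hx)
    fun g hg x hx => by
      rw [res_of_mem _ hx, res_of_mem _ (P5.cj hg hx), ← CF_conj (irr_mem_CF hχ) (h.UX hg) (x * y),
        ← mem_cent1_iff_conj.1 (cy y hy hg), conj_mul, mem_cent1_iff_conj.1 (cy y hy hg)]
  have e := fun x => apply_eq_sum_irr hC x
  simp only [ip_res_left] at e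
  have e' : ∀ x, res U (fun g => χ (g * y)) x = ip U (fun g => χ (g * y)) (res U ψ) * res U ψ x :=
    fun x => (e x).trans (Finset.sum_eq_single_of_mem _ hα fun β hβ hn => by
      by_contra h1
      have k2 := key y hy y1 β hβ (left_ne_zero_of_mul h1)
      rw [← ip_res_right, ip_irr_of_ne hβ hα hn, zero_div, sub_zero] at k2
      have k3 := B.valuation.map_sub_lt k2 k1
      rw [sub_sub_cancel, map_one] at k3
      exact lt_irrefl _ k3)
  have e1 := e' 1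
  have e2 := e' u
  rw [res_one, res_one, one_mul, h.lψ.2.1, mul_one] at e1
  rwa [res_of_mem _ hu, res_of_mem _ hu, ← e1] at e2

theorem sub_U {ν : G → ℂ} (hν : ν ∈ irrKer (U ⊔ zpowers a) U) {x : G} (hx : x ∈ U) :
    (ψ * (cf1 (U ⊔ zpowers a) - ν)) x = 0 := by
  rw [Pi.mul_apply, Pi.sub_apply, cf1_of_mem (mem_sup_left hx), h.val_U hν hx, sub_self, mul_zero]

theorem vch {ν : G → ℂ} (hν : ν ∈ irrKer (U ⊔ zpowers a) U) :
    ψ * (cf1 (U ⊔ zpowers a) - ν) ∈ VChar (U ⊔ zpowers a) := by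
  rw [mul_sub]
  exact sub_mem (irr_mem_VChar (h.lψ.mul_mem_Irr (cf1_mem_Irr _)))
    (irr_mem_VChar (h.lψ.mul_mem_Irr (irrKer_subset _ _ hν)))

theorem tw_vchar {ν : G → ℂ} (hν : ν ∈ irrKer (U ⊔ zpowers a) U) :
    tw X (U ⊔ zpowers a) ψ ν ∈ VChar X := vchar_ind h.AX (h.vch hν)

theorem tw_apply {ν : G → ℂ} (hν : ν ∈ irrKer (U ⊔ zpowers a) U) {g : G} (hg : g ∈ U ⊔ zpowers a)
    (hU : g ∉ U) : tw X (U ⊔ zpowers a) ψ ν g = ψ g * (2 - ν g - conj (ν g)) := by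
  rw [tw, h.ind_apply (vchar_mem_CF (h.vch hν)) (fun x hx => h.sub_U hν hx) hg hU]
  simp only [Pi.mul_apply, Pi.sub_apply, cf1_of_mem hg, cf1_of_mem (h.sgs hg), h.val_s hν hg,
    h.ψs g hg]
  ring

theorem tw_one {ν : G → ℂ} (hν : ν ∈ irrKer (U ⊔ zpowers a) U) :
    tw X (U ⊔ zpowers a) ψ ν 1 = 0 := by
  rw [tw, ind_one h.AX, h.sub_U hν (one_mem U), mul_zero]

theorem tw_t {ν : G → ℂ} (hν : ν ∈ irrKer (U ⊔ zpowers a) U) :
    tw X (U ⊔ zpowers a) ψ ν t = 2 - 2 * ν t := by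
  rw [h.tw_apply hν h.tA h.t_notMem, h.ψK h.tK]
  rcases h.val_t hν with e | e <;> simp [e] <;> ring

theorem ip_tw_tw {α β : G → ℂ} (hα : α ∈ irrKer (U ⊔ zpowers a) U)
    (hβ : β ∈ irrKer (U ⊔ zpowers a) U) (α1 : α ≠ cf1 (U ⊔ zpowers a))
    (β1 : β ≠ cf1 (U ⊔ zpowers a)) [Decidable (α = β)] [Decidable (star α = β)] :
    ip X (tw X (U ⊔ zpowers a) ψ α) (tw X (U ⊔ zpowers a) ψ β) =
      2 + (if α = β then 1 else 0) + if star α = β then 1 else 0 := by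
  rw [← h.ip_th_th hα hβ α1 β1]
  conv_lhs => arg 3; rw [tw]
  conv_rhs => arg 3; rw [th]
  rw [ip_ind_right h.AX (vchar_mem_CF (h.tw_vchar hα)), ip_ind_right h.AX (vchar_mem_CF
    (h.th_vchar hα)), ← h.lψ.ip_mul_mul (th X _ α)]
  exact ip_swap_of_supp (A := ((U ⊔ zpowers a : Subgroup G) : Set G) \ U)
    (fun x hx e => h.sub_U hβ (not_not.1 fun e' => e ⟨hx, e'⟩)) fun x hx => by
      rw [Pi.mul_apply, h.tw_apply hα hx.1 hx.2, h.th_apply hα hx.1 hx.2]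

theorem tw_star {α : G → ℂ} (hα : α ∈ irrKer (U ⊔ zpowers a) U) :
    tw X (U ⊔ zpowers a) ψ (star α) = tw X (U ⊔ zpowers a) ψ α := by
  rw [tw, tw, ← ind_cfConj_of_norm h.sX (h.HA h.sH) (ψ * (cf1 _ - α))]
  refine ind_congr _ fun x hx => ?_
  rw [cfConj_apply, inv_eq_of_sq h.ss, Pi.mul_apply, Pi.mul_apply, Pi.sub_apply, Pi.sub_apply,
    cf1_of_mem hx, cf1_of_mem (h.sgs hx), h.val_s hα hx, star_apply', h.ψs x hx]

theorem ip_tw (φ : G → ℂ) (hφ : φ ∈ CF X) {ν : G → ℂ} (hν : ν ∈ irrKer (U ⊔ zpowers a) U) :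
    ip X φ (tw X (U ⊔ zpowers a) ψ ν) =
      ip (zpowers a) (fun y => ip U (fun g => φ (g * y)) ψ) (cf1 (zpowers a) - ν) := by
  rw [tw, ip_ind_right h.AX hφ, ip_def, PF02.sum_mul_disj h.sd.disj
    (S := (U ⊔ zpowers a : Subgroup G)) (fun x => mem_sup_of_norm h.KU), Finset.sum_comm, ip_def,
    h.sd.card, Finset.mul_sum, Finset.mul_sum]
  refine sum_fs_congr fun y hy => ?_
  rw [sum_fs_congr (g := fun u => φ (u * y) * conj (ψ u) * conj ((cf1 (zpowers a) - ν) y))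
    fun u hu => by
      rw [Pi.mul_apply, Pi.sub_apply, Pi.sub_apply, DH.val_mul hν hu, cf1_of_mem hy, h.ψ_mul hu hy,
        cf1_of_mem (mul_mem (mem_sup_left hu) (mem_sup_right hy)), map_mul, mul_assoc],
    ← Finset.sum_mul, ip_def]
  push_cast
  ring

theorem dich' {φ μ : G → ℂ} (hφ : Dirr X φ) (hμ : μ ∈ irrKer (U ⊔ zpowers a) U)
    (h0 : ip X φ (tw X (U ⊔ zpowers a) ψ μ) ≠ 0) :
    ∀ y ∈ zpowers a, y ≠ 1 → ∀ u ∈ U, φ (u * y) = φ y * ψ u := by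
  have key : ∀ χ ∈ Irr X, ip X χ (tw X (U ⊔ zpowers a) ψ μ) ≠ 0 →
      ∀ y ∈ zpowers a, y ≠ 1 → ∀ u ∈ U, χ (u * y) = χ y * ψ u := fun χ hχ h0 =>
    (h.dich hχ).resolve_left fun e => h0 (by
      rw [h.ip_tw _ (irr_mem_CF hχ) hμ, ip_swap_of_supp (A := sharp (zpowers a)) (φ' := 0)
        (fun x hx e => by rw [not_not.1 fun e' => e ⟨hx, e'⟩]; simp [(h.lin hμ).2.1])
        fun x hx => e x hx.1 hx.2, ip_zero_left])
  rcases hφ with e | e
  · exact key φ e h0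
  · intro y hy y1 u hu
    simpa using key _ e (by rwa [ip_neg_left, neg_ne_zero]) y hy y1 u hu

theorem val_of {φ ξ μ : G → ℂ} (hφ : Dirr X φ) (hμ : μ ∈ irrKer (U ⊔ zpowers a) U)
    (h0 : ip X φ (tw X (U ⊔ zpowers a) ψ μ) ≠ 0) {c : ℂ}
    (hξ : ∀ ν ∈ irrKer (U ⊔ zpowers a) U,
      ip X φ (tw X (U ⊔ zpowers a) ψ ν) + ip (U ⊔ zpowers a) ξ ν = c)
    (hc : ξ ∈ CF (U ⊔ zpowers a)) (hk : U ≤ cfKer ξ) {y : G} (hy : y ∈ zpowers a) (y1 : y ≠ 1) :
    φ y = ξ y := by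
  classical
  have := P3.apply_of_ip_const h.commK (ξ := φ - ξ) (n := ip (zpowers a) φ (cf1 (zpowers a)) - c) (fun α hα => by
    obtain ⟨ν, hν, rfl⟩ := h.sd.exists_irrKer_res hα
    rw [ip_res_right, ip_sub_left, h.sd.res_bijOn.2 ξ hc ν (h.lin hν).mem_CF hk (mem_irrKer.1 hν).2,
      ← hξ ν hν, h.ip_tw _ hφ.mem_CF hν, ip_swap_of_supp (A := sharp (zpowers a)) (φ' := φ)
        (ψ := cf1 (zpowers a) - ν)
        (fun x hx e => by rw [not_not.1 fun e' => e ⟨hx, e'⟩]; simp [(h.lin hν).2.1])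
        fun x hx => by
          rw [ip_congr (φ' := φ x • ψ) (fun u hu => h.dich' hφ hμ h0 x hx.1 hx.2 u hu)
            fun _ _ => rfl, ip_smul_left, ← ip_res_left, ← ip_res_right,
            ip_irr_self (h.lψ.res le_sup_left).mem_Irr, mul_one], ip_sub_right]
    ring) hy
  rwa [if_neg y1, Pi.sub_apply, sub_eq_zero] at this

theorem ψ_Inv {j : G} (hj : j ∈ Inv (U ⊔ zpowers a) s) : ψ (s * j) = 1 := by
  have h1 := h.lψ.mul_inv hj.1
  rw [mul_inv_rev, inv_eq_of_sq hj.2, inv_eq_of_sq h.ss, show j * s = s * (s * j) * s by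
    rw [← mul_assoc, h.ss, one_mul], h.ψs _ hj.1] at h1
  obtain ⟨u, hu, y, hy, e⟩ := h.dec hj.1
  rw [← e, h.ψ_mul hu hy] at h1 ⊢
  obtain ⟨m, hm⟩ := h.odd
  have h2 := h.lψ.pow_apply (mem_sup_left hu) 𝐨(U)
  rw [pow_card_of_mem hu, h.lψ.2.1, hm, pow_succ, pow_mul, sq, h1, one_pow, one_mul] at h2
  exact h2.symm

theorem FF_tw {ν : G → ℂ} (hν : ν ∈ irrKer (U ⊔ zpowers a) U) :
    FF X t (tw X (U ⊔ zpowers a) ψ ν) = FF X t (th X (U ⊔ zpowers a) ν) := by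
  rw [tw, th, h.FF_ind fun x hx => h.sub_U hν hx, h.FF_ind fun x hx => by
    rw [Pi.sub_apply, cf1_of_mem (mem_sup_left hx), h.val_U hν hx, sub_self]]
  refine congrArg _ (sum_fs_congr fun j hj => sum_fs_congr fun j' hj' => ?_)
  have := h.lψ.2.2 _ hj.1 _ (h.Inv_mul hj hj')
  rw [mul_assoc, ← mul_assoc j, hj.2, one_mul, h.ψ_Inv hj, h.ψ_Inv hj', one_mul] at this
  rw [Pi.mul_apply, ← this, one_mul]

end TW

end Cfsg.Agent.P15.Ch
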