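/-
P15, chapter Ca, second part: the two common constituents and the order formula.
-/
import Cfsg.Agent.P15.CaA

set_option autoImplicit false
set_option linter.unusedSectionVars false

namespace Cfsg.Agent.P15.Ch

open Subgroup Cfsg Cfsg.Agent Cfsg.Agent.FT Cfsg.Agent.P1
open Cfsg.Agent.P5 (inv_eq_of_sq eq_one_of_odd pow_card_of_mem mul_pow_odd)
open scoped ComplexConjugate commutatorElement

universe u

variable {G : Type u} [Group G] [Finite G]

theorem three_cases {X : Subgroup G} {φ A B C : G → ℂ} (hφ : φ ∈ VChar X) (hA : Dirr X A)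
    (hB : Dirr X B) (hC : Dirr X C) (hAB : ip X A B = 0) (hAC : ip X A C = 0) (hBC : ip X B C = 0)
    (h4 : ip X φ φ = 3 ∨ ip X φ φ = 4) (h1 : φ 1 = 0) (h : ip X φ (A + B + C) = 2) :
    (ip X φ A = 1 ∧ ip X φ B = 1 ∧ ip X φ C = 0) ∨ (ip X φ A = 1 ∧ ip X φ B = 0 ∧ ip X φ C = 1) ∨
      (ip X φ A = 0 ∧ ip X φ B = 1 ∧ ip X φ C = 1) := by
  have key : ∀ D, Dirr X D → ip X φ D = 0 ∨ ip X φ D = 1 ∨ ip X φ D = -1 := fun D hD => by
    rcases h4 with e | e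
    · obtain ⟨m, hm⟩ := vchar_ip_int hφ hD.mem_VChar
      have h2 := (show ON X {D} from ⟨by simp [hD.ip_self], by simp⟩).bessel φ
      rw [Finset.sum_singleton, hm, Complex.norm_intCast, sq_abs,
        nsq_eq_of_ip (r := 3) (by rw [e]; norm_num)] at h2
      have h3 : m ^ 2 ≤ 3 := by exact_mod_cast h2
      have h5 : -2 < m := by nlinarith
      have h6 : m < 2 := by nlinarith
      rw [hm]
      interval_cases m <;> simp
    · rcases hD with k | k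
      · exact P5.exists_four_dirr hφ e h1 k
      · have := P5.exists_four_dirr hφ e h1 k
        rw [ip_neg_right, neg_eq_zero, neg_eq_iff_eq_neg, neg_inj] at this
        tauto
  rw [ip_add_right, ip_add_right] at h
  rcases key A hA with a | a | a <;> rcases key B hB with b | b | b <;>
    rcases key C hC with c | c | c <;> rw [a, b, c] at h ⊢ <;> revert h <;> norm_num

theorem split_three {X : Subgroup G} {φ : G → ℂ} (hφ : φ ∈ VChar X) (h3 : ip X φ φ = 3) :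
    ∃ A B C, Dirr X A ∧ Dirr X B ∧ Dirr X C ∧ ip X A B = 0 ∧ ip X A C = 0 ∧ ip X B C = 0 ∧
      φ = A + B + C := by
  classical
  obtain ⟨E, hE, hEd, hEo, he⟩ := vchar_small_norm (n := 3) hφ
    (nsq_eq_of_ip (by rw [h3]; norm_num)) le_rfl
  obtain ⟨A, B, C, h1, h2, h3, rfl⟩ := Finset.card_eq_three.1 hE
  rw [Finset.sum_insert (by simp [h1, h2]), Finset.sum_pair h3, ← add_assoc] at he
  exact ⟨A, B, C, hEd A (by simp), hEd B (by simp), hEd C (by simp),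
    hEo.2 A (by simp) B (by simp) h1, hEo.2 A (by simp) C (by simp) h2,
    hEo.2 B (by simp) C (by simp) h3, he⟩

theorem num_tw {N k x y : ℤ} (hk : 0 < k) (hx : 8 ∣ x - 1) (hy : 8 ∣ y - 1) (x1 : x ≠ 1)
    (y1 : y ≠ 1) (hN : 0 ≤ N) (hb : 16 * N ≤ 45 * k ^ 2)
    (h : N * (x - y) ^ 2 = 2 * k ^ 2 * (x * y * (x + y))) :
    (x = 9 ∨ y = 9) ∧ 16 * N = 45 * k ^ 2 := by
  have hk2 : 0 < k ^ 2 := by positivity
  have h1 : 32 * (x * y * (x + y)) ≤ 45 * (x - y) ^ 2 :=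
    le_of_mul_le_mul_left (by nlinarith [sq_nonneg (x - y)]) hk2
  have h2 : 0 ≤ x * y * (x + y) :=
    nonneg_of_mul_nonneg_right (a := 2 * k ^ 2) (by rw [← h]; positivity) (by positivity)
  have key : ∀ x y : ℤ, 9 ≤ x → y ≤ -7 → 8 ∣ x + y - 2 → 0 ≤ x * y * (x + y) →
      32 * (x * y * (x + y)) ≤ 45 * (x - y) ^ 2 → x = 9 ∧ y = -15 := fun x y a b c d e => by
    have f1 : x * y < 0 := by nlinarith
    have f2 : x + y ≤ 0 := by by_contra f; nlinarith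
    replace c : ∃ m, x + y - 2 = 8 * m := c
    obtain ⟨m, hm⟩ := c
    obtain ⟨c, rfl⟩ : ∃ c, y = -(x + c) := ⟨-y - x, by ring⟩
    rcases (show c = 6 ∨ 14 ≤ c by omega) with rfl | f3
    · have : x ≤ 9 := by nlinarith
      omega
    · have f4 : 9 * (9 + c) ≤ x * (x + c) := by nlinarith
      nlinarith [mul_le_mul_of_nonneg_right f4 (show 0 ≤ 32 * c - 180 by omega)]
  rcases (show 9 ≤ x ∨ x ≤ -7 by omega) with a | a <;>
    rcases (show 9 ≤ y ∨ y ≤ -7 by omega) with b | b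
  · exfalso
    have f1 : 9 * x ≤ x * y := by nlinarith
    have f2 : 9 * y ≤ x * y := by nlinarith
    nlinarith [mul_le_mul_of_nonneg_right f1 (show 0 ≤ x by omega),
      mul_le_mul_of_nonneg_right f2 (show 0 ≤ y by omega), mul_pos (show 0 < x by omega)
      (show 0 < y by omega)]
  · obtain ⟨rfl, rfl⟩ := key x y a b (by omega) h2 h1
    exact ⟨.inl rfl, by linarith⟩
  · obtain ⟨rfl, rfl⟩ := key y x b a (by omega) (by linarith) (by linarith)
    exact ⟨.inr rfl, by linarith⟩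
  · exfalso
    nlinarith [mul_pos_of_neg_of_neg (show x < 0 by omega) (show y < 0 by omega)]

namespace TW

variable {X U : Subgroup G} {a t s : G} {n : ℕ} {ψ : G → ℂ} (h : TW X U a t s n ψ)
include h

theorem tw_cf1 : tw X (U ⊔ zpowers a) ψ (cf1 (U ⊔ zpowers a)) = 0 := by
  rw [tw, sub_self, mul_zero, map_zero]

theorem ip_self {α : G → ℂ} (hα : α ∈ irrKer (U ⊔ zpowers a) U) (α1 : α ≠ cf1 (U ⊔ zpowers a))
    [Decidable (star α = α)] : ip X (tw X (U ⊔ zpowers a) ψ α) (tw X (U ⊔ zpowers a) ψ α) =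
      if star α = α then 4 else 3 := by
  classical
  rw [h.ip_tw_tw hα hα α1 α1, if_pos rfl]
  split_ifs <;> norm_num

open Classical in
theorem val_t' {l D : G → ℂ} (hl : l ∈ irrKer (U ⊔ zpowers a) U) (la : l a = -1) (hD : Dirr X D)
    (h1 : ∀ ν ∈ irrKer (U ⊔ zpowers a) U, ν ≠ cf1 (U ⊔ zpowers a) →
      ip X (tw X (U ⊔ zpowers a) ψ ν) D = 0 ∨ ip X (tw X (U ⊔ zpowers a) ψ ν) D = 1)
    (h2 : ip X (tw X (U ⊔ zpowers a) ψ l) D = 1) :
    (∀ y ∈ zpowers a, y ≠ 1 → D y = 1 + ∑ ν ∈ (irrKer (U ⊔ zpowers a) U).filter fun ν =>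
      ν ≠ cf1 (U ⊔ zpowers a) ∧ ip X (tw X (U ⊔ zpowers a) ψ ν) D = 0, ν y) ∧ D t ≠ -2 := by
  generalize hM : (irrKer (U ⊔ zpowers a) U).filter (fun ν =>
      ν ≠ cf1 (U ⊔ zpowers a) ∧ ip X (tw X (U ⊔ zpowers a) ψ ν) D = 0) = M
  have m : ∀ ν, ν ∈ M ↔ ν ∈ irrKer (U ⊔ zpowers a) U ∧ ν ≠ cf1 (U ⊔ zpowers a) ∧
      ip X (tw X (U ⊔ zpowers a) ψ ν) D = 0 := fun ν => by rw [← hM, Finset.mem_filter]
  have mI : M ⊆ Irr (U ⊔ zpowers a) := fun ν hν => irrKer_subset _ _ ((m ν).1 hν).1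
  have e1 : ∀ y ∈ zpowers a, y ≠ 1 → D y = 1 + ∑ ν ∈ M, ν y := fun y hy y1 => by
    rw [h.val_of (ξ := cf1 (U ⊔ zpowers a) + ∑ ν ∈ M, ν) (c := 1) hD hl (by
      rw [vchar_ip_comm hD.mem_VChar (h.tw_vchar hl), h2]; exact one_ne_zero) (fun ν hν => ?_)
      (add_mem (cf1_mem_CF _) (sum_mem fun ν hν => irr_mem_CF (mI hν)))
      ((le_inf (le_sup_left.trans (le_cfKer_cf1 _)) (le_cfKer_sum fun ν hν =>
        (mem_irrKer.1 ((m ν).1 hν).1).2)).trans (inf_cfKer_le_add _ _)) hy y1, Pi.add_apply,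
      cf1_of_mem (mem_sup_right hy), Finset.sum_apply]
    rw [vchar_ip_comm hD.mem_VChar (h.tw_vchar hν), ip_add_left,
      ip_irr (cf1_mem_Irr _) (irrKer_subset _ _ hν), (on_Irr _).ip_sum mI (irrKer_subset _ _ hν)]
    by_cases e : ν = cf1 (U ⊔ zpowers a)
    · rw [if_pos e.symm, if_neg fun e' => ((m ν).1 e').2.1 e, e, h.tw_cf1]; simp
    rw [if_neg (Ne.symm e)]
    rcases h1 ν hν e with e' | e'
    · rw [if_pos ((m ν).2 ⟨hν, e, e'⟩), e']; simp
    · rw [if_neg fun k => by simpa [e'] using ((m ν).1 k).2.2, e']; simp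
  refine ⟨e1, fun e => ?_⟩
  rw [e1 t h.tK h.t1, Finset.sum_congr rfl (g := fun ν => ((if ν t = 1 then 1 else -1 : ℤ) : ℂ))
    fun ν hν => by rcases h.val_t ((m ν).1 hν).1 with k | k <;> norm_num [k]] at e
  have e2 : ∑ ν ∈ M, (if ν t = 1 then 1 else -1 : ℤ) = -3 := by
    exact_mod_cast (by rw [Int.cast_sum]; linear_combination e :
      ((∑ ν ∈ M, (if ν t = 1 then 1 else -1 : ℤ) : ℤ) : ℂ) = -3)
  have e3 := congrArg (Int.cast : ℤ → ZMod 2) e2
  rw [Int.cast_sum, Finset.sum_congr rfl (g := fun _ => 1) fun ν _ => by split_ifs <;> rfl,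
    Finset.sum_involution (fun ν _ => star ν) (fun _ _ => rfl) (fun ν hν _ r => by
      obtain ⟨k1, k2, k3⟩ := (m ν).1 hν
      rw [(h.real_cases hl la k1 r).resolve_left k2, h2] at k3
      exact one_ne_zero k3) (fun ν hν => by
      obtain ⟨k1, k2, k3⟩ := (m ν).1 hν
      exact (m _).2 ⟨star_mem_irrKer k1, fun e => k2 (by rw [← star_star ν, e, star_cf1]),
        by rwa [h.tw_star k1]⟩) fun ν _ => star_star ν] at e3
  exact absurd e3 (by decide)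

theorem miss {α ν D E F : G → ℂ} (hα : α ∈ irrKer (U ⊔ zpowers a) U) (r : star α ≠ α)
    (αt : α t = 1) (hν : ν ∈ irrKer (U ⊔ zpowers a) U) (νt : ν t = -1) (hD : Dirr X D)
    (hE : Dirr X E) (hF : Dirr X F) (hEF : ip X E F = 0)
    (he : tw X (U ⊔ zpowers a) ψ α = D + E + F) (h1 : ip X (tw X (U ⊔ zpowers a) ψ ν) E = 1)
    (h2 : ip X (tw X (U ⊔ zpowers a) ψ ν) F = 1) : D t = -2 := by
  classical
  have r' : star ν ≠ ν := fun e => by
    rw [← h.pw, (h.lin hν).pow_apply (mem_sup_right (mem_zpowers a)), pow_succ', pow_mul, sq,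
      mul_self_eq_one_iff.2 ((h.real_iff hν).1 e)] at νt
    norm_num at νt
  have v := h.tw_vchar hν
  have hD' := dirr_sub (sub_mem v hE.mem_VChar) hF (by
    rw [ip_sub_self v hE h1, h.ip_self hν (DH.ne_cf1 r'), if_neg r']; norm_num)
    (by rw [ip_sub_left, h2, hEF, sub_zero])
  have f1 := FF_add X t (tw X (U ⊔ zpowers a) ψ ν - E - F) (E + F)
  have f2 := FF_add X t D (E + F)
  rw [show tw X (U ⊔ zpowers a) ψ ν - E - F + (E + F) = tw X (U ⊔ zpowers a) ψ ν by abel,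
    h.FF_tw hν, h.FF_th hν, h.sum_Inv_zero hν r', FF_dirr h.tX hD'] at f1
  rw [← add_assoc, ← he, h.FF_tw hα, h.FF_th hα, h.sum_Inv_zero hα r, f1, FF_dirr h.tX hD,
    add_left_inj, mul_right_inj' (pow_ne_zero 2 (card_ne_zero_C X))] at f2
  have e1 := congrFun he 1
  have e2 := congrFun he t
  simp only [Pi.add_apply, h.tw_one hα, h.tw_t hα, αt] at e1 e2
  simp only [Pi.sub_apply, h.tw_one hν, h.tw_t hν, νt] at f2
  rw [show 0 - E 1 - F 1 = D 1 by linear_combination e1, div_left_inj' hD.one_ne_zero,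
    show 2 - 2 * -1 - E t - F t = D t + 4 by linear_combination e2] at f2
  linear_combination f2 / 8

theorem pair : ∃ α ∈ irrKer (U ⊔ zpowers a) U, star α ≠ α ∧ ∃ A B C, Dirr X A ∧ Dirr X B ∧
    Dirr X C ∧ tw X (U ⊔ zpowers a) ψ α = A + B + C ∧ ip X A (tw X (U ⊔ zpowers a) ψ α) ≠ 0 ∧
      ip X B (tw X (U ⊔ zpowers a) ψ α) ≠ 0 ∧ ∀ y ∈ zpowers a, y ≠ 1 → A y = 1 ∧ B y = 1 := by
  classical
  obtain ⟨l, hl, la⟩ := h.exists_real
  have lr := (h.real_iff hl).2 (.inr la)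
  have ha : a ∈ U ⊔ zpowers a := mem_sup_right (mem_zpowers a)
  obtain ⟨α, hα, r, hc⟩ : ∃ α ∈ irrKer (U ⊔ zpowers a) U, star α ≠ α ∧
      (n = 0 ∨ α t = 1 ∧ ∃ β ∈ irrKer (U ⊔ zpowers a) U, β t = -1) := by
    rcases n with _ | n
    · obtain ⟨α, hα, r⟩ := h.exists_nonreal
      exact ⟨α, hα, r, .inl rfl⟩
    obtain ⟨β, hβ, e⟩ := exists_irrKer_notMem_cfKer h.sd.normal h.t_notMem
    have e' := (h.val_t hβ).resolve_left (mt (h.lin hβ).mem_cfKer_iff.2 e)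
    have h1 : β * β ∈ irrKer (U ⊔ zpowers a) U := mem_irrKer.2 ⟨((h.lin hβ).mul (h.lin hβ)).mem_Irr,
      (le_inf (mem_irrKer.1 hβ).2 (mem_irrKer.1 hβ).2).trans (inf_cfKer_le_mul _ _)⟩
    refine ⟨_, h1, fun k => ?_, .inr ⟨by simp [e'], β, hβ, e'⟩⟩
    have := mul_self_eq_one_iff.2 ((h.real_iff h1).1 k)
    rw [Pi.mul_apply] at this
    rw [← h.pw, (h.lin hβ).pow_apply ha, show 2 ^ (n + 1 + 1) = 2 * 2 * 2 ^ n by ring, pow_mul,
      pow_mul, sq, sq, this] at e'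
    norm_num at e'
  have α1 := DH.ne_cf1 (A := U ⊔ zpowers a) r
  have key : ∀ A B C, Dirr X A → Dirr X B → Dirr X C → ip X A B = 0 → ip X A C = 0 →
      ip X B C = 0 → tw X (U ⊔ zpowers a) ψ α = A + B + C →
      ip X (tw X (U ⊔ zpowers a) ψ l) A = 1 → ip X (tw X (U ⊔ zpowers a) ψ l) B = 1 →
      ∃ A B C, Dirr X A ∧ Dirr X B ∧ Dirr X C ∧ tw X (U ⊔ zpowers a) ψ α = A + B + C ∧
        ip X A (tw X (U ⊔ zpowers a) ψ α) ≠ 0 ∧ ip X B (tw X (U ⊔ zpowers a) ψ α) ≠ 0 ∧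
        ∀ y ∈ zpowers a, y ≠ 1 → A y = 1 ∧ B y = 1 := by
    intro A B C hA hB hC hAB hAC hBC he lA lB
    have a1 : ip X A (tw X (U ⊔ zpowers a) ψ α) = 1 := by
      rw [he, ip_add_right, ip_add_right, hA.ip_self, hAB, hAC]; ring
    have b1 : ip X B (tw X (U ⊔ zpowers a) ψ α) = 1 := by
      rw [he, ip_add_right, ip_add_right, hB.ip_self, ip_eq_zero_symm hAB, hBC]; ring
    have a2 := (vchar_ip_comm (h.tw_vchar hα) hA.mem_VChar).trans a1
    have b2 := (vchar_ip_comm (h.tw_vchar hα) hB.mem_VChar).trans b1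
    have pat := fun ν (hν : ν ∈ irrKer (U ⊔ zpowers a) U) (n1 : ν ≠ cf1 (U ⊔ zpowers a))
      (n2 : ν ≠ α) (n3 : star ν ≠ α) => three_cases (h.tw_vchar hν) hA hB hC hAB hAC hBC
        (by rw [h.ip_self hν n1]; split_ifs <;> simp) (h.tw_one hν)
        (by rw [← he, h.ip_tw_tw hν hα n1 α1, if_neg n2, if_neg n3]; ring)
    have same : ∀ ν ∈ irrKer (U ⊔ zpowers a) U, ¬ (ν ≠ α ∧ star ν ≠ α) →
        tw X (U ⊔ zpowers a) ψ ν = tw X (U ⊔ zpowers a) ψ α := fun ν hν e => by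
      by_cases e' : ν = α
      · rw [e']
      · rw [← not_not.1 fun k => e ⟨e', k⟩, h.tw_star hν]
    obtain ⟨vA, oA⟩ := h.val_t' hl la hA (fun ν hν n1 => by
      by_cases e : ν ≠ α ∧ star ν ≠ α
      · have := pat ν hν n1 e.1 e.2; tauto
      · rw [same ν hν e, a2]; simp) lA
    obtain ⟨vB, oB⟩ := h.val_t' hl la hB (fun ν hν n1 => by
      by_cases e : ν ≠ α ∧ star ν ≠ α
      · have := pat ν hν n1 e.1 e.2; tauto
      · rw [same ν hν e, b2]; simp) lB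
    generalize hM : (irrKer (U ⊔ zpowers a) U).filter (fun ν =>
      ν ≠ cf1 (U ⊔ zpowers a) ∧ ip X (tw X (U ⊔ zpowers a) ψ ν) A = 0) = M at vA
    generalize hN : (irrKer (U ⊔ zpowers a) U).filter (fun ν =>
      ν ≠ cf1 (U ⊔ zpowers a) ∧ ip X (tw X (U ⊔ zpowers a) ψ ν) B = 0) = N at vB
    have mA : ∀ ν ∈ M, ν ∈ irrKer (U ⊔ zpowers a) U ∧ ν ≠ cf1 (U ⊔ zpowers a) ∧ ν ≠ l ∧
        (ν ≠ α ∧ star ν ≠ α) ∧ ip X (tw X (U ⊔ zpowers a) ψ ν) A = 0 := fun ν hν => by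
      obtain ⟨k1, k2, k3⟩ := Finset.mem_filter.1 (hM ▸ hν)
      exact ⟨k1, k2, fun e => by simp [e, lA] at k3,
        by_contra fun e => by simp [same ν k1 e, a2] at k3, k3⟩
    have mB : ∀ ν ∈ N, ν ∈ irrKer (U ⊔ zpowers a) U ∧ ν ≠ cf1 (U ⊔ zpowers a) ∧ ν ≠ l ∧
        (ν ≠ α ∧ star ν ≠ α) ∧ ip X (tw X (U ⊔ zpowers a) ψ ν) B = 0 := fun ν hν => by
      obtain ⟨k1, k2, k3⟩ := Finset.mem_filter.1 (hN ▸ hν)
      exact ⟨k1, k2, fun e => by simp [e, lB] at k3,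
        by_contra fun e => by simp [same ν k1 e, b2] at k3, k3⟩
    suffices e : M = ∅ ∧ N = ∅ from ⟨A, B, C, hA, hB, hC, he, by simp [a1], by simp [b1],
      fun y hy y1 => by simp [vA y hy y1, vB y hy y1, e.1, e.2]⟩
    rcases hc with rfl | ⟨αt, β, hβ, βt⟩
    · have e : ∀ ν ∈ irrKer (U ⊔ zpowers a) U, ν ≠ cf1 (U ⊔ zpowers a) → ν ≠ l →
          ¬ (ν ≠ α ∧ star ν ≠ α) := fun ν hν n1 n3 ⟨n2, n4⟩ => by
        have n5 : star (star α) ≠ star α := by rw [star_star]; exact r.symm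
        have n6 : α ≠ l := fun e => r (e ▸ lr)
        have n7 : star α ≠ l := fun e => n5 (e ▸ lr)
        have n8 : ν ≠ star α := fun e => n4 (by rw [e, star_star])
        have := Finset.card_le_card (s := {ν, α, star α, l, cf1 (U ⊔ zpowers a)})
          (t := irrKer (U ⊔ zpowers a) U)
          (by simp [Finset.insert_subset_iff, hν, hα, star_mem_irrKer hα, hl, h.one_mem_L])
        rw [Finset.card_insert_of_notMem (by simp [n1, n2, n3, n8]),
          Finset.card_insert_of_notMem (by simp [r.symm, n6, α1]),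
          Finset.card_insert_of_notMem (by simp [n7, DH.ne_cf1 n5]), Finset.card_pair (h.l_ne la),
          h.card_L] at this
        norm_num at this
      exact ⟨Finset.eq_empty_of_forall_notMem fun ν hν => by
        obtain ⟨k1, k2, k3, k4, -⟩ := mA ν hν; exact e ν k1 k2 k3 k4,
        Finset.eq_empty_of_forall_notMem fun ν hν => by
        obtain ⟨k1, k2, k3, k4, -⟩ := mB ν hν; exact e ν k1 k2 k3 k4⟩
    have c : ∀ ν ∈ irrKer (U ⊔ zpowers a) U, ν t = -1 → ip X (tw X (U ⊔ zpowers a) ψ ν) A = 1 ∧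
        ip X (tw X (U ⊔ zpowers a) ψ ν) B = 1 := fun ν hν νt => by
      rcases pat ν hν (fun e => by rw [e, cf1_of_mem h.tA] at νt; norm_num at νt)
        (fun e => by rw [e, αt] at νt; norm_num at νt)
        (fun e => by rw [← e, star_apply', νt] at αt; norm_num at αt) with k | k | k
      · exact ⟨k.1, k.2.1⟩
      · exact absurd (h.miss hα r αt hν νt hB hA hC hAC (by rw [he, add_comm A]) k.1 k.2.2) oB
      · exact absurd (h.miss hα r αt hν νt hA hB hC hBC he k.2.1 k.2.2) oA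
    have c1 := h.miss hα r αt hβ βt hC hA hB hAB (by rw [he]; abel) (c β hβ βt).1 (c β hβ βt).2
    have c2 := congrFun he t
    rw [h.tw_t hα, αt, Pi.add_apply, Pi.add_apply, c1, vA t h.tK h.t1, vB t h.tK h.t1,
      Finset.sum_congr rfl (g := fun _ => 1) fun ν hν => (h.val_t (mA ν hν).1).resolve_right
        fun e => by simpa [(c ν (mA ν hν).1 e).1] using (mA ν hν).2.2.2.2,
      Finset.sum_congr (s₁ := N) rfl (g := fun _ => 1) fun ν hν =>
        (h.val_t (mB ν hν).1).resolve_right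
        fun e => by simpa [(c ν (mB ν hν).1 e).2] using (mB ν hν).2.2.2.2] at c2
    simp only [Finset.sum_const, nsmul_eq_mul, mul_one] at c2
    have c3 : M.card + N.card = 0 := by
      exact_mod_cast (by linear_combination -c2 : (M.card + N.card : ℂ) = 0)
    exact ⟨Finset.card_eq_zero.1 (by omega), Finset.card_eq_zero.1 (by omega)⟩
  refine ⟨α, hα, r, ?_⟩
  obtain ⟨A, B, C, hA, hB, hC, hAB, hAC, hBC, he⟩ := split_three (h.tw_vchar hα)
    (by rw [h.ip_self hα α1, if_neg r])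
  have n1 : l ≠ α := fun e => r (e ▸ lr)
  rcases three_cases (h.tw_vchar hl) hA hB hC hAB hAC hBC
    (by rw [h.ip_self hl (h.l_ne la)]; split_ifs <;> simp) (h.tw_one hl)
    (by rw [← he, h.ip_tw_tw hl hα (h.l_ne la) α1, lr, if_neg n1]; ring) with k | k | k
  · exact key A B C hA hB hC hAB hAC hBC he k.1 k.2.1
  · exact key A C B hA hC hB hAC hAB (ip_eq_zero_symm hBC) (by rw [he]; abel) k.1 k.2.2
  · exact key B C A hB hC hA hBC (ip_eq_zero_symm hAB) (ip_eq_zero_symm hAC) (by rw [he]; abel)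
      k.2.1 k.2.2

theorem no_linear (perf : ⁅X, X⁆ = X) {u : G} (hu : u ∈ U) (h1 : ψ u ≠ 1) :
    n = 0 ∧ 16 * (X ⊓ 𝐂[t]).relIndex X =
      45 * (𝐂[s].relIndex (X ⊓ 𝐂[t]) + 𝐂[a * s].relIndex (X ⊓ 𝐂[t])) ^ 2 := by
  obtain ⟨α, hα, r, A, B, C, hA, hB, hC, he, a0, b0, hv⟩ := h.pair
  have key : ∀ D, Dirr X D → ip X D (tw X (U ⊔ zpowers a) ψ α) ≠ 0 →
      (∀ y ∈ zpowers a, y ≠ 1 → D y = 1) → ∃ x : ℤ, D 1 = x ∧ 2 ^ (n + 3) ∣ x - 1 ∧ x ≠ 1 := by
    intro D hD d0 hv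
    obtain ⟨x, hx⟩ := vchar_one_int hD.mem_VChar
    obtain ⟨m, hm⟩ := h.congr_S hD.mem_VChar
    have k := sum_fs_sharp (zpowers a) fun _ => (1 : ℂ)
    rw [sum_fs_const, h.card_K] at k
    rw [hx, hv t h.tK h.t1, sum_fs_congr fun g hg => hv g hg.1 hg.2] at hm
    simp only [nsmul_eq_mul, Nat.cast_pow, Nat.cast_ofNat] at k
    refine ⟨x, hx, ⟨m - 1, by exact_mod_cast (by linear_combination hm + k :
      (x - 1 : ℂ) = 2 ^ (n + 3) * (m - 1))⟩, fun e => ?_⟩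
    rw [e, Int.cast_one] at hx
    have h2 := h.dich' hD hα d0 t h.tK h.t1 u hu
    rcases hD with k | k
    · rw [P5.eq_cf1_of_dg perf k (by exact_mod_cast (irr_one_eq k).symm.trans hx),
        cf1_of_mem h.tX, cf1_of_mem (mul_mem (h.UX hu) h.tX), one_mul] at h2
      exact h1 h2.symm
    · have := irr_one_eq k
      rw [Pi.neg_apply, hx] at this
      have : (-1 : ℤ) = dg (-D) := by exact_mod_cast this
      omega
  obtain ⟨x, hx, x2, x1⟩ := key A hA a0 fun y hy e => (hv y hy e).1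
  obtain ⟨y, hy, y2, y1⟩ := key B hB b0 fun y hy e => (hv y hy e).2
  have e1 := congrFun he 1
  have e2 := congrFun he t
  simp only [Pi.add_apply, h.tw_one hα, h.tw_t hα, hx, hy, hv t h.tK h.t1] at e1 e2
  have e3 : C t ^ 2 = 4 := by
    rw [show C t = -2 * α t by linear_combination -e2]
    rcases h.val_t hα with e | e <;> rw [e] <;> norm_num
  have f := h.FF_tw hα
  rw [he, FF_add, FF_add, FF_dirr h.tX hA, FF_dirr h.tX hB, FF_dirr h.tX hC, h.FF_th hα,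
    h.sum_Inv_zero hα r, h.ncard_Inv, (hv t h.tK h.t1).1, (hv t h.tK h.t1).2, e3, hx, hy,
    show C 1 = -(x + y) by linear_combination -e1] at f
  have x0 : (x : ℂ) ≠ 0 := hx ▸ hA.one_ne_zero
  have y0 : (y : ℂ) ≠ 0 := hy ▸ hB.one_ne_zero
  have w0 : (x + y : ℂ) ≠ 0 := fun e => hC.one_ne_zero (by linear_combination -e1 - e)
  have c1 : (𝐨(X) : ℂ) = 𝐨((X ⊓ 𝐂[t] : Subgroup G)) * (X ⊓ 𝐂[t]).relIndex X := by
    exact_mod_cast (H1.card_mul_relIndex (inf_le_left : X ⊓ 𝐂[t] ≤ X)).symm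
  have c2 := mul_ne_zero (card_ne_zero_C X) (card_ne_zero_C (X ⊓ 𝐂[t]))
  have c3 := h.bounds.2
  have c4 := Nat.pos_of_ne_zero (CH1.relIndex_ne_zero' 𝐂[s] (X ⊓ 𝐂[t]))
  have c5 : 0 < 𝐂[s].relIndex (X ⊓ 𝐂[t]) + 𝐂[a * s].relIndex (X ⊓ 𝐂[t]) := by omega
  generalize ((X ⊓ 𝐂[t]).relIndex X) = N at *
  generalize 𝐂[s].relIndex (X ⊓ 𝐂[t]) + 𝐂[a * s].relIndex (X ⊓ 𝐂[t]) = k at *
  have g2 : (N : ℂ) * (1 / x + 1 / y - 4 / (x + y)) = 2 * k ^ 2 :=
    mul_left_cancel₀ c2 (by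
      rw [div_neg] at f
      linear_combination f - 𝐨(X) * (1 / x + 1 / y - 4 / (x + y)) * c1)
  field_simp at g2
  have d8 : (8 : ℤ) ∣ 2 ^ (n + 3) := Dvd.intro_left (2 ^ n) (by ring)
  obtain ⟨g3, g4⟩ := num_tw (N := N) (k := k) (by omega) (d8.trans x2) (d8.trans y2) x1 y1 (by omega)
    (by exact_mod_cast c3) (by exact_mod_cast (by linear_combination g2 :
      (N * (x - y) ^ 2 : ℂ) = 2 * k ^ 2 * (x * y * (x + y))))
  refine ⟨?_, by exact_mod_cast g4⟩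
  have g5 : (2 : ℤ) ^ (n + 3) ∣ 2 ^ 3 := by rcases g3 with rfl | rfl <;> assumption
  have := (pow_dvd_pow_iff two_ne_zero (by decide)).1 g5
  omega

end TW

end Cfsg.Agent.P15.Ch
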