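/-
P15, chapter Ca.
-/
import Cfsg.Agent.P15.Ch
import Cfsg.Agent.P15.CaB

set_option autoImplicit false
set_option linter.unusedSectionVars false

namespace Cfsg.Agent.P15

open Subgroup Cfsg Cfsg.Agent Cfsg.Agent.FT
open Cfsg.Agent.P5 (inv_eq_of_sq)
open scoped commutatorElement

universe u

variable {G : Type u} [Group G] [Finite G]

theorem Ch.DH.ca {X U : Subgroup G} {a t s : G} {n : ℕ} (h : Ch.DH X U a t s n)
    (perf : ⁅X, X⁆ = X) (hc : a ∈ 𝐂(U)) (hne : ⁅U, zpowers s⁆ ≠ U) :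
    n = 0 ∧ 𝐂[t].relIndex X = 45 * 𝐂[s].relIndex U ^ 2 := by
  obtain ⟨α, h1, h2, u, hu, h3⟩ := P5.exists_lin (P5.isSolvable_of_odd h.odd)
    ⟨comm_le_left_iff.2 (zpowers_le.2 h.sU), by
      rw [commutator_comm]; exact H1.le_normalizer_commutator_self⟩ hne
  have hU : U ≤ 𝐂[a] := mem_cent_iff_cent1.1 hc
  have sd : SdProd (zpowers a) U (U ⊔ zpowers a) := ⟨sup_comm _ _,
    hU.trans (by rw [← cent_zpowers]; exact cent_le_norm _), by rw [inf_comm]; exact h.sd.disj⟩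
  obtain ⟨ψ, h4, rfl⟩ := sd.exists_irrKer_res h1.mem_Irr
  obtain ⟨h5, h6⟩ := mem_irrKer.1 h4
  have h7 := (irr_isChar h5).isLin (by simpa using h1.2.1)
  have h8 : ∀ v, ∀ y ∈ zpowers a, ψ (v * y) = ψ v := fun v y hy =>
    apply_mul_of_mem_cfKer h7.mem_CF (h6 hy) v
  obtain ⟨rfl, e⟩ := Ch.TW.no_linear (ψ := ψ) ⟨h, hU, h7, h7.mem_cfKer_iff.1 (h6 (mem_zpowers a)),
    fun g hg => by
      obtain ⟨v, hv, y, hy, rfl⟩ := h.dec hg
      have k := mem_cfKer.1 (h2 (commutator_comm_le _ _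
        (commutator_mem_commutator (mem_zpowers s) hv))) v
      rw [show ⁅s, v⁆ * v = s * v * s⁻¹ by group, res_of_mem _ hv,
        res_of_mem _ ((mem_normalizer_iff.1 h.sU v).1 hv)] at k
      rw [show s * (v * y) * s = s * v * s⁻¹ * (s * y * s) by group, h.invK hy, h8 _ _ hy,
        h8 _ _ (inv_mem hy), k]⟩ perf hu (by rwa [res_of_mem _ hu] at h3)
  have e1 : 𝐂[a * s].relIndex U = 𝐂[s].relIndex U := by
    rw [← inf_relIndex_left, ← inf_relIndex_left U 𝐂[s]]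
    congr 1
    ext g
    refine and_congr_right fun hg => ?_
    change g ∈ 𝐂[a * s] ↔ g ∈ 𝐂[s]
    exact mem_cent1_comm.trans ((mul_mem_cancel_left (mem_cent1_comm.1 (hU hg))).trans
      mem_cent1_comm)
  rw [h.relIndex_s, h.refl'.relIndex_s, e1, inf_relIndex_left] at e
  exact ⟨rfl, Nat.eq_of_mul_eq_mul_left (by norm_num : 0 < 16) (by rw [e]; ring)⟩

theorem caStmt : CaStmt.{u} := by
  intro G _ _ U y t s w hG h hc
  obtain ⟨n, rfl⟩ := h.pw
  have h' := h.toCh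
  refine or_iff_not_imp_left.2 fun hne => ?_
  obtain ⟨rfl, e⟩ := h'.ca ((commutator_normal ⊤ ⊤).eq_bot_or_eq_top.resolve_left fun e => by
    have h1 := mem_cent.1 (comm_eq_bot_iff.1 e (mem_top s)) y (mem_top y)
    have h2 := h.inv
    rw [← h1, mul_assoc, h.ss, mul_one] at h2
    exact h'.a_sq (mul_eq_one_iff_eq_inv.2 h2)) hc hne
  exact ⟨rfl, by rwa [relIndex_top_right] at e⟩

end Cfsg.Agent.P15
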