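/-
P15, chapter Count: basic facts on the configuration `TD` and the path count.
-/
import Cfsg.Agent.P15.Ch

set_option autoImplicit false
set_option linter.unusedSectionVars false

namespace Cfsg.Agent.P15

open Subgroup Cfsg Cfsg.Agent Cfsg.Agent.FT
open Cfsg.Agent.P5 (V4 Tri inv_eq_of_sq eq_one_of_odd)

universe u

variable {G : Type u} [Group G] [Finite G]

theorem cjn {X : Subgroup G} {g x : G} (hg : g ∈ 𝐍(X)) (hx : x ∈ X) : g * x * g⁻¹ ∈ X :=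
  (mem_normalizer_iff.1 hg x).1 hx

theorem cjn' {X : Subgroup G} {g x : G} (hg : g ∈ 𝐍(X)) (hx : x ∈ X) : g⁻¹ * x * g ∈ X := by
  simpa using cjn (inv_mem hg) hx

theorem conj_sq {g j : G} (h : j * j = 1) : g * j * g⁻¹ * (g * j * g⁻¹) = 1 := by
  rw [conj_mul, h, mul_one, mul_inv_cancel]

theorem pow_mem_eq_one {x c : G} {p : ℕ} (ox : orderOf x = p) (hc : c ∈ zpowers x) : c ^ p = 1 :=
  orderOf_dvd_iff_pow_eq_one.1 (ox ▸ orderOf_dvd_of_mem_zpowers hc)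

namespace TD

variable {U L K : Subgroup G} {y t s a b : G} {w p k l : ℕ} (h : TD U L K y t s a b w p k l)
include h

local notation "𝐄" => (zpowers a ⊔ zpowers b : Subgroup G)
local notation "𝐐" => pCoreOf p U

theorem ch : ∃ n, w = 2 ^ (n + 2) ∧ Ch.DH ⊤ U y t s n := by
  obtain ⟨n, rfl⟩ := h.dh.pw
  exact ⟨n, rfl, h.dh.toCh⟩

theorem tt : t * t = 1 := h.cl.tt

theorem t1 : t ≠ 1 := h.cl.t1

theorem ss : s * s = 1 := h.dh.ss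

theorem HU : 𝐂[t] ≤ 𝐍(U) := by
  obtain ⟨n, -, d⟩ := h.ch
  simpa using d.HU

theorem HQ {r : ℕ} (hr : r.Prime) : 𝐂[t] ≤ 𝐍(pCoreOf r U) := by
  rw [pCoreOf_eq hr]
  exact h.HU.trans (norm_le_norm_piCoreOf _ _)

theorem sH : s ∈ 𝐂[t] := by
  obtain ⟨n, -, d⟩ := h.ch
  exact d.sH.2

theorem yH : y ∈ 𝐂[t] := by
  obtain ⟨n, -, d⟩ := h.ch
  exact d.Kt (mem_zpowers y)

theorem v4 : V4 t s := by
  obtain ⟨n, -, d⟩ := h.ch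
  exact ⟨h.t1, fun e => h.dh.sy (e ▸ one_mem _), fun e => h.dh.sy (e ▸ d.tK), h.tt, h.ss,
    mem_cent1_iff_commute.1 h.sH⟩

theorem mem_U {g : G} (hg : g ∈ 𝐂[t]) (ho : Odd (orderOf g)) : g ∈ U := by
  obtain ⟨n, -, d⟩ := h.ch
  have h1 : (U.subgroupOf (⊤ ⊓ 𝐂[t])).Normal := normal_subgroupOf_iff_le_normalizer d.UH |>.2 d.HU
  have h2 := pow_index_mem (H := U.subgroupOf (⊤ ⊓ 𝐂[t])) ⟨g, mem_top g, hg⟩
  rw [show (U.subgroupOf (⊤ ⊓ 𝐂[t])).index = 2 ^ (n + 3) from d.idx_U] at h2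
  exact H8.mem_of_pow_mem_of_coprime (Nat.Coprime.pow_right _ (Nat.coprime_two_right.2 ho)) h2

theorem oddp : Odd p := h.pp.odd_of_ne_two h.p2

theorem QU : 𝐐 ≤ U := H2.pCoreOf_le _ _

theorem QH : 𝐐 ≤ 𝐂[t] := h.QU.trans h.dh.Ut

theorem bL : b ∈ 𝐂(L) := h.PL h.hb

theorem aL : a ∈ L := (h.cl.KL h.ha.1).1

theorem b1 : b ≠ 1 := fun e => h.pp.one_lt.ne (by rw [← h.ob, e, orderOf_one])

theorem a1 : a ≠ 1 := fun e => h.pp.one_lt.ne (by rw [← h.oa, e, orderOf_one])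

theorem card_a : 𝐨(zpowers a) = p := by rw [Nat.card_zpowers, h.oa]

theorem card_b : 𝐨(zpowers b) = p := by rw [Nat.card_zpowers, h.ob]

theorem Lb : L ≤ 𝐂[b] := mem_cent_iff_cent1.1 h.bL

theorem cb : 𝐂[b] ≤ 𝐍(L) := by
  rw [← h.nb, ← cent_zpowers]
  exact cent_le_norm _

theorem bR : b ∈ 𝐍(L) := h.cb (self_mem_cent1 b)

theorem mem_R {g : G} (hg : g * b * g⁻¹ ∈ zpowers b) : g ∈ 𝐍(L) := by
  rw [← h.nb]
  exact mem_norm_of_conj_le (by rw [← zpowers_conj]; exact zpowers_le.2 hg)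

theorem conj_b {g : G} (hg : g ∈ 𝐍(L)) : g * b * g⁻¹ ∈ zpowers b :=
  cjn (h.nb ▸ hg) (mem_zpowers b)

theorem ab : zpowers b ≤ 𝐂(zpowers a) := by
  rw [cent_zpowers]
  exact zpowers_le.2 (mem_cent1_comm.1 (h.Lb h.aL))

theorem Eb : 𝐄 ≤ 𝐂[b] := sup_le (zpowers_le.2 (h.Lb h.aL)) (zpowers_le.2 (self_mem_cent1 b))

theorem EQ : 𝐄 ≤ 𝐐 := sup_le (zpowers_le.2 h.ha.2) (zpowers_le.2 h.hb.1)

theorem inv_K {c : G} (hc : c ∈ K) : s * c * s = c⁻¹ := h.c2.inv s (h.cl.LR h.sL) h.v4 c hc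

theorem eq_t {j : G} (jL : j ∈ L) (j1 : j ≠ 1) (jj : j * j = 1) {c : G} (hc : c ∈ K) (c1 : c ≠ 1)
    (ja : j ∈ 𝐂[c]) : j = t := by
  by_contra ne
  have h1 := h.c2.inv j (h.cl.LR jL) ⟨h.t1, j1, Ne.symm ne, h.tt, jj,
    mem_cent1_iff_commute.1 (h.c2.cent c hc c1 ⟨jL, ja⟩)⟩ c hc
  rw [← mem_cent1.1 ja, mul_assoc, jj, mul_one] at h1
  exact c1 (eq_one_of_odd h.cl.odd hc (mul_eq_one_iff_eq_inv.2 h1))

theorem cent_K {g : G} (gR : g ∈ 𝐍(L)) {c : G} (hc : c ∈ K) (c1 : c ≠ 1) (ga : g ∈ 𝐂[c]) :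
    g ∈ 𝐂[t] :=
  mem_cent1_iff_conj.2 (h.eq_t (cjn gR h.cl.tL) (fun e => h.t1 (conj_eq_one_iff.1 e))
    (conj_sq h.tt) hc c1 (mul_mem (mul_mem ga (mem_cent1_comm.1 (h.cl.KL hc).2)) (inv_mem ga)))

theorem mem_E {g : G} : g ∈ 𝐄 ↔ g ∈ 𝐐 ⊓ 𝐍(L) ∧ g ^ p = 1 := by
  refine ⟨fun hg => ⟨⟨h.EQ hg, h.cb (h.Eb hg)⟩, ?_⟩, fun e => h.om g e.1 e.2⟩
  obtain ⟨x, hx, z, hz, rfl⟩ := (mem_sup_of_norm (h.ab.trans (cent_le_norm _))).1 hg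
  rw [Commute.mul_pow (mem_cent.1 (h.ab hz) x hx), pow_mem_eq_one h.oa hx, pow_mem_eq_one h.ob hz,
    mul_one]

theorem card_E : 𝐨(𝐄) ≤ p * p := by
  have := card_sup_mul_card_inf (h.ab.trans (cent_le_norm _))
  rw [h.card_a, h.card_b] at this
  exact this ▸ Nat.le_mul_of_pos_right _ Nat.card_pos

theorem norm_E : 𝐍((𝐐 ⊓ 𝐍(L) : Subgroup G)) ≤ 𝐍(𝐄) := fun g hg =>
  mem_norm_of_conj_le fun x hx => by
    obtain ⟨z, hz, rfl⟩ := mem_conj'.1 hx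
    exact h.mem_E.2 ⟨cjn hg (h.mem_E.1 hz).1, by rw [conj_pow, (h.mem_E.1 hz).2]; simp⟩

theorem a_mem {Y : Subgroup G} {z : G} (hb : b ∈ Y) (hz : z ∈ Y) (zE : z ∈ 𝐄)
    (zb : z ∉ zpowers b) : a ∈ Y := by
  obtain ⟨x, hx, c, hc, rfl⟩ := (mem_sup_of_norm (h.ab.trans (cent_le_norm _))).1 zE
  have h1 : x ∈ Y := (mul_mem_cancel_right (zpowers_le.2 hb hc)).1 hz
  have h2 := zpowers_eq_of_card_prime (h.card_a ▸ h.pp) hx fun e => zb (by rwa [e, one_mul])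
  exact zpowers_le.2 h1 (h2 ▸ mem_zpowers a)

/-- Distinct `H`-conjugates of `⟨b⟩` generate a group containing `a`. -/
theorem a_mem_closure {g : G} (gH : g ∈ 𝐂[t]) (gR : g ∉ 𝐍(L)) :
    a ∈ zpowers b ⊔ zpowers (g * b * g⁻¹) := by
  have bQ : g * b * g⁻¹ ∈ 𝐐 := cjn (h.HQ h.pp gH) h.hb.1
  have hY : zpowers b ⊔ zpowers (g * b * g⁻¹) ≤ 𝐐 := sup_le (zpowers_le.2 h.hb.1) (zpowers_le.2 bQ)
  have bY : b ∈ zpowers b ⊔ zpowers (g * b * g⁻¹) := mem_sup_left (mem_zpowers _)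
  have bY' : g * b * g⁻¹ ∈ zpowers b ⊔ zpowers (g * b * g⁻¹) := mem_sup_right (mem_zpowers _)
  by_cases hc : g * b * g⁻¹ ∈ 𝐂[b]
  · exact h.a_mem bY bY' (h.mem_E.2 ⟨⟨bQ, h.cb hc⟩, by
      rw [conj_pow, pow_mem_eq_one h.ob (mem_zpowers b)]; simp⟩) fun e => gR (h.mem_R e)
  have pY := (H2.isPGroup_pCoreOf p U).to_le hY
  have h1 := center_ne_bot (isNilpotent_of_isPGroup h.pp pY) fun e => h.b1 (by rwa [e] at bY)
  obtain ⟨z, hz, oz⟩ := exists_mem_orderOf_eq_prime h.pp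
    (prime_dvd_card_of_isPGroup h.pp (pY.to_le inf_le_left) h1)
  refine h.a_mem bY hz.1 (h.mem_E.2 ⟨⟨hY hz.1, h.cb (cent_le_cent1 bY hz.2)⟩,
    oz ▸ pow_orderOf_eq_one z⟩) fun e => hc ?_
  have h2 := cent1_eq_of_card_prime (h.card_b ▸ h.pp) e
    fun e => h.pp.one_lt.ne (by rw [← oz, e, orderOf_one])
  rw [← cent_zpowers, ← h2]
  exact mem_cent1_comm.1 (cent_le_cent1 bY' hz.2)

theorem star {g x : G} (gH : g ∈ 𝐂[t]) (gR : g ∉ 𝐍(L)) (h1 : x ∈ 𝐂[b])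
    (h2 : x ∈ 𝐂[g * b * g⁻¹]) : x ∈ 𝐂[t] :=
  h.cent_K (h.cb h1) h.ha.1 h.a1 (mem_cent1_comm.1 ((sup_le (zpowers_le.2 (mem_cent1_comm.1 h1))
    (zpowers_le.2 (mem_cent1_comm.1 h2)) : _ ≤ 𝐂[x]) (h.a_mem_closure gH gR)))

theorem step {x d d' : G} (xL : x ∈ L) (dH : d ∈ 𝐂[t]) (dR : d ∉ 𝐍(L)) (d'H : d' ∈ 𝐂[t])
    (e : (x * d')⁻¹ * d ∈ 𝐍(L)) : x ∈ 𝐂[t] := by
  have jL : x * t * x⁻¹ ∈ L := mul_mem (mul_mem xL h.cl.tL) (inv_mem xL)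
  have h1 : x⁻¹ * (d * b * d⁻¹) * x ∈ 𝐂[t] := by
    have := mul_mem (mul_mem d'H (zpowers_le.2 (h.QH h.hb.1) (h.conj_b e))) (inv_mem d'H)
    rwa [show d' * ((x * d')⁻¹ * d * b * ((x * d')⁻¹ * d)⁻¹) * d'⁻¹ = x⁻¹ * (d * b * d⁻¹) * x by
      group] at this
  have h2 : d * b * d⁻¹ ∈ 𝐂[x * t * x⁻¹] := by rw [cent1_conj]; exact mem_conj.2 h1
  refine mem_cent1_iff_conj.2 (h.eq_t jL (fun e => h.t1 (conj_eq_one_iff.1 e)) (conj_sq h.tt)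
    h.ha.1 h.a1 (mem_cent1_comm.1 ?_))
  exact (sup_le (zpowers_le.2 (mem_cent1_comm.1 (h.Lb jL))) (zpowers_le.2 h2) : _ ≤ 𝐂[_])
    (h.a_mem_closure dH dR)

theorem Mb : L ⊔ zpowers b ≤ 𝐂[b] := sup_le h.Lb (zpowers_le.2 (self_mem_cent1 b))

theorem EM : 𝐄 ≤ L ⊔ zpowers b := sup_le_sup_right (zpowers_le.2 h.aL) _

theorem invol_mem {j : G} (hj : j ∈ L ⊔ zpowers b) (jj : j * j = 1) : j ∈ L := by
  obtain ⟨x, hx, c, hc, e⟩ := (mem_sup_of_norm (zpowers_le.2 h.bR)).1 hj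
  have h1 : j ^ p = x ^ p := by
    rw [← e, Commute.mul_pow (mem_cent.1 (zpowers_le.2 h.bL hc) x hx), pow_mem_eq_one h.ob hc,
      mul_one]
  obtain ⟨n, hn⟩ := h.oddp
  rw [hn, pow_succ, pow_mul, sq, jj, one_pow, one_mul] at h1
  exact h1 ▸ pow_mem hx _

theorem mid {n b₁ b₂ : G} (o₁ : Odd (orderOf b₁)) (o₂ : Odd (orderOf b₂))
    (h1 : zpowers b₁ ⊔ zpowers b₂ ≤ L ⊔ zpowers b)
    (h2 : zpowers b₁ ⊔ zpowers b₂ ≤ (L ⊔ zpowers b) ^ᵍ n)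
    (ev : 2 ∣ 𝐨((zpowers b₁ ⊔ zpowers b₂ : Subgroup G))) : n ∈ 𝐍(L) := by
  obtain ⟨j, hj, oj⟩ := exists_mem_orderOf_eq_prime Nat.prime_two ev
  have jj : j * j = 1 := by rw [← sq, ← oj, pow_orderOf_eq_one]
  have j1 : j ≠ 1 := fun e => by simp [e] at oj
  obtain ⟨x, xL, ex⟩ := h.cl.conj j (h.invol_mem (h1 hj) jj) j1 jj
  obtain ⟨x', xL', ex'⟩ := h.cl.conj (n⁻¹ * j * n) (h.invol_mem (mem_conj.1 (h2 hj))
    (by simpa using conj_sq (g := n⁻¹) jj)) (fun e => j1 (by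
      simpa using conj_eq_one_iff.1 (show n⁻¹ * j * n⁻¹⁻¹ = 1 by simpa using e)))
    (by simpa using conj_sq (g := n⁻¹) jj)
  have gH : x⁻¹ * n * x' ∈ 𝐂[t] := mem_cent1_iff_conj.2 (by
    rw [show x⁻¹ * n * x' * t * (x⁻¹ * n * x')⁻¹ = x⁻¹ * n * (x' * t * x'⁻¹) * n⁻¹ * x by group,
      ex', ← ex]
    group)
  by_contra hn
  have gR : x⁻¹ * n * x' ∉ 𝐍(L) := fun e =>
    hn ((mul_mem_cancel_left (inv_mem (h.cl.LR xL))).1 ((mul_mem_cancel_right (h.cl.LR xL')).1 e))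
  have key : ∀ c ∈ zpowers b₁ ⊔ zpowers b₂, Odd (orderOf c) → c ∈ U ^ᵍ x := fun c hc oc => by
    refine mem_conj.2 (h.mem_U (h.star gH gR ?_ ?_) ?_)
    · exact mul_mem (mul_mem (inv_mem (h.Lb xL)) (h.Mb (h1 hc))) (h.Lb xL)
    · rw [cent1_conj, mem_conj, show (x⁻¹ * n * x')⁻¹ * (x⁻¹ * c * x) * (x⁻¹ * n * x') =
        x'⁻¹ * (n⁻¹ * c * n) * x' by group]
      exact mul_mem (mul_mem (inv_mem (h.Lb xL')) (h.Mb (mem_conj.1 (h2 hc)))) (h.Lb xL')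
    · rwa [show x⁻¹ * c * x = MulAut.conj x⁻¹ c by simp, MulEquiv.orderOf_eq]
  have h3 : zpowers b₁ ⊔ zpowers b₂ ≤ U ^ᵍ x :=
    sup_le (zpowers_le.2 (key _ (mem_sup_left (mem_zpowers _)) o₁))
      (zpowers_le.2 (key _ (mem_sup_right (mem_zpowers _)) o₂))
  exact j1 (eq_one_of_odd (by rw [card_conj]; exact h.dh.odd) (h3 hj) jj)

theorem even {x z₁ z₂ : G} (xL : x ∈ L) (h1 : z₁ ∈ 𝐄) (n1 : z₁ ∉ zpowers b) (h2 : z₂ ∈ 𝐄)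
    (n2 : z₂ ∉ zpowers b) (ev : ¬ Odd 𝐨(closure ({a, x * a * x⁻¹} : Set G))) :
    2 ∣ 𝐨((zpowers z₁ ⊔ zpowers (x * z₂ * x⁻¹) : Subgroup G)) := by
  set X := zpowers z₁ ⊔ zpowers (x * z₂ * x⁻¹) with hX
  have Xb : X ≤ 𝐂[b] := sup_le (zpowers_le.2 (h.Eb h1))
    (zpowers_le.2 (mul_mem (mul_mem (h.Lb xL) (h.Eb h2)) (inv_mem (h.Lb xL))))
  have hc := card_sup_mul_card_inf
    ((zpowers_le.2 (mem_cent_iff_cent1.2 Xb)).trans (cent_le_norm X))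
  have h3 : closure ({a, x * a * x⁻¹} : Set G) ≤ X ⊔ zpowers b := by
    rw [closure_le]
    rintro _ (rfl | rfl)
    · exact h.a_mem (mem_sup_right (mem_zpowers b)) (mem_sup_left (mem_sup_left (mem_zpowers _)))
        h1 n1
    · have := h.a_mem (Y := (X ⊔ zpowers b) ^ᵍ x⁻¹) (mem_conj.2 (by
        rw [inv_inv, mem_cent1_iff_conj.1 (h.Lb xL)]
        exact mem_sup_right (mem_zpowers b))) (mem_conj.2 (by
        rw [inv_inv]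
        exact mem_sup_left (mem_sup_right (mem_zpowers _)))) h2 n2
      simpa using mem_conj.1 this
  by_contra h4
  rw [h.card_b] at hc
  exact ev (((Nat.odd_iff.2 (by omega) : Odd 𝐨(X)).mul h.oddp).of_dvd_nat
    ((Subgroup.card_dvd_of_le h3).trans (Dvd.intro _ hc)))

end TD

end Cfsg.Agent.P15
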