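/-
P15, chapter Count.
-/
import Cfsg.Agent.P15.Count1

set_option autoImplicit false
set_option linter.unusedSectionVars false

namespace Cfsg.Agent.P15

open Subgroup Cfsg Cfsg.Agent Cfsg.Agent.FT
open Cfsg.Agent.P5 (V4 Tri inv_eq_of_sq eq_one_of_odd)

universe u

variable {G : Type u} [Group G] [Finite G]

theorem out_eq {X Y : Subgroup G} {c c' : X ⧸ Y.subgroupOf X} (h : (c.out : G)⁻¹ * c'.out ∈ Y) :
    c = c' := by
  rw [← c.out_eq', ← c'.out_eq']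
  exact QuotientGroup.eq.2 h

theorem num_NM {k l : ℕ} (hk : 6 ≤ k) (h : l = k + 1 ∨ l + 1 = k) :
    2 * k ^ 6 ≤ ((k + l) * l) ^ 2 * ((k + l) * l - (2 * (k + l) + 1)) := by
  have h1 : 3 * k ^ 2 ≤ 2 * ((k + l) * l) := by rcases h with rfl | rfl <;> nlinarith
  have h2 : 8 * k ^ 2 + 9 * (2 * (k + l) + 1) ≤ 9 * ((k + l) * l) := by
    rcases h with rfl | rfl <;> nlinarith
  have h3 : 8 * k ^ 2 ≤ 9 * ((k + l) * l - (2 * (k + l) + 1)) := by omega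
  have := Nat.mul_le_mul (Nat.pow_le_pow_left h1 2) h3
  nlinarith

namespace TD

variable {U L K : Subgroup G} {y t s a b : G} {w p k l : ℕ} (h : TD U L K y t s a b w p k l)
include h

local notation "𝐄" => (zpowers a ⊔ zpowers b : Subgroup G)
local notation "𝐐" => pCoreOf p U

theorem step' {D : Subgroup G} (hD : D ≤ 𝐂[t]) {c c' : L ⧸ (𝐂[t] : Subgroup G).subgroupOf L}
    {d d' : D ⧸ (𝐍(L) : Subgroup G).subgroupOf D} (hd : (d.out : G) ∉ 𝐍(L))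
    (e : ((c.out : G) * d.out)⁻¹ * (c'.out * d'.out) ∈ 𝐍(L)) : c = c' ∧ d = d' := by
  obtain rfl : c = c' := out_eq (h.step (mul_mem (inv_mem c.out.2) c'.out.2) (hD d.out.2) hd
    (hD d'.out.2) (by
      have := inv_mem e
      rwa [show (((c.out : G) * d.out)⁻¹ * (c'.out * d'.out))⁻¹ =
        ((c.out : G)⁻¹ * c'.out * d'.out)⁻¹ * d.out by group] at this))
  exact ⟨rfl, out_eq (by rwa [mul_inv_rev, mul_assoc, inv_mul_cancel_left] at e)⟩

theorem paths {D : Subgroup G} (hD : D ≤ 𝐂[t] ⊓ 𝐍(𝐄)) :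
    (k + l) * l * ((𝐍(L) : Subgroup G).relIndex D - 1) * (((k + l) * l - (2 * (k + l) + 1)) *
      ((𝐍(L) : Subgroup G).relIndex D - 1)) ≤ (𝐍(L) : Subgroup G).index := by
  classical
  let A := L ⧸ (𝐂[t] : Subgroup G).subgroupOf L
  let B := D ⧸ (𝐍(L) : Subgroup G).subgroupOf D
  let d₀ : B := ((1 : D) : D ⧸ (𝐍(L) : Subgroup G).subgroupOf D)
  let S : Set A := {c | Odd 𝐨(closure ({a, (c.out : G) * a * (c.out : G)⁻¹} : Set G))}
  let f : (A × {d : B // d ≠ d₀}) × ((Sᶜ : Set A) × {d : B // d ≠ d₀}) → G ⧸ (𝐍(L) : Subgroup G) :=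
    fun z => (((z.1.1.out : G) * z.1.2.1.out * ((z.2.1.1.out : G) * z.2.2.1.out) : G) : G ⧸ _)
  have hB : ∀ d : B, d ≠ d₀ → (d.out : G) ∉ 𝐍(L) := fun d hd e => hd (by
    rw [← d.out_eq']
    exact QuotientGroup.eq.2 (by rw [mul_one]; exact inv_mem e))
  have bE : b ∈ 𝐄 := mem_sup_right (mem_zpowers b)
  have hM : ∀ x ∈ L, ∀ z ∈ 𝐄, x * z * x⁻¹ ∈ L ⊔ zpowers b := fun x hx z hz =>
    mul_mem (mul_mem (mem_sup_left hx) (h.EM hz)) (inv_mem (mem_sup_left hx))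
  have oc : ∀ g : G, Odd (orderOf (g * b * g⁻¹)) := fun g => by
    rw [show g * b * g⁻¹ = MulAut.conj g b from rfl, MulEquiv.orderOf_eq, h.ob]
    exact h.oddp
  have hf : Function.Injective f := by
    rintro ⟨⟨c, d, hd⟩, ⟨c₂, hc⟩, d₂, hd₂⟩ ⟨⟨c', d', hd'⟩, ⟨c₂', hc'⟩, d₂', hd₂'⟩ e
    have e1 := QuotientGroup.eq.1 e
    dsimp only at e1
    have n1 := (hD d.out.2).2
    have n2 := (hD d₂.out.2).2
    have n1' := (hD d'.out.2).2
    have n2' := (hD d₂'.out.2).2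
    have xL := c.out.2
    have xL' := c'.out.2
    have x2 := c₂.out.2
    have x2' := c₂'.out.2
    have r1 := hB d hd
    have r2 := hB d₂ hd₂
    have e2 : ((c.out : G) * d.out)⁻¹ * (c'.out * d'.out) ∈ 𝐍(L) := by
      have ev := h.even x2 (cjn (inv_mem n1) bE) (fun e => r1 (inv_mem_iff.1 (h.mem_R e)))
        (cjn n2 bE) (fun e => r2 (h.mem_R e)) hc
      generalize (c.out : G) = x at *
      generalize (c'.out : G) = x' at *
      generalize (c₂.out : G) = v at *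
      generalize (c₂'.out : G) = v' at *
      generalize (d.out : G) = g at *
      generalize (d'.out : G) = g' at *
      generalize (d₂.out : G) = u at *
      generalize (d₂'.out : G) = u' at *
      refine h.mid (oc _) (by simpa [mul_assoc] using oc (v * u)) (sup_le (zpowers_le.2
        (h.EM (cjn (inv_mem n1) bE))) (zpowers_le.2 (hM _ x2 _ (cjn n2 bE))))
        (sup_le (zpowers_le.2 (mem_conj.2 ?_)) (zpowers_le.2 (mem_conj.2 ?_))) ev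
      · have := h.EM (cjn' n1' (show x'⁻¹ * x * b * (x'⁻¹ * x)⁻¹ ∈ 𝐄 by
          rwa [mem_cent1_iff_conj.1 (h.Lb (mul_mem (inv_mem xL') xL))]))
        rwa [show g'⁻¹ * (x'⁻¹ * x * b * (x'⁻¹ * x)⁻¹) * g' = ((x * g)⁻¹ * (x' * g'))⁻¹ *
            (g⁻¹ * b * g⁻¹⁻¹) * ((x * g)⁻¹ * (x' * g')) by group] at this
      · have := hM _ x2' _ (cjn n2' (mem_sup_right (h.conj_b (inv_mem e1))))
        rwa [show v' * (u' * (((x * g * (v * u))⁻¹ * (x' * g' * (v' * u')))⁻¹ * b *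
          ((x * g * (v * u))⁻¹ * (x' * g' * (v' * u')))⁻¹⁻¹) * u'⁻¹) * v'⁻¹ =
          ((x * g)⁻¹ * (x' * g'))⁻¹ * (v * (u * b * u⁻¹) * v⁻¹) * ((x * g)⁻¹ * (x' * g')) by
            group] at this
    obtain ⟨rfl, rfl⟩ := h.step' (hD.trans inf_le_left) r1 e2
    obtain ⟨rfl, rfl⟩ := h.step' (c := c₂) (c' := c₂') (d' := d₂') (hD.trans inf_le_left) r2 (by
      rwa [mul_inv_rev, mul_assoc, inv_mul_cancel_left] at e1)
    rfl
  have h1 := Nat.card_le_card_of_injective f hf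
  have h2 : Nat.card {d : B // d ≠ d₀} + 1 = (𝐍(L) : Subgroup G).relIndex D := by
    rw [← Finite.card_option, Nat.card_congr (Equiv.optionSubtypeNe d₀)]
    rfl
  have h3 : Nat.card A = (k + l) * l := h.c2.idx
  have h4 : S.ncard ≤ 2 * (k + l) + 1 :=
    le_trans (Set.ncard_le_ncard_of_injOn (fun c : A => (c.out : G) * t * (c.out : G)⁻¹)
      (fun c hc => by exact ⟨c.out, c.out.2, rfl, hc⟩) (fun c _ c' _ e => out_eq (mem_cent1_iff_conj.2 (by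
        dsimp only at e
        rw [show (c.out : G)⁻¹ * c'.out * t * ((c.out : G)⁻¹ * c'.out)⁻¹ =
          (c.out : G)⁻¹ * (c'.out * t * (c'.out : G)⁻¹) * c.out by group, ← e]
        group)))) (h.c2.good a h.ha.1 (h.oa ▸ h.pp))
  have h5 := Set.ncard_add_ncard_compl S
  rw [Nat.card_prod, Nat.card_prod, Nat.card_prod, Nat.eq_sub_of_add_eq h2, h3,
    Nat.card_coe_set_eq] at h1
  exact (Nat.mul_le_mul_left _ (Nat.mul_le_mul_right _ (by omega))).trans h1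

theorem three_le : 3 ≤ p := by have := h.pp.two_le; have := h.p2; omega

theorem p_dvd : p ∣ 𝐨(K) := h.oa ▸ orderOf_dvd_card_of_mem h.ha.1

theorem two_p : 2 * p ≤ k :=
  Nat.le_of_dvd (by have := h.c2.three; have := h.c2.num; omega)
    ((Nat.mul_dvd_mul_left 2 h.p_dvd).trans h.c2.dvd)

theorem nums : 64 * (𝐂[t] : Subgroup G).index ≤ 45 * (w * (kk U s + kk U (s * y))) ^ 2 ∧
    kk U (s * y) < 6 * kk U s ∧ kk U s < 6 * kk U (s * y) := by
  have := h.gf.num _ _ _ _ h.dh.pw (h.dh.odd.of_dvd_nat (relIndex_dvd_card' _ _))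
    (h.dh.odd.of_dvd_nat (relIndex_dvd_card' _ _)) (h.gf.ch _ _ _ _ _ _ h.dh)
  rw [relIndex_top_right] at this
  exact ⟨this.2.1, this.2.2.1, this.2.2.2.1⟩

theorem main_ineq {D : Subgroup G} (hD : D ≤ 𝐂[t] ⊓ 𝐍(𝐄)) :
    128 * ((𝐍(L) : Subgroup G).relIndex D - 1) ^ 2 * k ^ 6 ≤
      45 * ((𝐍(L) : Subgroup G).relIndex 𝐂[t] * (w * (kk U s + kk U (s * y))) ^ 2) := by
  have h1 := h.paths hD
  have h2 := num_NM (by have := h.two_p; have := h.three_le; omega) h.c2.num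
  have h3 := h.nums.1
  have h4 : (k + l) * l * (𝐍(L) : Subgroup G).index ≤
      (𝐍(L) : Subgroup G).relIndex 𝐂[t] * (𝐂[t] : Subgroup G).index := by
    rw [← inf_relIndex_right 𝐍(L), relIndex_mul_index inf_le_right,
      ← relIndex_mul_index (inf_le_left : 𝐍(L) ⊓ 𝐂[t] ≤ 𝐍(L)), inf_relIndex_left, ← h.c2.idx]
    exact Nat.mul_le_mul_right _ (relIndex_le_of_le_right h.cl.LR index_ne_zero_of_finite)
  generalize (k + l) * l - (2 * (k + l) + 1) = M at *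
  generalize (k + l) * l = N at *
  generalize (𝐍(L) : Subgroup G).relIndex D - 1 = μ at *
  calc 128 * μ ^ 2 * k ^ 6 = 64 * μ ^ 2 * (2 * k ^ 6) := by ring
    _ ≤ 64 * μ ^ 2 * (N ^ 2 * M) := Nat.mul_le_mul_left _ h2
    _ = 64 * (N * (N * μ * (M * μ))) := by ring
    _ ≤ 64 * _ := Nat.mul_le_mul_left _ ((Nat.mul_le_mul_left _ h1).trans h4)
    _ = _ * (64 * _) := by ring
    _ ≤ _ := Nat.mul_le_mul_left _ h3
    _ = _ := by ring

theorem wk_le : w * kk U s ≤ 2 * ((𝐍(L) : Subgroup G).relIndex 𝐂[t] * k) := by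
  obtain ⟨n, rfl, d⟩ := h.ch
  have h1 := d.relIndex_s
  have h2 := relIndex_mul_relIndex (𝐍(L) ⊓ 𝐂[t] ⊓ 𝐂[s]) (𝐍(L) ⊓ 𝐂[t]) 𝐂[t] inf_le_left inf_le_right
  have h3 : (𝐂[s] : Subgroup G).relIndex 𝐂[t] ≤ (𝐍(L) ⊓ 𝐂[t] ⊓ 𝐂[s] : Subgroup G).relIndex 𝐂[t] :=
    relIndex_le_of_le_left inf_le_right index_ne_zero_of_finite
  rw [top_inf_eq] at h1
  rw [inf_relIndex_left, inf_relIndex_right] at h2
  rw [← h2, h1] at h3
  have := Nat.mul_le_mul_right ((𝐍(L) : Subgroup G).relIndex 𝐂[t]) (h.c2.cls s h.sL h.v4)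
  rw [pow_succ', mul_assoc]
  exact Nat.mul_le_mul_left _ (h3.trans (this.trans_eq (mul_comm _ _)))

theorem not_normal : ¬ 𝐂[t] ≤ 𝐍(𝐄) := fun hn => by
  have h1 := h.main_ineq (le_inf le_rfl hn)
  have h2 := h.wk_le
  have h3 := h.nums.2.1
  have h4 : (𝐍(L) : Subgroup G).relIndex 𝐂[t] ≤ p * p :=
    (Nat.card_le_card_of_injective (fun c : 𝐂[t] ⧸ (𝐍(L) : Subgroup G).subgroupOf 𝐂[t] =>
      (⟨c.out * b * (c.out : G)⁻¹, cjn (hn c.out.2) (mem_sup_right (mem_zpowers b))⟩ : 𝐄))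
      fun c c' e => out_eq (h.cb (mem_cent1_iff_conj.2 (by
        have e : (c.out : G) * b * (c.out : G)⁻¹ = c'.out * b * (c'.out : G)⁻¹ :=
          congrArg Subtype.val e
        rw [show (c.out : G)⁻¹ * c'.out * b * ((c.out : G)⁻¹ * c'.out)⁻¹ =
          (c.out : G)⁻¹ * (c'.out * b * (c'.out : G)⁻¹) * c.out by group, ← e]
        group)))).trans h.card_E
  have h5 : (𝐍(L) : Subgroup G).relIndex 𝐂[t] ≠ 1 := fun e => h.nH (relIndex_eq_one.1 e)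
  have h6 : (𝐍(L) : Subgroup G).relIndex 𝐂[t] ≠ 0 := index_ne_zero_of_finite
  obtain ⟨μ, e⟩ : ∃ μ, (𝐍(L) : Subgroup G).relIndex 𝐂[t] = μ + 2 :=
    Nat.exists_eq_add_of_le' (by omega)
  have h7 := h.two_p
  have h8 := h.three_le
  rw [e] at h1 h2 h4
  rw [show μ + 2 - 1 = μ + 1 from rfl] at h1
  have h9 : w * (kk U s + kk U (s * y)) ≤ 14 * ((μ + 2) * k) := by
    have := Nat.mul_le_mul_left w (show kk U s + kk U (s * y) ≤ 7 * kk U s by omega)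
    linarith
  have a1 := h1.trans (Nat.mul_le_mul_left _ (Nat.mul_le_mul_left _ (Nat.pow_le_pow_left h9 2)))
  have a2 : (μ + 2) ^ 3 ≤ (μ + 8) * (μ + 1) ^ 2 := by nlinarith
  have a3 : (μ + 1) ^ 2 * k ^ 2 * (128 * k ^ 4) ≤ (μ + 1) ^ 2 * k ^ 2 * (8820 * (μ + 8)) := by
    have := Nat.mul_le_mul_left (8820 * k ^ 2) a2
    linarith
  have a4 := Nat.le_of_mul_le_mul_left a3 (by have : 0 < k := by omega
                                              positivity)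
  have a5 : 4 * (μ + 2) ≤ k ^ 2 := by nlinarith
  have a6 : 36 ≤ k ^ 2 := by nlinarith
  nlinarith

theorem count : 16 * p ^ 6 * k ^ 2 <
    (𝐍(L) : Subgroup G).relIndex 𝐂[t] * (w * (kk U s + kk U (s * y))) ^ 2 := by
  have h0 : 𝐐 ⊓ 𝐍(L) < 𝐐 := lt_of_le_of_ne inf_le_left fun e =>
    h.not_normal (((h.HQ h.pp).trans_eq (by rw [e])).trans h.norm_E)
  have h1 := lt_inf_norm_of_isNilpotent (isNilpotent_of_isPGroup h.pp (H2.isPGroup_pCoreOf p U)) h0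
  have h2 := h.main_ineq (inf_le_inf h.QH h.norm_E)
  obtain ⟨n, hn⟩ := exists_card_eq_pow h.pp
    ((H2.isPGroup_pCoreOf p U).to_le (inf_le_left : 𝐐 ⊓ 𝐍((𝐐 ⊓ 𝐍(L) : Subgroup G)) ≤ _))
  obtain ⟨i, -, hi⟩ := (Nat.dvd_prime_pow h.pp).1 (hn ▸ relIndex_dvd_card' 𝐍(L) _)
  have h3 : p ≤ p ^ i := Nat.le_self_pow (fun e => h1.not_ge
    (le_inf inf_le_left (relIndex_eq_one.1 (by rw [hi, e, pow_zero])))) p
  have h7 := h.two_p
  have h8 := h.three_le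
  rw [hi] at h2
  obtain ⟨r, rfl⟩ : ∃ r, p = r + 1 := ⟨p - 1, by omega⟩
  have a1 : r ^ 2 ≤ ((r + 1) ^ i - 1) ^ 2 := Nat.pow_le_pow_left (by omega) 2
  have a2 : (2 * (r + 1)) ^ 4 ≤ k ^ 4 := Nat.pow_le_pow_left h7 4
  have a3 : 45 * (r + 1) ^ 2 < 128 * r ^ 2 := by nlinarith
  have a4 : 0 < 16 * (r + 1) ^ 4 * k ^ 2 := by have : 0 < k := by omega
                                               positivity
  refine Nat.lt_of_mul_lt_mul_left (a := 45) (lt_of_lt_of_le ?_ h2)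
  calc _ = 16 * (r + 1) ^ 4 * k ^ 2 * (45 * (r + 1) ^ 2) := by ring
    _ < 16 * (r + 1) ^ 4 * k ^ 2 * (128 * r ^ 2) := Nat.mul_lt_mul_of_pos_left a3 a4
    _ = 128 * r ^ 2 * ((2 * (r + 1)) ^ 4 * k ^ 2) := by ring
    _ ≤ 128 * ((r + 1) ^ i - 1) ^ 2 * (k ^ 4 * k ^ 2) :=
      Nat.mul_le_mul (Nat.mul_le_mul_left _ a1) (Nat.mul_le_mul_right _ a2)
    _ = _ := by ring

end TD

theorem countStmt : CountStmt.{u} := fun _ _ _ _ _ _ _ _ _ _ _ _ _ _ _ h =>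
  ⟨h.not_normal, h.count⟩

end Cfsg.Agent.P15
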