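/-
P15: groups with the local data of `A₇`.
-/
import Cfsg.Agent.P15.BarL
import Cfsg.Agent.P15.Bas0
import Cfsg.Agent.P15.Ch

set_option autoImplicit false
set_option linter.unusedSectionVars false

namespace Cfsg.Agent.P15

open Subgroup Cfsg Cfsg.Agent Cfsg.Agent.FT
open Cfsg.Agent.H2 (pPrimeCoreOf)
open Cfsg.Agent.P5 (V4 Tri cj)
open scoped commutatorElement

universe u

namespace K7

variable {X : Type u} [Group X] [Finite X]

theorem map {Y : Type u} [Group Y] {L U : Subgroup Y} {y t s : Y} (h : A7 L U y t s) (f : Y →* X)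
    (hf : Function.Injective f) : A7 (L.map f) (U.map f) (f y) (f t) (f s) := by
  have c1 : ∀ a b : Y, f a ∈ 𝐂[f b] ↔ a ∈ 𝐂[b] := fun a b => by
    rw [mem_cent1, mem_cent1, ← map_mul, ← map_mul, hf.eq_iff]
  have nm : ∀ (K : Subgroup Y) (a : Y), a ∈ 𝐍(K) → f a ∈ 𝐍(K.map f) := fun K a ha =>
    le_normalizer_map f (mem_map_of_mem f ha)
  have d := h.dh
  refine ⟨⟨mem_map_of_mem f d.yX, mem_map_of_mem f d.sX, by rw [orderOf_injective f hf, d.ord],
    d.pw, by rw [← map_pow, d.ty], by rw [← map_mul, d.ss, map_one], fun e => d.sy ?_,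
    by rw [← map_mul, ← map_mul, d.inv, map_inv], map_mono d.UX, ?_,
    by rw [card_map_of_injective hf]; exact d.odd, nm _ _ d.yU, nm _ _ d.sU, ?_, ?_⟩,
    by rw [card_map_of_injective hf, h.cU], ?_, ?_, fun M h1 h2 => ?_,
    by rw [card_map_of_injective hf, h.card]⟩
  · rwa [← MonoidHom.map_zpowers, mem_map_iff_mem hf] at e
  · rintro _ ⟨a, ha, rfl⟩; exact (c1 a t).2 (d.Ut ha)
  · rintro _ ⟨⟨g, hg, rfl⟩, e⟩
    obtain ⟨a, ha, z, hz, e'⟩ := d.cover g ⟨hg, (c1 g t).1 e⟩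
    refine ⟨f a, mem_map_of_mem f ha, f z, MonoidHom.map_zpowers f y ▸ mem_map_of_mem f hz, ?_⟩
    rcases e' with rfl | rfl <;> simp
  · rintro _ ⟨j, hj, rfl⟩ j1 jj
    obtain ⟨g, hg, rfl⟩ := d.conj j hj (fun e => j1 (by rw [e, map_one]))
      (hf (by rw [map_mul, jj, map_one]))
    exact ⟨f g, mem_map_of_mem f hg, by simp⟩
  · rintro _ ⟨a, ha, rfl⟩; exact (c1 a s).2 (h.cs ha)
  · rintro _ ⟨a, ha, rfl⟩; rw [← map_inv, ← map_mul, ← map_mul, h.iy a ha, map_inv]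
  · have e : (M.comap f).map f = M := map_comap_eq_self (h2.trans (map_le_range f L))
    refine (h.max (M.comap f) (fun g hg => h1 ⟨mem_map_of_mem f hg.1, (c1 g t).2 hg.2⟩)
      fun g hg => (mem_map_iff_mem hf).1 (h2 hg)).imp (fun a => by rw [← e, a]) fun a => ?_
    rw [← e, VV, ← Set.image_pair, ← MonoidHom.map_closure]
    rintro _ ⟨g, hg, rfl⟩
    exact nm _ _ (a hg)

theorem tri_of_class (dc : DC X) {t s g g' : X} (hV : V4 t s) (e : g * t * g⁻¹ = s)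
    (e' : g' * t * g'⁻¹ = t * s) : ∃ x, Tri x t s := by
  obtain ⟨a, ha, e1⟩ := BL.fuse dc hV e
  obtain ⟨b, hb, e2⟩ := BL.fuse dc (BL.v4_mul hV) e'
  rw [VV_mul] at hb
  rcases hV.mem_iff.1 ((mem_normalizer_iff.1 ha s).1 V4.s_mem) with c | c | c | c
  · exact absurd (conj_eq_one_iff.1 c) hV.s1
  · rcases hV.mem_iff.1 ((mem_normalizer_iff.1 hb s).1 V4.s_mem) with d | d | d | d
    · exact absurd (conj_eq_one_iff.1 d) hV.s1
    · refine ⟨b * b, ?_, ?_⟩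
      · calc b * b * t * (b * b)⁻¹ = b * (b * t * b⁻¹) * b⁻¹ := by group
          _ = b * (t * s) * b⁻¹ := by rw [e2]
          _ = b * t * b⁻¹ * (b * s * b⁻¹) := by group
          _ = s := by rw [e2, d, hV.comm.eq, mul_assoc, hV.tt, mul_one]
      · calc b * b * s * (b * b)⁻¹ = b * (b * s * b⁻¹) * b⁻¹ := by group
          _ = _ := by rw [d, e2]
    · refine ⟨b * a, ?_, ?_⟩
      · calc b * a * t * (b * a)⁻¹ = b * (a * t * a⁻¹) * b⁻¹ := by group
          _ = _ := by rw [e1, d]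
      · calc b * a * s * (b * a)⁻¹ = b * (a * s * a⁻¹) * b⁻¹ := by group
          _ = _ := by rw [c, e2]
    · exact absurd (by simpa using e2.trans d.symm : t = s) hV.ts
  · exact absurd (by simpa using e1.trans c.symm : t = s) hV.ts
  · exact ⟨a, e1, c⟩

theorem cent_or_inv {U : Subgroup X} (hU : 𝐨(U) = 3) {g : X} (hg : g ∈ 𝐍(U)) :
    g ∈ 𝐂(U) ∨ ∀ a ∈ U, g * a * g⁻¹ = a⁻¹ := by
  classical
  obtain ⟨b, hb, b1⟩ := (bot_or_exists_ne_one U).resolve_left fun e => by simp [e] at hU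
  have ob : orderOf b = 3 := ((Nat.dvd_prime Nat.prime_three).1
    (hU ▸ orderOf_dvd_card_of_mem hb)).resolve_left (mt orderOf_eq_one_iff.1 b1)
  have e : zpowers b = U := H1.eq_of_le_of_card_le (zpowers_le.2 hb)
    (by rw [hU, Nat.card_zpowers, ob])
  have h1 := (mem_normalizer_iff.1 hg b).1 hb
  rw [← e, mem_zpowers_iff_mem_range_orderOf, ob, Finset.mem_image] at h1
  obtain ⟨k, hk, h1⟩ := h1
  rw [Finset.mem_range] at hk
  interval_cases k
  · exact absurd (by simpa using h1.symm) b1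
  · left
    rw [← e, cent_zpowers]
    exact mem_cent1_iff_conj.2 (by simpa using h1.symm)
  · right
    intro a ha
    refine P5.inverts_of_mem_zpowers ?_ (e ▸ ha)
    rw [← h1, eq_inv_iff_mul_eq_one, ← pow_succ]
    exact orderOf_dvd_iff_pow_eq_one.1 ob.dvd

section
variable {L U : Subgroup X} {y t s : X} (h : A7 L U y t s)
include h

theorem ch : Ch.DH L U y t s 0 := DH.toCh (n := 0) h.dh

theorem yy : y * y = t := by rw [← sq]; exact h.dh.ty

theorem v4 {z : X} (hz : z ∈ zpowers y) : V4 t (s * z) := by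
  have c := ch h
  have e : s * z * (s * z) = 1 := by rw [← mul_assoc, c.invK hz, inv_mul_cancel]
  have n : s * z ∉ zpowers y := fun a => h.dh.sy ((mul_mem_cancel_right hz).1 a)
  exact ⟨c.t1, fun a => n (a ▸ one_mem _), fun a => n (a ▸ c.tK), c.tt, e,
    mem_cent1_iff_commute.1 (mul_mem c.sH.2 (c.Kt hz))⟩

theorem v1 : V4 t s := by simpa using v4 h (one_mem _)

theorem mem_U {g : X} (hg : g ∈ L ⊓ 𝐂[t]) (ho : Odd (orderOf g)) : g ∈ U := by
  have c := ch h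
  haveI := (normal_subgroupOf_iff_le_normalizer c.UH).2 c.HU
  have := (U.subgroupOf (L ⊓ 𝐂[t])).pow_index_mem ⟨g, hg⟩
  rw [show (U.subgroupOf (L ⊓ 𝐂[t])).index = 2 ^ 3 from c.idx_U] at this
  exact H8.mem_of_pow_mem_of_coprime ((Nat.coprime_two_right.2 ho).pow_right 3) this

theorem eq_one {a : X} (ha : a ∈ U) (e : a = a⁻¹) : a = 1 :=
  P5.eq_one_of_odd h.dh.odd ha (mul_eq_one_iff_eq_inv.2 e)

theorem ne_bot : U ≠ ⊥ := fun e => by simpa [e] using h.cU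

theorem not_both {g : X} (h1 : g ∈ 𝐂(U)) (h2 : ∀ a ∈ U, g * a * g⁻¹ = a⁻¹) : False := by
  obtain ⟨b, hb, b1⟩ := (bot_or_exists_ne_one U).resolve_left (ne_bot h)
  exact b1 (eq_one h hb ((mem_cent1_iff_conj.1 (cent_le_cent1 hb h1)).symm.trans (h2 b hb)))

theorem cyc : IsCyclic U := by
  haveI := Fact.mk Nat.prime_three
  exact isCyclic_of_prime_card h.cU

theorem UU : U ≤ 𝐂(U) := by
  haveI := isMulComm_of_isCyclic (cyc h)
  exact le_centralizer U

theorem sy_inv {a : X} (ha : a ∈ U) : s * y * a * (s * y)⁻¹ = a⁻¹ := by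
  rw [show s * y * a * (s * y)⁻¹ = s * (y * a * y⁻¹) * s⁻¹ by group, h.iy a ha,
    mem_cent1.1 (h.cs (inv_mem ha)), mul_inv_cancel_right]

theorem sq_ne {z : X} (hz : z ∈ L) (e : z * z = t) : z ∉ 𝐂(U) := fun hc => by
  classical
  have c := ch h
  have zt : z ∈ 𝐂[t] := mem_cent1.2 (by rw [← e, mul_assoc])
  have sU := mem_cent_iff_cent1.2 h.cs
  have tU := mem_cent_iff_cent1.2 h.dh.Ut
  obtain ⟨a, ha, w, hw, e'⟩ := h.dh.cover z ⟨hz, zt⟩
  have h1 : w ∈ 𝐂(U) := by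
    rcases e' with rfl | rfl
    · exact (mul_mem_cancel_left (UU h ha)).1 hc
    · exact (mul_mem_cancel_left (UU h ha)).1 ((mul_mem_cancel_right sU).1 hc)
  have h2 : w * w = 1 := by
    rw [mem_zpowers_iff_mem_range_orderOf, h.dh.ord, Finset.mem_image] at hw
    obtain ⟨k, hk, rfl⟩ := hw
    rw [Finset.mem_range] at hk
    interval_cases k
    · simp
    · exact (not_both h (by simpa using h1) h.iy).elim
    · rw [sq, yy h, c.tt]
    · rw [pow_succ, sq, yy h] at h1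
      exact (not_both h ((mul_mem_cancel_left tU).1 h1) h.iy).elim
  have key : ∀ v ∈ 𝐂(U), v * v = 1 → a * v * (a * v) ≠ t := fun v hv vv e => c.t_notMem (by
    rw [← e, show a * v * (a * v) = a * (v * a) * v by group, ← mem_cent.1 hv a ha,
      show a * (a * v) * v = a * a * (v * v) by group, vv, mul_one]
    exact mul_mem ha ha)
  rcases e' with rfl | rfl
  · exact key w h1 h2 e
  · refine key (w * s) (mul_mem h1 sU) ?_ (by rw [← e, mul_assoc a w])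
    rw [mul_assoc, ← mul_assoc s, c.invK hw, mul_inv_cancel]

variable (hn : L.Normal)
include hn

theorem CU : 𝐂[t] ≤ 𝐍(U) := fun g hg => mem_norm_of_conj_le (by
  rintro _ ⟨a, ha, rfl⟩
  exact mem_U h ⟨hn.conj_mem a (h.dh.UX ha) g, cj hg (h.dh.Ut ha)⟩ (by
    rw [orderOf_injective _ (MulAut.conj g).injective]; exact h.dh.odd.of_dvd_nat (orderOf_dvd_card_of_mem ha)))

theorem syl_le (dc : DC X) {T : Subgroup X} (hT : IsPGroup 2 T) (hy : y ∈ T) (hs : s ∈ T)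
    (hc : T ≤ 𝐂[t]) : T ≤ L := by
  obtain ⟨c, hd⟩ := dc.dd hT
  have h1 : y ∈ zpowers c := by
    by_contra a
    exact (ch h).t1 (by rw [← yy h, hd.sq y hy a])
  have h2 : c ∈ zpowers y := by
    obtain ⟨k, hk⟩ := mem_powers_iff_mem_zpowers.2 h1
    obtain ⟨m, hm⟩ := hT ⟨c, hd.cT⟩
    obtain ⟨j, -, hj⟩ := (Nat.dvd_prime_pow Nat.prime_two).1 (orderOf_dvd_of_pow_eq_one
      (show c ^ 2 ^ m = 1 from congrArg Subtype.val hm))
    refine H8.mem_of_pow_mem_of_coprime (n := k) ?_ (by rw [show c ^ k = y from hk]; exact mem_zpowers y)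
    rw [hj]
    refine (Nat.coprime_two_left.2 ?_).pow_left j
    by_contra hk'
    obtain ⟨i, rfl⟩ := Nat.not_odd_iff_even.1 hk'
    refine not_both h (g := y) ?_ h.iy
    rw [← show c ^ (i + i) = y from hk, ← two_mul, pow_mul, sq]
    refine pow_mem ?_ i
    rcases cent_or_inv h.cU (CU h hn (hc hd.cT)) with a | a
    · exact mul_mem a a
    · refine mem_cent.2 fun b hb => (mul_inv_eq_iff_eq_mul.1 ?_).symm
      calc c * c * b * (c * c)⁻¹ = c * (c * b * c⁻¹) * c⁻¹ := by group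
        _ = _ := by rw [a b hb, a _ (inv_mem hb), inv_inv]
  have h3 : zpowers c ≤ zpowers y := zpowers_le.2 h2
  have h4 : zpowers y ≤ L := zpowers_le.2 h.dh.yX
  intro g hg
  by_cases a : g ∈ zpowers c
  · exact h4 (h3 a)
  · exact (mul_mem_cancel_right h.dh.sX).1 (h4 (h3 (hd.mul g hg s hs a fun b => h.dh.sy (h3 b))))

theorem odd_eq_one (dc : DC X) (hL : 𝐂(L) = ⊥) {c : X} (ho : Odd (orderOf c)) (cy : c ∈ 𝐂[y])
    (cs : c ∈ 𝐂[s]) : c = 1 := by
  have d := ch h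
  have ct : c ∈ 𝐂[t] := mem_cent1_iff_commute.2 (yy h ▸
    ((mem_cent1_iff_commute.1 cy).mul_left (mem_cent1_iff_commute.1 cy)))
  have cU : c ∈ 𝐂(U) := by
    refine mem_of_sq_mem ho ?_
    rcases cent_or_inv h.cU (CU h hn ct) with a | a
    · exact mul_mem a a
    · refine mem_cent.2 fun b hb => (mul_inv_eq_iff_eq_mul.1 ?_).symm
      calc c * c * b * (c * c)⁻¹ = c * (c * b * c⁻¹) * c⁻¹ := by group
        _ = _ := by rw [a b hb, a _ (inv_mem hb), inv_inv]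
  have cH : L ⊓ 𝐂[t] ≤ 𝐂[c] := fun g hg => by
    have y' : zpowers y ≤ 𝐂[c] := zpowers_le.2 (mem_cent1.2 (mem_cent1.1 cy).symm)
    have s' : s ∈ 𝐂[c] := mem_cent1.2 (mem_cent1.1 cs).symm
    have U' := mem_cent_iff_cent1.1 cU
    obtain ⟨a, ha, w, hw, rfl | rfl⟩ := h.dh.cover g hg
    exacts [mul_mem (U' ha) (y' hw), mul_mem (mul_mem (U' ha) (y' hw)) s']
  have hV := v4 h (mem_zpowers y)
  have syL := mul_mem h.dh.sX h.dh.yX
  obtain ⟨x, xL, tri⟩ : ∃ x ∈ L, Tri x t (s * y) := by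
    obtain ⟨g, hg, e⟩ := h.dh.conj _ syL hV.s1 hV.ss
    obtain ⟨g', hg', e'⟩ := h.dh.conj _ (mul_mem d.tX syL) hV.ts1 hV.tsts
    obtain ⟨x, hx⟩ := tri_of_class (dc.subgroup L) (g := ⟨g, hg⟩) (g' := ⟨g', hg'⟩)
      (hV.subtype d.tX syL) (Subtype.ext e) (Subtype.ext e')
    exact ⟨x, x.2, hx.map L.subtype⟩
  have csy : c ∈ 𝐂[s * y] := mem_cent1_iff_commute.2
    ((mem_cent1_iff_commute.1 cs).mul_left (mem_cent1_iff_commute.1 cy))
  have cV : c ∈ 𝐂(VV t (s * y)) := by rw [cent_VV]; exact ⟨ct, csy⟩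
  have hv : c * x * c⁻¹ * x⁻¹ ∈ 𝐂(VV t (s * y)) := by
    rw [mul_assoc, mul_assoc, ← mul_assoc x]
    exact mul_mem cV ((mem_normalizer_iff.1 (H1.normalizer_le_normalizer_centralizer _
      (tri.mem_norm hV)) _).1 (inv_mem cV))
  rw [cent_VV] at hv
  have vL : c * x * c⁻¹ * x⁻¹ ∈ L := mul_mem (hn.conj_mem x xL c) (inv_mem xL)
  obtain ⟨v, e⟩ : ∃ v, v = c * x * c⁻¹ * x⁻¹ := ⟨_, rfl⟩
  rw [← e] at hv vL
  have cv : Commute c v := mem_cent1_iff_commute.1 (cH ⟨vL, hv.1⟩)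
  have key : ∀ n : ℕ, c ^ n * x * (c ^ n)⁻¹ = v ^ n * x := fun n => by
    induction n with
    | zero => simp
    | succ n ih =>
      calc c ^ (n + 1) * x * (c ^ (n + 1))⁻¹ = c * (c ^ n * x * (c ^ n)⁻¹) * c⁻¹ := by group
        _ = v ^ n * (c * x * c⁻¹ * x⁻¹) * x := by
          rw [ih, ← mul_assoc, (cv.pow_right n).eq]; group
        _ = _ := by rw [← e, pow_succ]
  have v1 : v = 1 := by
    have h1 := key (orderOf c)
    rw [pow_orderOf_eq_one, one_mul, inv_one, mul_one, eq_comm, mul_eq_right] at h1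
    have h2 := mem_U h ⟨vL, hv.1⟩ (ho.of_dvd_nat (orderOf_dvd_of_pow_eq_one h1))
    refine eq_one h h2 ?_
    rw [← sy_inv h h2, mem_cent1.1 hv.2, mul_inv_cancel_right]
  have xc : x ∈ 𝐂[c] := mem_cent1.2 (mul_inv_eq_iff_eq_mul.1 (mul_inv_eq_one.1 (e ▸ v1)))
  rcases h.max (L ⊓ 𝐂[c]) (le_inf inf_le_left cH) inf_le_left with a | a
  · exact mem_bot.1 (hL ▸ mem_cent_iff_cent1.2 (a.ge.trans inf_le_right))
  · have h1 := (mem_normalizer_iff.1 (a ⟨xL, xc⟩) t).1 V4.t_mem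
    rw [tri.1] at h1
    refine (not_both h (g := s * y) ?_ fun a ha => sy_inv h ha).elim
    exact V4.le_iff.2 ⟨mem_cent_iff_cent1.2 h.dh.Ut, mem_cent_iff_cent1.2 h.cs⟩ h1

theorem eq_top (dc : DC X) (hL : 𝐂(L) = ⊥) : L = ⊤ := by
  have d := ch h
  have hV := v4 h (mem_zpowers y)
  have syL := mul_mem h.dh.sX h.dh.yX
  have inv : ∀ j ∈ L, j * j = 1 → ∀ a : X, Odd (orderOf a) → j * a * j = a⁻¹ → a ∈ L :=
    fun j hj jj a ho e => mem_of_sq_mem ho (by
      have := mul_mem (hn.conj_mem j hj a) hj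
      rwa [← e, show a * j * (j * a * j) * j = a * (j * j) * a * (j * j) by group, jj, mul_one,
        mul_one] at this)
  have hO : pPrimeCoreOf 2 𝐂[t] ≤ L := fun g hg => by
    have o1 := P5.Mx.odd_O (𝐂[t] : Subgroup X)
    have n1 := H2.le_normalizer_pPrimeCoreOf 2 (𝐂[t] : Subgroup X)
    obtain ⟨b, hb, a, ha, e1, e2, rfl⟩ := P5.Mx.exists_cent_mul_inv o1 d.ss (n1 d.sH.2) hg
    refine mul_mem ?_ (inv s d.sX d.ss a (o1.of_dvd_nat (orderOf_dvd_card_of_mem ha)) e2)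
    have o2 : Odd 𝐨((pPrimeCoreOf 2 𝐂[t] ⊓ 𝐂[s] : Subgroup X)) := P5.Mx.odd_of_le inf_le_left o1
    have n2 : s * y ∈ 𝐍((pPrimeCoreOf 2 𝐂[t] ⊓ 𝐂[s] : Subgroup X)) := mem_norm_of_conj_le (by
      rintro _ ⟨a, ha, rfl⟩
      refine ⟨(mem_normalizer_iff.1 (n1 (mem_cent1_iff_commute.2 hV.comm)) a).1 ha.1, ?_⟩
      have e : s * y * (t * s) * (s * y)⁻¹ = s := by
        rw [← yy h, show s * y * (y * y * s) * (s * y)⁻¹ = s * y * y * y * (s * y⁻¹ * s⁻¹) by group,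
          P5.inverts_of_mem_zpowers (by rw [P5.inv_eq_of_sq d.ss, h.dh.inv])
            (inv_mem (mem_zpowers y)), inv_inv, mul_assoc, mul_assoc, mul_assoc, ← mul_assoc y y,
          yy h, d.tt, mul_one]
      have := conj_mem_conj (mem_cent1_iff_commute.2 ((mem_cent1_iff_commute.1
        (H2.pPrimeCoreOf_le 2 _ ha.1)).mul_left (mem_cent1_iff_commute.1 ha.2))) (s * y)
      rwa [← cent1_conj, e] at this)
    obtain ⟨b', hb', a', ha', e3, e4, rfl⟩ := P5.Mx.exists_cent_mul_inv o2 hV.ss n2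
      (c := b) ⟨hb, mem_cent1_iff_commute.2 e1.symm⟩
    refine mul_mem ?_ (inv _ syL hV.ss a' (o2.of_dvd_nat (orderOf_dvd_card_of_mem ha')) e4)
    rw [odd_eq_one h hn dc hL (o2.of_dvd_nat (orderOf_dvd_card_of_mem hb')) ?_ hb'.2]
    · exact one_mem _
    · have := (mem_cent1_iff_commute.1 hb'.2).mul_left e3.symm
      rw [← mul_assoc, d.ss, one_mul] at this
      exact mem_cent1_iff_commute.2 this
  have hC : 𝐂[t] ≤ L := by
    have p1 : IsPGroup 2 (zpowers y) := IsPGroup.of_card (n := 2)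
      (by rw [Nat.card_zpowers, h.dh.ord]; rfl)
    have p2 : IsPGroup 2 (zpowers y ⊔ zpowers s : Subgroup X) :=
      IsPGroup.to_sup_of_normal_left' p1 (P5.isPGroup_zpowers_of_sq d.ss) (zpowers_le.2
        (mem_norm_of_conj_le (by
          rw [← zpowers_conj, P5.inv_eq_of_sq d.ss, h.dh.inv, zpowers_inv])))
    obtain ⟨T, hT, k⟩ := exists_isSyl_ge Nat.prime_two p2 (sup_le d.Kt (zpowers_le.2 d.sH.2))
    rw [← ((dc.npc_cent d.t1 d.tt).sdProd Nat.prime_two hT).sup]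
    exact sup_le hO (syl_le h hn dc hT.pgrp (k (mem_sup_left (mem_zpowers y)))
      (k (mem_sup_right (mem_zpowers s))) hT.le)
  refine eq_top_iff.2 fun g _ => ?_
  obtain ⟨l, hl, e⟩ := h.dh.conj _ (hn.conj_mem t d.tX g) (mt conj_eq_one_iff.1 d.t1)
    (by rw [conj_mul, d.tt, mul_one, mul_inv_cancel])
  refine (mul_mem_cancel_left (inv_mem hl)).1 (hC (mem_cent1_iff_conj.2 ?_))
  calc l⁻¹ * g * t * (l⁻¹ * g)⁻¹ = l⁻¹ * (g * t * g⁻¹) * l := by group
    _ = t := by rw [← e]; group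

end

theorem exists_at {U : Subgroup X} {y t s : X} (h : A7 ⊤ U y t s) {j : X} (j1 : j ≠ 1)
    (jj : j * j = 1) : ∃ U y s, A7 ⊤ U y j s := by
  obtain ⟨g, -, rfl⟩ := h.dh.conj j trivial j1 jj
  have := map h (MulAut.conj g).toMonoidHom (MulAut.conj g).injective
  rw [map_top_of_surjective _ (MulAut.conj g).surjective] at this
  exact ⟨_, _, _, this⟩

theorem le_cent [IsSimpleGroup X] {U W : Subgroup X} {y t s : X} (h : A7 ⊤ U y t s)
    (ho : Odd 𝐨(W)) (ht : t ∈ 𝐍(W)) {Q : Subgroup X} (Q1 : Q ≠ ⊥) (oQ : Odd 𝐨(Q))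
    (h1 : 𝐂[t] ≤ 𝐍(Q)) (h2 : W ≤ 𝐍(Q)) : W ≤ 𝐂[t] := by
  have hV := v1 h
  have h3 := (h.max 𝐍(Q) (inf_le_right.trans h1) le_top).resolve_left (P5.Mx.norm_ne_top Q1
    fun e => hV.t1 (P5.eq_one_of_odd oQ (e ▸ mem_top t) hV.tt))
  intro w hw
  have h4 : w * t * w⁻¹ * t ∈ VV t s :=
    mul_mem ((mem_normalizer_iff.1 (h3 (h2 hw)) t).1 V4.t_mem) V4.t_mem
  have h5 : w * t * w⁻¹ * t ∈ W := by
    have := mul_mem hw ((mem_normalizer_iff.1 ht _).1 (inv_mem hw))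
    rwa [P5.inv_eq_of_sq hV.tt, ← mul_assoc, ← mul_assoc] at this
  rw [mem_cent1_iff_conj, eq_inv_of_mul_eq_one_left (P5.eq_one_of_odd ho h5 (hV.sq h4)),
    P5.inv_eq_of_sq hV.tt]

theorem bar [IsSimpleGroup X] (dc : DC X) {U : Subgroup X} {y t s : X} (h : A7 ⊤ U y t s) :
    Bar X := by
  refine ⟨fun a b hV p hp p2 Q hQ e hN => ?_, fun a b hV p hp p2 W hW hN => ?_,
    fun a b hV _ _ _ _ _ _ _ _ _ _ _ => ?_⟩
  · obtain ⟨U', y', s', h'⟩ := exists_at h hV.t1 hV.tt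
    have ho := P5.Mx.odd_of_isPGroup hp p2 hQ
    by_contra h0
    exact P5.Mx.not_le_cent1 h0 e (le_cent h' ho (hN (self_mem_cent1 a)) h0 ho hN le_normalizer)
  · by_cases h0 : W = ⊥
    · exact Or.inl (h0 ▸ bot_le)
    have ho := P5.Mx.odd_of_isPGroup hp p2 hW
    have ho' : Odd 𝐨(𝐙(W)) := P5.Mx.odd_of_le inf_le_left ho
    have hN' := hN.trans (norm_le_norm_center W)
    obtain ⟨z, hz, z1, k⟩ := BL.exists_fix hV ho' (center_ne_bot (isNilpotent_of_isPGroup hp hW) h0)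
      (hN' V4.t_mem) (hN' V4.s_mem)
    have key : ∀ v ∈ VV a b, v ≠ 1 → z ∈ 𝐂[v] → W ≤ 𝐂[v] := fun v hv v1 zv => by
      obtain ⟨U', y', s', h'⟩ := exists_at h v1 (hV.sq hv)
      have h1 := mem_U h' ⟨trivial, zv⟩ (ho'.of_dvd_nat (orderOf_dvd_card_of_mem hz))
      have e : zpowers z = U' := H1.eq_of_le_of_card_le (zpowers_le.2 h1) (by
        rw [h'.cU, Nat.card_zpowers, ((Nat.dvd_prime Nat.prime_three).1
          (h'.cU ▸ orderOf_dvd_card_of_mem h1)).resolve_left (mt orderOf_eq_one_iff.1 z1)])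
      refine le_cent h' ho (hN hv) (ne_bot h') h'.dh.odd (CU h' inferInstance) ?_
      rw [← e]
      exact (mem_cent_iff_cent1.1 hz.2).trans (P5.Mx.cent1_le_norm_zpowers z)
    exact k.imp (key a V4.t_mem hV.t1) (Or.imp (key b V4.s_mem hV.s1)
      (key _ (mul_mem V4.t_mem V4.s_mem) hV.ts1))
  · obtain ⟨U', y', s', h'⟩ := exists_at h hV.t1 hV.tt
    obtain ⟨g, -, e⟩ := h'.dh.conj b trivial hV.s1 hV.ss
    exact BL.fuse dc hV e

theorem cl [IsSimpleGroup X] (dc : DC X) {U : Subgroup X} {y t s : X} (h : A7 ⊤ U y t s) :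
    CL ⊤ ⊤ U t ∧ CL7 ⊤ ⊤ U t := by
  have hV := v1 h
  have simple : ∀ N : Subgroup X, N ⊲ ⊤ → N = ⊥ ∨ N = ⊤ := fun N hN =>
    (normalizer_eq_top_iff.1 (top_le_iff.1 hN.2)).eq_bot_or_eq_top
  have tri : ∀ s, V4 t s → ∃ x, Tri x t s := fun s hV => by
    obtain ⟨g, -, e⟩ := h.dh.conj s trivial hV.s1 hV.ss
    obtain ⟨g', -, e'⟩ := h.dh.conj _ trivial hV.ts1 hV.tsts
    exact tri_of_class dc hV e e'
  refine ⟨⟨le_rfl, le_normalizer, trivial, hV.t1, hV.tt, ?_, fun N hN => ?_, h.dh.conj,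
    fun s _ hV => (tri s hV).imp fun x hx => ⟨trivial, hx⟩, ⟨s, trivial, hV⟩,
    le_inf le_top h.dh.Ut, h.dh.odd, cyc h, inf_le_right.trans (CU h inferInstance),
    fun _ _ _ g hg ho _ => mem_U h hg ho, fun s' _ hV' hi p hp p2 Y hY hp' _ a ha => ?_⟩,
    h.cU, fun _ _ _ => le_top, ⟨y, trivial, yy h⟩, fun z _ e => ?_⟩
  · refine (simple _ (der_normal ⊤)).resolve_left fun e => ?_
    obtain ⟨x, hx⟩ := tri s hV
    exact hx.not_commute hV (mem_cent.1 (comm_eq_bot_iff.1 e (mem_top t)) x trivial)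
  · exact (simple N hN).symm.imp_right fun e => by simp [e]
  · have h1 := mem_U h (hY ha.1) ((P5.Mx.odd_of_isPGroup hp p2 hp').of_dvd_nat
      (orderOf_dvd_card_of_mem ha.1))
    rw [eq_one h h1 (by rw [← hi a h1, mem_cent1.1 ha.2, mul_assoc, hV'.ss, mul_one])]
    exact one_mem _
  · exact (cent_or_inv h.cU (CU h inferInstance (mem_cent1.2 (by rw [← e, mul_assoc])))).resolve_left
      (sq_ne h trivial e)

end K7

theorem k7Stmt : K7Stmt.{u} := by
  rintro X _ _ L dc hn hL hs ⟨U, y, t, s, h⟩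
  have h' := K7.map h L.subtype L.subtype_injective
  rw [← MonoidHom.range_eq_map, range_subtype] at h'
  obtain rfl := K7.eq_top h' hn dc hL
  haveI : IsSimpleGroup X := (topEquiv (G := X)).symm.isSimpleGroup
  refine ⟨K7.bar dc h', fun j _ j1 jj => ?_⟩
  obtain ⟨U', y', s', h''⟩ := K7.exists_at h' j1 jj
  exact ⟨U', K7.cl dc h''⟩

end Cfsg.Agent.P15
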