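/-
P15: the facts `D1` and `KA` for groups all of whose simple sections are known.
-/
import Cfsg.Agent.P15.Bas0
import Cfsg.Agent.P7.A0

set_option autoImplicit false
set_option linter.unusedSectionVars false

namespace Cfsg.Agent.P15

open Subgroup Cfsg Cfsg.Agent Cfsg.Agent.FT Cfsg.Agent.P6
open Cfsg.Agent.H2 (pPrimeCoreOf layerOf fstarOf)
open Cfsg.Agent.P5 (V4 Tri)
open scoped commutatorElement

universe u

namespace KD

variable {G : Type u} [Group G] [Finite G]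

theorem odd_cent (h : DC G) {K : Subgroup G} (hK : ¬ Group.IsSolvable K) : Odd 𝐨(𝐂(K)) :=
  odd_of_no_inv fun a ha ia => hK (by
    haveI := h.solv_cent ia.ne ia.sq
    exact L.isSolvable_of_le (B := 𝐂[a]) fun x hx => mem_cent1.2 (mem_cent.1 ha x hx).symm)

theorem layer_eq (h : DC G) {R K : Subgroup G} (hK : H2.CompIn R K) : layerOf R = K := by
  refine le_antisymm ?_ hK.le_layerOf
  rw [H2.layerOf_eq_sSup]
  refine sSup_le fun K' hK' => le_of_eq ?_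
  by_contra hne
  exact H2.QS.not_isSolvable hK'.2 (P4.solvable_of_odd (odd_of_le
    (H2.CompIn.le_centralizer_of_ne hK' hK hne) (odd_cent h (H2.QS.not_isSolvable hK.2))))

theorem kn {n : ℕ} (hI : Ind.{u} n) (h : DC G) (hn : Nat.card G < n) {L : Subgroup G}
    (hs : IsSimpleGroup L) (na : ¬ IsMulCommutative L) :
    (∃ (F : Type) (_ : Field F) (π : H4.SL2.SL F →* G), P7.Cov π L ∧ 3 < Nat.card F) ∨
      ∃ (U : Subgroup L) (y t s : L), A7 ⊤ U y t s := by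
  refine (hI L ((card_le_card_group L).trans_lt hn) hs na (h.subgroup L)).imp_left ?_
  rintro ⟨A, t, s, b⟩
  obtain ⟨F, _, _, hq, ⟨e⟩⟩ := b.exists_psl2
  have ho : Odd (Nat.card F) := by rw [Nat.card_eq_fintype_card, Nat.odd_iff]; omega
  obtain ⟨π, c⟩ := P7.exists_cov e ho
  refine ⟨F, inferInstance, π, c, ?_⟩
  have hc := P3.two_mul_card_PSL2 ho
  rw [← Nat.card_congr e.toEquiv] at hc
  have h1 : 1 < Nat.card F := Finite.one_lt_card
  by_contra h3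
  obtain ⟨m, hm⟩ := ho
  rw [show Nat.card F = 3 by omega] at hc
  exact P5.card_ne_twelve (Agent.L.not_isSolvable_of_isSimpleGroup na) (by omega)

/-- if `O(G) = E(G) = 1` no involution centralizes an element of odd order -/
theorem cit (h : DC G) (hO : pPrimeCoreOf 2 (⊤ : Subgroup G) = ⊥)
    (hE : layerOf (⊤ : Subgroup G) = ⊥) {v : G} (iv : Inv v) {W : Subgroup G} (ho : Odd 𝐨(W))
    (hW : W ≤ 𝐂[v]) : W = ⊥ := by
  have h1 := H2.fittingOf_le_sup Nat.prime_two (⊤ : Subgroup G)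
  rw [hO, sup_bot_eq] at h1
  have hT := H2.isPGroup_pCoreOf 2 (⊤ : Subgroup G)
  have nT := H2.le_normalizer_pCoreOf 2 (⊤ : Subgroup G)
  have hc := P4.coprime_of_odd hT (odd_Od 𝐂[v])
  have h2 : Od 𝐂[v] ≤ 𝐂(pCoreOf 2 (⊤ : Subgroup G)) := by
    refine H1.pxq_lemma iv.isPGroup hT (le_top.trans nT) (le_top.trans nT)
      (P5.Mx.zpowers_le_cent_iff.2 (Od_normal _).1) hc ?_
    rw [cent_zpowers]
    exact P5.Mx.le_cent_of_coprime (inf_le_right.trans (Od_normal _).2)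
      (H1.le_normalizer_inf (le_top.trans nT) ((Od_normal _).1.trans le_normalizer))
      (hc.symm.coprime_dvd_left (Subgroup.card_dvd_of_le inf_le_left))
  have h3 : W ≤ pCoreOf 2 (⊤ : Subgroup G) := ((le_inf le_top (((le_Od_of_npc (h.npc_cent iv.ne iv.sq)
    hW ho).trans h2).trans (cent_anti h1))).trans
      (H2.inf_centralizer_fittingOf_le_of_layerOf_eq_bot hE)).trans h1
  exact eq_bot_iff.2 fun x hx => P4.eq_one_of_odd_of_mem hT (odd_orderOf_of_mem ho hx) (h3 hx)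

theorem bar (hS : SemStmt.{u}) (hB : BarLStmt.{u}) (h7 : K7Stmt.{u}) {n : ℕ} (hI : Ind.{u} n)
    (h : DC G) (hn : Nat.card G < n) (hO : pPrimeCoreOf 2 (⊤ : Subgroup G) = ⊥) : Bar G := by
  by_cases hE : layerOf (⊤ : Subgroup G) = ⊥
  · have key : ∀ t s : G, V4 t s → ∀ p : ℕ, p.Prime → p ≠ 2 → ∀ W : Subgroup G, IsPGroup p W →
        VV t s ≤ 𝐍(W) → W = ⊥ := fun t s v p hp p2 W hW hN =>
      eq_bot_iff.2 (P7.Ax.gen4 v (odd_of_isPGroup hp p2 hW) hN fun c d v' _ => (cit h hO hE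
        (P7.Ax.inv_a v') (odd_of_le inf_le_left (odd_of_isPGroup hp p2 hW)) inf_le_right).le)
    refine ⟨fun t s v p hp p2 Q hQ _ hN => key t s v p hp p2 Q hQ ((P5.V4.le_iff.2
      ⟨self_mem_cent1 t, mem_cent1.2 v.comm⟩).trans hN),
      fun t s v p hp p2 W hW hN => Or.inl (key t s v p hp p2 W hW hN ▸ bot_le),
      fun t s v p hp p2 a b oa _ ha _ _ _ => absurd (cit h hO hE (P7.Ax.inv_a v)
        (by rw [Nat.card_zpowers, oa]; exact hp.odd_of_ne_two p2) (zpowers_le.2 ha)) fun e => ?_⟩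
    rw [zpowers_eq_bot.1 e, orderOf_one] at oa
    exact hp.one_lt.ne oa
  obtain ⟨L, hL⟩ := H2.exists_compIn_of_layerOf_ne_bot hE
  haveI : L.Normal := layer_eq h hL ▸ H2.normal_of_top_le_normalizer (H2.le_normalizer_layerOf ⊤)
  have hC : 𝐂(L) = ⊥ := eq_bot_iff.2 (hO ▸ le_Od ⟨le_top, le_normalizer_of_normal⟩
    (odd_cent h (H2.QS.not_isSolvable hL.2)))
  have hs := H2.isSimpleGroup_of_isQuasisimple hL.2
    ((H2.center_eq_bot_iff_inf_centralizer L).2 (by rw [hC, inf_bot_eq]))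
  rcases kn hI h hn hs (H2.QS.not_isMulCommutative hL.2) with ⟨F, _, π, c, h3⟩ | e
  · exact hB G F π L h ‹_› hC c h3 (hS G F π L h ‹_› hC c h3)
  · exact (h7 G L h ‹_› hC hs e).1

/-- two `V`-invariant `p`-subgroups can be moved into the centralizer of one involution of `V` -/
theorem fuse (b : Bar G) {t s : G} (v : V4 t s) {p : ℕ} (hp : p.Prime) (p2 : p ≠ 2)
    {A B : Subgroup G} (hA : IsPGroup p A) (hB : IsPGroup p B) (nA : VV t s ≤ 𝐍(A))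
    (nB : VV t s ≤ 𝐍(B)) : ∃ n ∈ 𝐍(VV t s), ∃ c ∈ VV t s, Inv c ∧ A ≤ 𝐂[c] ∧ B ^ᵍ n ≤ 𝐂[c] := by
  have k : ∀ W : Subgroup G, IsPGroup p W → VV t s ≤ 𝐍(W) → ∃ c ∈ VV t s, Inv c ∧ W ≤ 𝐂[c] :=
    fun W hW nW => by
      rcases b.k1 t s v p hp p2 W hW nW with e | e | e
      · exact ⟨t, P5.V4.t_mem, P7.Ax.inv_a v, e⟩
      · exact ⟨s, P5.V4.s_mem, P7.Ax.inv_b v, e⟩
      · exact ⟨_, mul_mem P5.V4.t_mem P5.V4.s_mem, P7.Ax.inv_ab v, e⟩
  obtain ⟨c, hc, ic, eA⟩ := k A hA nA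
  obtain ⟨d, hd, jd, eB⟩ := k B hB nB
  by_cases h1 : A ≤ 𝐂[d]
  · exact ⟨1, one_mem _, d, hd, jd, h1, by rwa [conj_one]⟩
  by_cases h2 : B ≤ 𝐂[c]
  · exact ⟨1, one_mem _, c, hc, ic, eA, by rwa [conj_one]⟩
  obtain ⟨x, hx, px, ix⟩ := P7.Ax.exists_inv_prime jd (nA hd) h1
  obtain ⟨y, hy, py, iy⟩ := P7.Ax.exists_inv_prime ic (nB hc) h2
  have v' : V4 d c := P7.Ax.v4_of jd ic (fun e => h1 (e ▸ eA))
    (mem_cent1.2 (mem_cent.1 (P7.Ax.V2_le_cent v hc) d hd))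
  obtain ⟨n, hn, e⟩ := b.k3 d c v' p hp p2 y x (orderOf_eq_of_prime_of_mem hp hB hy py)
    (orderOf_eq_of_prime_of_mem hp hA hx px) (eB hy) iy (eA hx) ix
  refine ⟨n, (show VV d c = VV t s from P7.Ax.V2_eq v v' hd hc) ▸ hn, c, hc, ic, eA, ?_⟩
  rw [← e, cent1_conj]
  exact conj_mono eB n

end KD

open KD in
theorem kdStmt (hS : SemStmt.{u}) (hB : BarLStmt.{u}) (h7 : K7Stmt.{u}) : KDStmt.{u} := by
  intro G _ _ n h hI X hn
  have hOX := H2.pPrimeCoreOf_le 2 X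
  have ho := odd_Od X
  haveI := H1.normal_subgroupOf_of_le (H2.le_normalizer_pPrimeCoreOf 2 X)
  have hD := (h.subgroup X).quotient ((Od X).subgroupOf X)
  have b : Bar (X ⧸ (Od X).subgroupOf X) := bar hS hB h7 hI hD
    ((Nat.le_of_dvd Nat.card_pos (card_quotient_dvd_card _)).trans_lt hn) (by
      rw [← H1.bar_top, FT.pPrimeCoreOf_bar Nat.prime_two hOX le_rfl
        (H2.coprime_card_pPrimeCoreOf 2 X), H1.bar_self])
  have ne : ∀ t : X, Inv (t : G) → H1.qmk X (Od X) t ≠ 1 := fun t it e =>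
    it.not_mem_of_odd ho (H1.qmk_eq_one_iff.1 e)
  have v4 : ∀ t s : X, V4 (t : G) s → V4 (H1.qmk X (Od X) t) (H1.qmk X (Od X) s) := fun t s v =>
    (v.subtype t.2 s.2).map _ (ne t (P7.Ax.inv_a v)) (ne s (P7.Ax.inv_b v)) (ne (t * s) (P7.Ax.inv_ab v))
  have vv : ∀ t s : X, H1.bar X (Od X) (VV (t : G) s) =
      VV (H1.qmk X (Od X) t) (H1.qmk X (Od X) s) := fun t s => by
    have e : ∀ {H : Type u} [Group H] (a b : H), VV a b = zpowers a ⊔ zpowers b := fun a b => by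
      rw [zpowers_eq_closure, zpowers_eq_closure, ← Subgroup.closure_union]; rfl
    rw [e, e, H1.bar_sup (zpowers_le.2 t.2) (zpowers_le.2 s.2), H1.bar_zpowers, H1.bar_zpowers]
  constructor
  · intro t s v ht hs p hp p2 Q hQX hQ hQt hN
    rw [← H1.bar_eq_bot_iff hQX]
    refine b.d1 _ _ (v4 ⟨t, ht⟩ ⟨s, hs⟩ v) p hp p2 _ (H1.isPGroup_bar hQ) ?_ ?_
    · rw [← H1.bar_zpowers, ← H1.bar_commutator hQX (zpowers_le.2 ht), hQt]
    · rw [← P5.bar_cent1 hOX ho ht v.tt]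
      exact H1.bar_le_normalizer hN
  intro t s v ht hs p hp p2 A hA B hB pA pB nA nB
  have hV : VV t s ≤ X := P5.V4.le_iff.2 ⟨ht, hs⟩
  obtain ⟨m, hm, c, hc, ic, eA, eB⟩ := fuse b (v4 ⟨t, ht⟩ ⟨s, hs⟩ v) hp p2 (H1.isPGroup_bar pA)
    (H1.isPGroup_bar pB) (vv _ _ ▸ H1.bar_le_normalizer nA) (vv _ _ ▸ H1.bar_le_normalizer nB)
  rw [← vv] at hm hc
  obtain ⟨m, hm', rfl⟩ := (H1.normalizer_map_of_coprime_ker (f := H1.qmk X (Od X))
    H1.qmk_surjective (A := (VV t s).subgroupOf X) (by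
      rw [QuotientGroup.ker_mk', H2.card_subgroupOf_of_le hOX, H2.card_subgroupOf_of_le hV]
      exact P7.Ax.cop4 v ho)
    (Or.inr (P4.solvable_of_odd (by
      rwa [QuotientGroup.ker_mk', H2.card_subgroupOf_of_le hOX])))).le hm
  have mN : (m : G) ∈ 𝐍(VV t s) := mem_norm_of_conj_le (by
    rintro _ ⟨x, hx, rfl⟩
    exact (mem_normalizer_iff.1 hm' ⟨x, hV hx⟩).1 hx)
  set Y := H1.unbar X (Od X) (Od 𝐂[c])
  have oY : Odd 𝐨(Y) := by rw [H1.card_unbar hOX]; exact ho.mul (odd_Od _)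
  have cV : H1.bar X (Od X) (VV t s) ≤ 𝐂[c] := by
    rw [vv ⟨t, ht⟩ ⟨s, hs⟩] at hc ⊢
    exact fun x hx => mem_cent1.2 (mem_cent.1 (P7.Ax.V2_le_cent (v4 ⟨t, ht⟩ ⟨s, hs⟩ v) hx) c hc)
  have nY : VV t s ≤ 𝐍(Y) := H1.le_normalizer_unbar hV (cV.trans (Od_normal _).2)
  have le : ∀ W ≤ X, IsPGroup p W → H1.bar X (Od X) W ≤ 𝐂[c] → W ≤ Y := fun W a b' e =>
    (H1.bar_le_iff a).1 (le_Od_of_npc (hD.npc_cent ic.ne ic.sq) e
      (odd_of_isPGroup hp p2 (H1.isPGroup_bar b')))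
  obtain ⟨P, hP, AP, nP⟩ := P7.Ax.exists_syl4 v oY nY hp pA (le A hA pA eA) nA
  have pB' : IsPGroup p (B ^ᵍ (m : G)) := pB.map _
  obtain ⟨e, he, f⟩ := P7.Ax.exists_conj4 v oY nY hp hP nP pB' (le _ (conj_le_of_mem hB m.2) pB' (by
      rintro _ ⟨y, ⟨x, hx, e⟩, rfl⟩
      refine eB ⟨H1.qmk X (Od X) ⟨x, hB hx⟩, H1.qmk_mem_bar hx, ?_⟩
      rw [show y = m * ⟨x, hB hx⟩ * m⁻¹ from Subtype.ext e.symm, map_mul, map_mul, map_inv]
      rfl))
    ((conj_eq_of_mem_norm mN).ge.trans (conj_le_norm_iff.2 nB))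
  exact ⟨e * m, ⟨mul_mem (H1.unbar_le _ he.1) m.2, mul_mem (centralizer_le_normalizer _ he.2) mN⟩,
    P, hP.pgrp, nP, AP, by rwa [← conj_conj]⟩

end Cfsg.Agent.P15
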