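/-
P15: lifting the component data from `R / O(R)` to `R`.
-/
import Cfsg.Agent.P15.KD

set_option autoImplicit false
set_option linter.unusedSectionVars false

namespace Cfsg.Agent.P15

open Subgroup Cfsg Cfsg.Agent Cfsg.Agent.FT Cfsg.Agent.P6
open Cfsg.Agent.H2 (pPrimeCoreOf layerOf fstarOf)
open Cfsg.Agent.P5 (V4 Tri)
open scoped commutatorElement

universe u

namespace KC

variable {G : Type u} [Group G] [Finite G]

theorem cj_pow {g a c : G} (h : g * a * g⁻¹ = c * a) (hc : Commute g c) (n : ℕ) :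
    g ^ n * a * (g ^ n)⁻¹ = c ^ n * a := by
  induction n with
  | zero => simp
  | succ n ih =>
    calc g ^ (n + 1) * a * (g ^ (n + 1))⁻¹ = g * (g ^ n * a * (g ^ n)⁻¹) * g⁻¹ := by group
      _ = g * c ^ n * g⁻¹ * (g * a * g⁻¹) := by rw [ih]; group
      _ = _ := by rw [h, (hc.pow_right n).eq]; group

theorem ex7 (dc : DC G) {L K : Subgroup G} {t : G} (cl : CL ⊤ L K t) (c7 : CL7 ⊤ L K t) :
    ∃ s ∈ L, V4 t s ∧ ∀ a ∈ K, s * a * s = a⁻¹ := by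
  obtain ⟨z, zL, hz⟩ := c7.ex4
  obtain ⟨s₁, s₁L, v₁⟩ := cl.ex
  have zt : z ∈ L ⊓ 𝐂[t] := ⟨zL, mem_cent1.2 (hz ▸ (Commute.refl z).mul_left (Commute.refl z))⟩
  obtain ⟨T, hT, hl⟩ := exists_isSyl_ge Nat.prime_two (H2.isPGroup_zpowers_of_pow_eq_one
    (p := 2) (k := 2) (by rw [show 2 ^ 2 = 2 * 2 from rfl, pow_mul, pow_two z, hz, pow_two, cl.tt]))
    (zpowers_le.2 zt)
  obtain ⟨g, hg, e⟩ := hT.exists_conj_le Nat.prime_two (P7.Ax.inv_b v₁).isPGroup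
    (zpowers_le.2 ⟨s₁L, mem_cent1.2 v₁.comm⟩)
  have sT := e (conj_mem_conj (mem_zpowers s₁) g)
  have v := V4.cj v₁ g
  rw [mem_cent1_iff_conj.1 hg.2] at v
  set s := g * s₁ * g⁻¹
  obtain ⟨c, d⟩ := dc.dd hT.pgrp
  have zT := hl (mem_zpowers z)
  have zc : z ∈ zpowers c := by_contra fun h => cl.t1 (hz ▸ d.sq z zT h)
  have tc : t ∈ zpowers c := hz ▸ mul_mem zc zc
  have k : ∀ j ∈ T, j ∉ zpowers c → V4 t j := fun j hj h =>
    ⟨cl.t1, fun e => h (e ▸ one_mem _), fun e => h (e ▸ tc), cl.tt, d.sq j hj h,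
      mem_cent1.1 (hT.le hj).2⟩
  have sc : s ∉ zpowers c := fun h =>
    (Dd.uniq h tc v.ss cl.tt cl.t1).elim v.s1 fun e => v.ts e.symm
  rcases inf_eq_bot_or_le_of_card_prime (X := K) (by rw [c7.card]; norm_num) 𝐂[s] with e | e
  · exact ⟨s, (hT.le sT).1, v, fun a ha => P7.Ax.inverts_of_fpf (P7.Ax.inv_b v) cl.odd
      (cl.nK ⟨trivial, (hT.le sT).2⟩) (fun x hx h => mem_bot.1 (e ▸ mem_inf.2 ⟨hx, h⟩)) ha⟩
  · have v' := k _ (mul_mem sT zT) fun h => sc ((mul_mem_cancel_right zc).1 h)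
    refine ⟨_, (hT.le (mul_mem sT zT)).1, v', fun a ha => ?_⟩
    calc _ = s * z * a * (s * z)⁻¹ := by rw [(P7.Ax.inv_b v').inv_eq]
      _ = s * (z * a * z⁻¹) * s⁻¹ := by group
      _ = a⁻¹ := by rw [c7.inv4 z trivial hz a ha, mem_cent1.1 (e (inv_mem ha))]; group

theorem cyc_out {F : Type} [Field F] {π : H4.SL2.SL F →* G} {L K K' : Subgroup G} {t : G} {k l : ℕ}
    (c : P7.Cov π L) (cl : CL ⊤ L K t) (c2 : CL2 ⊤ L K t k l) (hK : K' ≤ L) (e : 𝐨(K') = l)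
    (inv : ∀ a ∈ K', t * a * t = a⁻¹) : Odd l ∧ IsCyclic K' := by
  have ol : Odd l := by
    obtain ⟨m, hm⟩ := (Dvd.intro _ rfl).trans c2.dvd
    rw [Nat.odd_iff]; have := c2.num; omega
  refine ⟨ol, ?_⟩
  have h3 := c2.three
  obtain ⟨a, ha, a1⟩ := (bot_or_exists_ne_one K').resolve_left fun h => by
    rw [h, card_bot] at e; omega
  obtain ⟨x, rfl⟩ := c.exists_eq (hK ha)
  have hl : K' ≤ P7.Ab π x := by
    rw [← c.cent_eq fun h => a1 (P5.eq_one_of_odd (e ▸ ol) ha h)]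
    exact le_inf hK fun b hb => mem_cent1.2 (mem_cent.1 (isMulComm_iff_le_cent.1
      (P7.Ax.comm_of_inverts ⟨cl.t1, cl.tt⟩ inv) hb) _ ha)
  rcases c.cases a1 with ⟨-, h, -⟩ | ⟨-, h⟩
  · exact isCyclic_of_le hl h
  exfalso
  obtain ⟨y, rfl⟩ := c.exists_eq cl.tL
  have ht := c.tr_ne_of_invol cl.t1 cl.tt
  obtain ⟨j, -, -, -, -, hj⟩ := c.exists_inv cl.t1 ht
  have hA : P7.Ab π y ≤ L ⊓ 𝐂[π y] := le_inf (c.Ab_le_L y) (c.Ab_le_cent y)
  have hi : (P7.Ab π y).relIndex (L ⊓ 𝐂[π y]) ∣ 2 := by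
    have key : ∀ g ∈ L ⊓ 𝐂[π y], g ∈ P7.Ab π y ∨ j * g ∈ P7.Ab π y := fun g hg =>
      hj _ (c.self_mem y) cl.t1 g hg.1 (by rw [mem_cent1_iff_conj.1 hg.2]; exact c.self_mem y)
    by_cases h1 : L ⊓ 𝐂[π y] ≤ P7.Ab π y
    · rw [relIndex_eq_one.2 h1]; exact one_dvd _
    obtain ⟨g, hg, g1⟩ := SetLike.not_le_iff_exists.1 h1
    refine dvd_of_eq (index_eq_two_iff_exists_notMem_and'.2 ⟨⟨g, hg⟩⁻¹, fun h => g1 (by
      simpa [mem_subgroupOf] using h), fun b => ?_⟩)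
    refine ((key b b.2).imp_right fun h => ?_).symm
    have := mul_mem (inv_mem ((key g hg).resolve_left g1)) h
    rwa [show (j * g)⁻¹ * (j * b) = g⁻¹ * b by group] at this
  have h1 := P7.card_mul_relIndex' hA
  have h2 := H1.card_inf_mul_relIndex 𝐂[π y] L
  rw [inf_comm, c2.idx] at h2
  have h4 := c.card_L
  have h5 := e ▸ h ▸ Subgroup.card_dvd_of_le hl
  haveI := c.finite
  haveI := Fintype.ofFinite F
  obtain ⟨p, n, hp, -, hq⟩ := (isPrimePow_nat_iff _).1 (FiniteField.isPrimePow_card F)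
  rw [← Nat.card_eq_fintype_card] at hq
  have h6 := ((c.cases cl.t1).resolve_right fun h => ht h.1).2.2
  have ho := c.odd
  generalize Nat.card F = q at *
  generalize 𝐨(P7.Ab π y) = A at *
  generalize (P7.Ab π y).relIndex _ = i at *
  have pl : p ∣ l := by
    obtain ⟨m, -, rfl⟩ := (Nat.dvd_prime_pow hp).1 (hq ▸ h5)
    exact dvd_pow_self p fun e => by rw [e, pow_zero] at h3; omega
  have c1 : q.Coprime (k + l) := hq ▸ ((Nat.Prime.coprime_iff_not_dvd hp).2 fun h => by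
    have := (Nat.dvd_add_iff_left pl).2 h
    rcases c2.num with e | e
    · exact hp.not_dvd_one ((Nat.dvd_add_right this).1 (e ▸ pl))
    · exact hp.not_dvd_one ((Nat.dvd_add_right pl).1 (e ▸ this))).pow_left n
  have c3 : q.Coprime (2 * A) := by
    rcases h6 with e | e
    · rw [← e]; simp
    · rw [e]; simp
  have c4 : q.Coprime (2 * (A * i)) := by
    rw [← mul_assoc]
    exact c3.mul_right ((Nat.coprime_two_right.2 ho).coprime_dvd_right hi)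
  have h7 : q ∣ l := c1.dvd_of_dvd_mul_left (c4.dvd_of_dvd_mul_left (by
    rw [mul_assoc, h1, h2, h4, mul_assoc]; exact Dvd.intro _ rfl))
  obtain rfl := Nat.dvd_antisymm h5 h7
  rw [← h2, ← h1] at h4
  obtain ⟨m, rfl⟩ : ∃ m, l = m + 1 := ⟨l - 1, by omega⟩
  have i0 : 0 < i := Nat.pos_of_dvd_of_pos hi two_pos
  have h8 : m * (m + 2) = 2 * A * i * (k + (m + 1)) := Nat.eq_of_mul_eq_mul_left (Nat.succ_pos m)
    (by rw [Nat.add_sub_cancel] at h4; linarith)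
  have h9 : m ≤ 2 * A * i := le_trans (by omega) (Nat.le_mul_of_pos_right _ i0)
  have := c2.num
  nlinarith [Nat.mul_le_mul h9 (show m + 3 ≤ k + (m + 1) by omega)]

instance nO (R : Subgroup G) : ((Od R).subgroupOf R).Normal :=
  H1.normal_subgroupOf_of_le (Od_normal R).2

abbrev q (R : Subgroup G) := H1.qmk R (Od R)

abbrev B (R H : Subgroup G) := H1.bar R (Od R) H

theorem ne_one {R : Subgroup G} {t : R} (it : Inv (t : G)) : q R t ≠ 1 := fun e =>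
  it.not_mem_of_odd (odd_Od R) (H1.qmk_eq_one_iff.1 e)

theorem v4 {R : Subgroup G} {t s : R} (v : V4 (t : G) s) : V4 (q R t) (q R s) :=
  (v.subtype t.2 s.2).map _ (ne_one (P7.Ax.inv_a v)) (ne_one (P7.Ax.inv_b v))
    (ne_one (t := t * s) (P7.Ax.inv_ab v))

theorem vv {R : Subgroup G} (t s : R) : B R (VV (t : G) s) = VV (q R t) (q R s) := by
  have e : ∀ {H : Type u} [Group H] (a b : H), VV a b = zpowers a ⊔ zpowers b := fun a b => by
    rw [zpowers_eq_closure, zpowers_eq_closure, ← Subgroup.closure_union]; rfl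
  rw [e, e, B, H1.bar_sup (zpowers_le.2 t.2) (zpowers_le.2 s.2), H1.bar_zpowers, H1.bar_zpowers]

theorem eq_mul {R : Subgroup G} {x y : R} (e : q R x = q R y) : ∃ o ∈ Od R, (x : G) = o * y :=
  ⟨x * y⁻¹, H1.qmk_eq_one_iff.1 (show q R (x * y⁻¹) = 1 by rw [map_mul, map_inv, e, mul_inv_cancel]),
    by simp⟩

theorem inj {R K : Subgroup G} (hK : Od R ⊓ K = ⊥) {x y : R} (hx : (x : G) ∈ K) (hy : (y : G) ∈ K)
    (e : q R x = q R y) : (x : G) = y := by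
  obtain ⟨o, ho, f⟩ := eq_mul e
  have : o ∈ Od R ⊓ K := ⟨ho, (K.mul_mem_cancel_right hy).1 (f ▸ hx)⟩
  rw [hK, mem_bot] at this
  rw [f, this, one_mul]

theorem card_two {R T : Subgroup G} (hR : T ≤ R) (hT : IsPGroup 2 T) : 𝐨(B R T) = 𝐨(T) :=
  card_bar_of_disj hR (eq_bot_iff.2 fun _ hx =>
    P4.eq_one_of_odd_of_mem hT (odd_orderOf_of_mem (odd_Od R) hx.1) hx.2)

structure Lf (R L : Subgroup G) : Prop where
  LR : L ≤ R
  nL : R ≤ 𝐍(L)
  OC : Od R ≤ 𝐂(L)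

namespace Lf

variable {R L : Subgroup G} (h : Lf R L)
include h

theorem comm {y o : G} (hy : y ∈ L) (ho : o ∈ Od R) : Commute y o := mem_cent.1 (h.OC ho) y hy

theorem cent {y x : R} (hy : (y : G) ∈ L) {n : ℕ} (e : (y : G) ^ 2 ^ n = 1)
    (c : Commute (q R y) (q R x)) : Commute (y : G) x := by
  obtain ⟨o, ho, f⟩ := eq_mul (x := y * x * y⁻¹) (y := x) (by
    rw [map_mul, map_mul, map_inv, c.eq, mul_inv_cancel_right])
  have := cj_pow f (h.comm hy ho) (2 ^ n)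
  rw [e, one_mul, inv_one, mul_one, right_eq_mul] at this
  rw [P4.eq_one_of_odd_of_pow (odd_orderOf_of_mem (odd_Od R) ho) this, one_mul] at f
  exact mul_inv_eq_iff_eq_mul.1 f

theorem cent1 {y x : R} (hy : (y : G) ∈ L) (e : (y : G) * y = 1) (c : q R x ∈ 𝐂[q R y]) :
    (x : G) ∈ 𝐂[(y : G)] :=
  mem_cent1.2 (h.cent hy (n := 1) (by rw [pow_one, pow_two, e]) (mem_cent1.1 c))

theorem inj2 {x y : R} (hy : (y : G) ∈ L) (xx : (x : G) * x = 1) (yy : (y : G) * y = 1)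
    (e : q R x = q R y) : (x : G) = y := by
  obtain ⟨o, ho, f⟩ := eq_mul e
  rw [f, ← pow_two, (h.comm hy ho).symm.mul_pow, pow_two (y : G), yy, mul_one, pow_two] at xx
  rw [f, P5.eq_one_of_odd (odd_Od R) ho xx, one_mul]

theorem lift {y : R ⧸ (Od R).subgroupOf R} (hy : y ∈ B R L) {e : R} (he : (e : G) ∈ L)
    (ee : (e : G) * e = 1) (f : y * y = q R e) :
    ∃ x : R, (x : G) ∈ L ∧ (x : G) * x = e ∧ ∃ m, Odd m ∧ q R x = y ^ m := by
  obtain ⟨x, hx, rfl⟩ := H1.mem_bar.1 hy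
  obtain ⟨o, ho, g⟩ := eq_mul ((map_mul _ x x).trans f)
  refine ⟨x ^ 𝐨(Od R), L.pow_mem hx _, ?_, _, odd_Od R, map_pow _ _ _⟩
  rw [coe_pow, ← (Commute.refl (x : G)).mul_pow, ← coe_mul, g]
  exact P5.mul_pow_odd (odd_Od R) ee (h.comm he ho) (P5.pow_card_of_mem ho)

theorem lift1 {y : R ⧸ (Od R).subgroupOf R} (hy : y ∈ B R L) (f : y * y = 1) :
    ∃ x : R, (x : G) ∈ L ∧ (x : G) * x = 1 ∧ q R x = y := by
  obtain ⟨x, h1, h2, m, ⟨m, rfl⟩, h3⟩ := h.lift hy (e := 1) L.one_mem (by simp) (by simpa using f)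
  exact ⟨x, h1, h2, by rw [h3, pow_succ, pow_mul, pow_two, f, one_pow, one_mul]⟩

theorem v4' {t s : R} (ht : (t : G) ∈ L) (tt : (t : G) * t = 1) (ss : (s : G) * s = 1)
    (v : V4 (q R t) (q R s)) : V4 (t : G) s :=
  ⟨fun e => v.t1 (by rw [show t = 1 from Subtype.ext e, map_one]),
    fun e => v.s1 (by rw [show s = 1 from Subtype.ext e, map_one]),
    fun e => v.ts (by rw [Subtype.ext e]), tt, ss,
    mem_cent1.1 (h.cent1 ht tt (mem_cent1.2 v.comm))⟩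

theorem dec {K : Subgroup G} (hK : K ≤ L) {x : R} (hx : q R x ∈ B R K) :
    ∃ a ∈ K, ∃ o ∈ Od R, (x : G) = o * a := by
  obtain ⟨a, ha, e⟩ := H1.mem_bar.1 hx
  exact ⟨a, ha, eq_mul e.symm⟩

theorem mem_L {x : R} (hx : q R x ∈ B R L) {n : ℕ} (e : (x : G) ^ 2 ^ n = 1) : (x : G) ∈ L := by
  obtain ⟨a, ha, o, ho, f⟩ := h.dec le_rfl hx
  refine H8.mem_of_pow_mem_of_coprime (n := 𝐨(Od R)) (((Nat.coprime_two_left.2
    (odd_Od R)).pow_left n).coprime_dvd_left (orderOf_dvd_of_pow_eq_one e)) ?_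
  rw [f, (h.comm ha ho).symm.mul_pow, P5.pow_card_of_mem ho, one_mul]
  exact pow_mem ha _

theorem idx {s : R} (hs : (s : G) ∈ L) (ss : (s : G) * s = 1) {Y : Subgroup G} (hY : Y ≤ R) :
    (𝐂[(s : G)] : Subgroup G).relIndex Y = (𝐂[q R s] : Subgroup _).relIndex (B R Y) := by
  rw [← relIndex_subgroupOf hY]
  refine Eq.trans ?_ (index_comap_of_surjective _ ((q R).subgroupMap_surjective (Y.subgroupOf R)))
  refine congrArg index (Subgroup.ext fun x => ?_)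
  exact ⟨fun e => mem_cent1.2 (Commute.map (x := s) (y := x.1)
    (Subtype.ext (mem_cent1.1 e)) (q R)), fun e => h.cent1 (x := x.1) hs ss e⟩

theorem exI {s : R} (hs : (s : G) ∈ L) (ss : (s : G) * s = 1)
    {K' : Subgroup (R ⧸ (Od R).subgroupOf R)} (hK : K' ≤ B R L) (cyc : IsCyclic K')
    (ho : Odd 𝐨(K')) (inv : ∀ a ∈ K', q R s * a * q R s = a⁻¹) :
    ∃ K : Subgroup G, (∀ a, a ∈ K ↔ a ∈ L ⊓ H1.unbar R (Od R) K' ∧ s * a * s = a⁻¹) ∧
      B R K = K' ∧ Od R ⊓ K = ⊥ ∧ IsMulCommutative ↥(L ⊓ H1.unbar R (Od R) K') := by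
  obtain ⟨κ, rfl⟩ := P5.Mx.exists_zpowers_eq cyc
  obtain ⟨k, hk, rfl⟩ := H1.mem_bar.1 (hK (mem_zpowers κ))
  have d : ∀ a ∈ L ⊓ H1.unbar R (Od R) (zpowers (q R k)), ∃ b ∈ zpowers (k : G), ∃ o ∈ Od R,
      a = o * b := fun a ha => h.dec (zpowers_le.2 hk) (x := ⟨a, h.LR ha.1⟩) (by
    rw [B, H1.bar_zpowers]; exact H1.coe_mem_unbar.1 ha.2)
  have cm : ∀ a ∈ L ⊓ H1.unbar R (Od R) (zpowers (q R k)),
      ∀ b ∈ L ⊓ H1.unbar R (Od R) (zpowers (q R k)), Commute a b := fun a ha b hb => by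
    obtain ⟨a', h1, o, h2, e⟩ := d a ha
    obtain ⟨b', h3, o', h4, rfl⟩ := d b hb
    refine (h.comm ha.1 h4).mul_right ?_
    rw [e]
    exact (h.comm (zpowers_le.2 hk h3) h2).symm.mul_left (comm_zp h1 h3)
  have si : (s : G)⁻¹ = s := inv_eq_of_mul_eq_one_right ss
  let K : Subgroup G :=
    { carrier := {a | a ∈ L ⊓ H1.unbar R (Od R) (zpowers (q R k)) ∧ s * a * s = a⁻¹}
      one_mem' := ⟨one_mem _, by simpa using ss⟩
      mul_mem' := fun {a b} ha hb => ⟨mul_mem ha.1 hb.1, by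
        rw [← (cm b hb.1 a ha.1).eq, mul_inv_rev, ← ha.2, ← hb.2]
        calc s * (b * a) * s = s * a * (s * s) * b * s := by rw [ss, (cm b hb.1 a ha.1).eq]; group
          _ = _ := by group⟩
      inv_mem' := fun {a} ha => ⟨inv_mem ha.1, by
        rw [← congrArg (·⁻¹) ha.2, mul_inv_rev, mul_inv_rev, si, mul_assoc]⟩ }
  refine ⟨K, fun _ => Iff.rfl, le_antisymm ((H1.bar_le_iff (H := K) fun a ha => h.LR ha.1.1).2
    fun a ha => ha.1.2) (zpowers_le.2 ?_), eq_bot_iff.2 fun a ha => ?_,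
    ⟨⟨fun a b => Subtype.ext (cm a a.2 b b.2)⟩⟩⟩
  · obtain ⟨o, ho, e⟩ := eq_mul (x := s * k * s) (y := k⁻¹) (by
      rw [map_mul, map_mul, map_inv, inv _ (mem_zpowers _)])
    obtain ⟨c, hc, rfl⟩ := P5.exists_sqrt (odd_Od R) (inv_mem ho) |>.imp fun c hc =>
      (⟨hc.1, by rw [hc.2, inv_inv]⟩ : c ∈ zpowers o⁻¹ ∧ (c * c)⁻¹ = o)
    have cO : c ∈ Od R := zpowers_le.2 (inv_mem ho) hc
    have e' : (s : G) * k * s = (c * c)⁻¹ * (k : G)⁻¹ := e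
    have cL : c ∈ L := zpowers_le.2 (inv_mem ((mul_mem_cancel_right (inv_mem hk)).1
      (e' ▸ mul_mem (mul_mem hs hk) hs))) hc
    have qc : q R (k * ⟨c, h.LR cL⟩) = q R k := by
      rw [map_mul, (H1.qmk_eq_one_iff (y := ⟨c, h.LR cL⟩)).2 cO, mul_one]
    refine H1.mem_bar.2 ⟨k * ⟨c, h.LR cL⟩, ⟨⟨mul_mem hk cL, H1.coe_mem_unbar.2
      (qc ▸ mem_zpowers _)⟩, ?_⟩, qc⟩
    show (s : G) * (k * c) * s = (k * c)⁻¹
    rw [← mul_assoc, mul_assoc _ c, ← (h.comm hs cO).eq, ← mul_assoc, e', mul_assoc,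
      (h.comm (inv_mem hk) cO).eq]
    group
  · have := ha.2.2
    rw [(h.comm hs ha.1).eq, mul_assoc, ss, mul_one] at this
    exact eq_one_of_eq_inv (odd_orderOf_of_mem (odd_Od R) ha.1) this

theorem bar_cent {t : R} (ht : (t : G) ∈ L) (tt : (t : G) * t = 1) {Y : Subgroup G} :
    B R Y ⊓ 𝐂[q R t] ≤ B R (Y ⊓ 𝐂[(t : G)]) := by
  rintro _ ⟨⟨x, hx, rfl⟩, c⟩
  exact H1.qmk_mem_bar ⟨hx, h.cent1 ht tt c⟩

omit h in
theorem qc {t x : R} (c : (x : G) ∈ 𝐂[(t : G)]) : q R x ∈ 𝐂[q R t] :=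
  mem_cent1.2 (Commute.map (x := t) (y := x) (Subtype.ext (mem_cent1.1 c)) (q R))

omit h in
theorem bar_le {t : R} {Y : Subgroup G} (c : Y ≤ 𝐂[(t : G)]) : B R Y ≤ 𝐂[q R t] := by
  rintro _ ⟨x, hx, rfl⟩
  exact qc (c hx)

omit h in
theorem qinv {s a : R} (e : (s : G) * a * s = (a : G)⁻¹) : q R s * q R a * q R s = (q R a)⁻¹ := by
  rw [← map_mul, ← map_mul, ← map_inv]; exact congrArg _ (Subtype.ext e)

omit h in
theorem odd_q {a : R} (e : Odd (orderOf (a : G))) : Odd (orderOf (q R a)) :=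
  e.of_dvd_nat (by rw [orderOf_coe]; exact orderOf_map_dvd _ _)

theorem exK {t s : R} {K' : Subgroup (R ⧸ (Od R).subgroupOf R)} (cl : CL ⊤ (B R L) K' (q R t))
    (ht : (t : G) ∈ L) (hs : (s : G) ∈ L) (v : V4 (t : G) s)
    (inv : ∀ a ∈ K', q R s * a * q R s = a⁻¹) : ∃ K ≤ L ⊓ 𝐂[(t : G)],
      B R K = K' ∧ Od R ⊓ K = ⊥ ∧ R ⊓ 𝐂[(t : G)] ≤ 𝐍(K) := by
  obtain ⟨K, hK, e1, e2, cm⟩ := h.exI hs v.ss (cl.KL.trans inf_le_left) cl.cyc cl.odd inv
  refine ⟨K, fun a ha => ⟨((hK a).1 ha).1.1, h.cent1 (x := ⟨a, h.LR ((hK a).1 ha).1.1⟩) ht v.tt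
    (cl.KL (H1.coe_mem_unbar.1 ((hK a).1 ha).1.2)).2⟩, e1, e2, fun g hg => mem_norm_of_conj_le ?_⟩
  rintro _ ⟨a, ha, rfl⟩
  obtain ⟨h1, h2⟩ := (hK a).1 ha
  lift g to R using hg.1
  have h3 : g * a * (g : G)⁻¹ ∈ L ⊓ H1.unbar R (Od R) K' := P4.conj_mem (H1.le_normalizer_inf
    (inf_le_left.trans h.nL) (H1.le_normalizer_unbar inf_le_left
      ((le_inf le_top (bar_le inf_le_right)).trans cl.nK)) hg) h1
  refine (hK _).2 ⟨h3, ?_⟩
  show (s : G) * (g * a * (g : G)⁻¹) * s = (g * a * (g : G)⁻¹)⁻¹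
  have h4 : g * s * (g : G)⁻¹ * (g * a * (g : G)⁻¹) * (g * s * (g : G)⁻¹) =
      (g * a * (g : G)⁻¹)⁻¹ := by
    rw [conj_mul, conj_mul, h2]; group
  have sL : g * s * (g : G)⁻¹ ∈ L := P4.conj_mem (h.nL g.2) hs
  have s2 := P4.conj_sq v.ss (g : G)
  have st : g * s * (g : G)⁻¹ ∈ 𝐂[(t : G)] :=
    mul_mem (mul_mem hg.2 (mem_cent1.2 v.comm)) (inv_mem hg.2)
  generalize (g : G) * a * (g : G)⁻¹ = b at *
  generalize (g : G) * s * (g : G)⁻¹ = r at *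
  lift b to R using h.LR h3.1
  lift r to R using h.LR sL
  have ri : (r : G)⁻¹ = r := inv_eq_of_mul_eq_one_right s2
  have si : (s : G)⁻¹ = s := inv_eq_of_mul_eq_one_right v.ss
  suffices c : Commute (s * r : G) b by
    calc (s : G) * b * s = s * r * (r * b * r) * (s * r : G)⁻¹ := by
          rw [mul_inv_rev, ri, si]
          calc (s : G) * b * s = s * (r * r) * b * (r * r) * s := by rw [s2]; group
            _ = _ := by group
      _ = _ := by rw [h4, c.inv_right.eq, mul_inv_cancel_right]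
  have c0 : Commute (q R (s * r)) (q R b) := by
    have a1 := qinv h4
    have a2 := inv _ (inv_mem (H1.coe_mem_unbar.1 h3.2))
    have a3 : q R r * q R r = 1 := by rw [← map_mul, show r * r = 1 from Subtype.ext s2, map_one]
    have a4 := (v4 v).ss
    rw [map_mul, inv_inv] at *
    calc q R s * q R r * q R b = q R s * q R r * q R b * (q R r * q R r) := by rw [a3, mul_one]
      _ = q R s * (q R r * q R b * q R r) * (q R s * q R s) * q R r := by rw [a4]; group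
      _ = q R s * (q R b)⁻¹ * q R s * (q R s * q R r) := by rw [a1]; group
      _ = _ := by rw [a2]
  obtain ⟨w, w', hw, hw', e, -, ⟨n, hn⟩, ho⟩ := H8.exists_pPart_pPrimePart Nat.prime_two (s * r)
  have zp : ∀ x ∈ zpowers (s * r), (x : G) ∈ zpowers (s * r : G) := fun x hx =>
    (MonoidHom.map_zpowers R.subtype (s * r)).le ⟨x, hx, rfl⟩
  have hL : zpowers (s * r : G) ≤ L ⊓ 𝐂[(t : G)] :=
    zpowers_le.2 ⟨mul_mem hs sL, mul_mem (mem_cent1.2 v.comm) st⟩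
  rw [← coe_mul, e, coe_mul]
  refine Commute.mul_left (h.cent (hL (zp w hw)).1 (n := n)
    (by rw [← hn, ← coe_pow, pow_orderOf_eq_one, coe_one]) ?_) ?_
  · obtain ⟨m, rfl⟩ := hw
    exact (map_zpow (q R) _ m).symm ▸ c0.zpow_left m
  · refine mem_cent.1 (isMulComm_iff_le_cent.1 cm h3) _ ⟨(hL (zp w' hw')).1, H1.coe_mem_unbar.2
      (cl.mem _ (H1.qmk_mem_bar hs) (v4 v) _ ⟨trivial, qc (hL (zp w' hw')).2⟩
        (odd_q (by rw [orderOf_coe]; exact Nat.coprime_two_right.1 ho))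
        (qinv (inverts_of_mem_zpowers v.ss ?_ (zp w' hw'))))⟩
    rw [mul_inv_rev, ri, si, ← mul_assoc, v.ss, one_mul]

section
variable {t : R} {K : Subgroup G} (cl : CL ⊤ (B R L) (B R K) (q R t)) (ht : (t : G) ∈ L)
  (tt : (t : G) * t = 1) (KL : K ≤ L ⊓ 𝐂[(t : G)]) (OK : Od R ⊓ K = ⊥)
  (nK : R ⊓ 𝐂[(t : G)] ≤ 𝐍(K))
include cl ht tt KL OK nK

theorem card_K : 𝐨(B R K) = 𝐨(K) := card_bar_of_disj (KL.trans (inf_le_left.trans h.LR)) OK

theorem toCL (perf : ⁅L, L⁆ = L) (qs : ∀ N : Subgroup G, N ⊲ L → N = L ∨ Odd 𝐨(N))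
    (hC : 𝐂(B R L) = ⊥) : CL R L K t := by
  have t1 : (t : G) ≠ 1 := fun e => cl.t1 (by rw [show t = 1 from Subtype.ext e, map_one])
  have KR := KL.trans (inf_le_left.trans h.LR)
  refine ⟨h.LR, h.nL, ht, t1, tt, perf, qs, fun j hj j1 jj => ?_, fun s hs v => ?_, ?_, KL,
    h.card_K cl ht tt KL OK nK ▸ cl.odd, ?_, nK, fun s hs v g hg ho e => ?_,
    fun s hs v inv p hp p2 Y hY pY nY y hy => ?_⟩
  · lift j to R using h.LR hj
    obtain ⟨_, ⟨g, hg, rfl⟩, e⟩ := cl.conj _ (H1.qmk_mem_bar hj) (ne_one ⟨j1, jj⟩)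
      (by rw [← map_mul, show j * j = 1 from Subtype.ext jj, map_one])
    exact ⟨g, hg, h.inj2 (x := g * t * g⁻¹) hj (P4.conj_sq tt _) jj (by simpa using e)⟩
  · lift s to R using h.LR hs
    obtain ⟨_, ⟨g, hg, rfl⟩, e, f⟩ := cl.tri _ (H1.qmk_mem_bar hs) (v4 v)
    exact ⟨g, hg, h.inj2 (x := g * t * g⁻¹) hs (P4.conj_sq tt _) v.ss (by simpa using e),
      h.inj2 (x := g * s * g⁻¹) (y := t * s) (L.mul_mem ht hs) (P4.conj_sq v.ss _) v.tsts
        (by simpa using f)⟩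
  · obtain ⟨s, hs, v⟩ := cl.ex
    obtain ⟨s, h1, h2, rfl⟩ := h.lift1 hs v.ss
    exact ⟨s, h1, h.v4' ht tt h2 v⟩
  · haveI := cl.cyc
    refine isCyclic_of_injective (((q R).comp (inclusion KR)).codRestrict (B R K)
      fun x => H1.qmk_mem_bar x.2) fun a b e => ?_
    exact Subtype.ext (inj OK (x := ⟨a, KR a.2⟩) (y := ⟨b, KR b.2⟩) a.2 b.2 (congrArg Subtype.val e))
  · lift s to R using h.LR hs
    lift g to R using hg.1
    obtain ⟨a, ha, o, ho', f⟩ := h.dec (KL.trans inf_le_left) (cl.mem _ (H1.qmk_mem_bar hs) (v4 v) _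
      ⟨trivial, qc hg.2⟩ (odd_q ho) (qinv e))
    have h1 : s * a * (s : G) ∈ K := by
      simpa [(P7.Ax.inv_b v).inv_eq] using P4.conj_mem (nK ⟨s.2, mem_cent1.2 v.comm⟩) ha
    have h2 : o * o ∈ Od R ⊓ K := ⟨mul_mem ho' ho', (K.mul_mem_cancel_right h1).1 (by
      rw [f, ← mul_assoc, (h.comm hs ho').eq, mul_inv_rev, ← (h.comm (inv_mem (KL ha).1)
        (inv_mem ho')).symm.eq] at e
      rw [show o * o * (s * a * s) = o * (o * s * a * s) by group, e]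
      simpa using ha)⟩
    rwa [f, P5.eq_one_of_odd (odd_Od R) ho' (mem_bot.1 (OK ▸ h2)), one_mul]
  · lift s to R using h.LR hs
    lift y to R using (hY hy.1).1
    refine h.OC (H1.qmk_eq_one_iff.1 (mem_bot.1 (hC ▸ cl.fld _ (H1.qmk_mem_bar hs) (v4 v) ?_ p hp p2
      (B R Y) (le_inf le_top (bar_le (hY.trans inf_le_right))) (H1.isPGroup_bar pY)
      ((h.bar_cent ht tt).trans (H1.bar_le_normalizer nY)) ⟨H1.qmk_mem_bar hy.1, qc hy.2⟩)))
    rintro _ ⟨a, ha, rfl⟩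
    exact qinv (inv a ha)

theorem toCL7 (c7 : CL7 ⊤ (B R L) (B R K) (q R t)) : CL7 R L K t := by
  refine ⟨h.card_K cl ht tt KL OK nK ▸ c7.card, fun T hT pT x hx => ?_, ?_, fun z hz e a ha => ?_⟩
  · obtain ⟨n, hn⟩ := pT ⟨x, hx⟩
    exact h.mem_L (x := ⟨x, hT hx⟩) (c7.two _ le_top (H1.isPGroup_bar pT) (H1.qmk_mem_bar hx))
      (congrArg Subtype.val hn)
  · obtain ⟨z, hz, e⟩ := c7.ex4
    obtain ⟨x, h1, h2, -⟩ := h.lift hz ht tt e
    exact ⟨x, h1, h2⟩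
  · lift z to R using hz
    lift a to R using h.LR (KL ha).1
    refine inj OK (x := z * a * z⁻¹) (y := a⁻¹) (P4.conj_mem (nK ⟨z.2, mem_cent1.2
      (e ▸ (Commute.refl (z : G)).mul_left (Commute.refl _))⟩) ha) (K.inv_mem ha) ?_
    simpa using c7.inv4 (q R z) trivial (by rw [← map_mul]; exact congrArg _ (Subtype.ext e)) _
      (H1.qmk_mem_bar ha)

theorem toCL2 {k l : ℕ} (c2 : CL2 ⊤ (B R L) (B R K) (q R t) k l)
    (hc : ∀ K' ≤ B R L, 𝐨(K') = l → (∀ a ∈ K', q R t * a * q R t = a⁻¹) → Odd l ∧ IsCyclic K') :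
    CL2 R L K t k l := by
  have cK := h.card_K cl ht tt KL OK nK
  have ne : ∀ a : R, (a : G) ∈ K → (a : G) ≠ 1 → q R a ≠ 1 := fun a ha a1 e =>
    a1 (mem_bot.1 (OK ▸ mem_inf.2 ⟨H1.qmk_eq_one_iff.1 e, ha⟩))
  refine ⟨c2.num, c2.three, fun T hT => ?_, cK ▸ c2.dvd, (h.idx ht tt h.LR).trans c2.idx,
    fun j hj v a ha => ?_, fun a ha a1 g hg => ?_, fun a ha a1 Z hZ pZ => ?_, fun s hs v => ?_,
    fun a ha pa => ?_, fun j hj jL v => ?_⟩
  · rw [← cK, ← card_two (hT.le.trans h.LR) hT.pgrp]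
    exact c2.two _ (hT.bar Nat.prime_two h.LR)
  · lift j to R using hj
    lift a to R using h.LR (KL ha).1
    refine inj OK (x := j * a * j) (y := a⁻¹) ?_ (K.inv_mem ha)
      (by simpa using c2.inv _ trivial (v4 v) _ (H1.qmk_mem_bar ha))
    simpa [(P7.Ax.inv_b v).inv_eq] using P4.conj_mem (nK ⟨j.2, mem_cent1.2 v.comm⟩) ha
  · lift a to R using h.LR (KL ha).1
    lift g to R using h.LR hg.1
    exact h.cent1 ht tt (c2.cent _ (H1.qmk_mem_bar ha) (ne a ha a1) ⟨H1.qmk_mem_bar hg.1, qc hg.2⟩)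
  · lift a to R using h.LR (KL ha).1
    rw [← cK, ← card_two (hZ.trans (inf_le_left.trans h.LR)) pZ]
    exact c2.tor _ (H1.qmk_mem_bar ha) (ne a ha a1) _ (le_inf (H1.bar_mono (hZ.trans inf_le_left))
      (bar_le (hZ.trans inf_le_right))) (H1.isPGroup_bar pZ)
  · lift s to R using h.LR hs
    rw [h.idx hs v.ss inf_le_left]
    refine (relIndex_le_of_le_right (le_inf le_top (bar_le inf_le_right))
      index_ne_zero_of_finite).trans (c2.cls _ (H1.qmk_mem_bar hs) (v4 v))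
  · lift a to R using h.LR (KL ha).1
    have oa : orderOf (q R a) = orderOf (a : G) :=
      ((Nat.dvd_prime pa).1 (by rw [orderOf_coe]; exact orderOf_map_dvd _ _)).resolve_left
        fun e => ne a ha (fun e => by rw [e, orderOf_one] at pa; exact Nat.not_prime_one pa)
          (orderOf_eq_one_iff.1 e)
    classical
    refine le_trans (Set.ncard_le_ncard_of_injOn (fun j => if hj : j ∈ R then q R ⟨j, hj⟩ else 1)
      ?_ ?_) (c2.good _ (H1.qmk_mem_bar ha) (oa ▸ pa))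
    · rintro _ ⟨g, hg, rfl, ho⟩
      lift g to R using h.LR hg
      refine ⟨q R g, H1.qmk_mem_bar hg, ?_, ?_⟩
      · rw [← map_inv, ← map_mul, ← map_mul]
        rw [dif_pos (show (g : G) * t * (g : G)⁻¹ ∈ R from (g * t * g⁻¹).2)]
        rfl
      · rw [← map_inv, ← map_mul, ← map_mul]
        exact (congrArg (fun X : Subgroup _ => Odd 𝐨(X)) (vv a (g * a * g⁻¹))).mp (odd_card_bar ho)
    · rintro _ ⟨g, hg, rfl, -⟩ _ ⟨g', hg', rfl, -⟩ e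
      have m : ∀ g ∈ L, g * t * g⁻¹ ∈ L := fun g hg => mul_mem (mul_mem hg ht) (inv_mem hg)
      simp only [dif_pos (h.LR (m g hg)), dif_pos (h.LR (m g' hg'))] at e
      exact h.inj2 (m g' hg') (P4.conj_sq tt g) (P4.conj_sq tt g') e
  · lift j to R using hj
    obtain ⟨K', h1, h2, h3⟩ := c2.out (q R j) trivial
      (fun e => jL (h.mem_L e (n := 1) (by rw [pow_one, pow_two, v.ss]))) (v4 v)
    obtain ⟨ol, cy⟩ := hc K' (h1.trans inf_le_left) h2 h3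
    obtain ⟨M, hM, e1, e2, -⟩ := h.exI ht tt (h1.trans inf_le_left) cy (h2 ▸ ol) h3
    have ML : M ≤ L := fun a ha => ((hM a).1 ha).1.1
    refine ⟨M, fun a ha => ⟨ML ha, mem_cent1.2 (mul_inv_eq_iff_eq_mul.1 ?_)⟩,
      by rw [← card_bar_of_disj (ML.trans h.LR) e2, ← h2, ← e1], fun a ha => ((hM a).1 ha).2⟩
    lift a to R using h.LR (ML ha)
    obtain ⟨⟨a1, a2⟩, a3⟩ := (hM a).1 ha
    have e : q R (j * a * j⁻¹) = q R a := by
      rw [map_mul, map_mul, map_inv, mem_cent1.1 (h1 (H1.coe_mem_unbar.1 a2)).2,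
        mul_inv_cancel_right]
    refine inj e2 (x := j * a * j⁻¹) ((hM _).2 ⟨⟨P4.conj_mem (h.nL j.2) a1,
      H1.coe_mem_unbar.2 (e ▸ H1.coe_mem_unbar.1 a2)⟩, ?_⟩) ha e
    show (t : G) * (j * a * (j : G)⁻¹) * t = (j * a * (j : G)⁻¹)⁻¹
    rw [← mul_assoc, ← mul_assoc, v.comm.eq, mul_assoc _ _ (t : G), ← v.comm.inv_right.eq]
    calc _ = j * (t * a * t) * (j : G)⁻¹ := by group
      _ = _ := by rw [a3]; group

end

end Lf

end KC

open KC in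
theorem kcStmt (hS : SemStmt.{u}) (hC : CLLStmt.{u}) (h7 : K7Stmt.{u}) : KCStmt.{u} := by
  intro G _ _ n h hI R hn t ht t1 tt
  obtain ⟨L, hL⟩ := H2.exists_compIn_of_layerOf_ne_bot (H := R) fun e => t1 (mem_bot.1 (e ▸ ht))
  have eL := KD.layer_eq h hL
  have lf : Lf R L := ⟨hL.le, eL ▸ H2.le_normalizer_layerOf R, cent_comm.1
    (hL.le_centralizer_of_isSolvable (H2.snIn_pPrimeCoreOf 2 R) (P4.solvable_of_odd (odd_Od R)))⟩
  rw [KC, eL]
  rw [eL] at ht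
  lift t to R using lf.LR ht
  have hD := (h.subgroup R).quotient ((Od R).subgroupOf R)
  have hn' : Nat.card (R ⧸ (Od R).subgroupOf R) < n :=
    (Nat.le_of_dvd Nat.card_pos (card_quotient_dvd_card _)).trans_lt hn
  have t' : q R t ∈ B R L := H1.qmk_mem_bar ht
  have t1' := ne_one ⟨t1, tt⟩
  have tt' : q R t * q R t = 1 := by rw [← map_mul, show t * t = 1 from Subtype.ext tt, map_one]
  have qs : IsQuasisimple (B R L) := H2.QS.map _ ((H2.QS.subgroupOf_iff lf.LR).2 hL.2)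
    fun e => t1' (mem_bot.1 (e ▸ t'))
  haveI : (B R L).Normal := H1.bar_normal lf.nL
  have hO : pPrimeCoreOf 2 (⊤ : Subgroup (R ⧸ (Od R).subgroupOf R)) = ⊥ := by
    rw [← H1.bar_top, FT.pPrimeCoreOf_bar Nat.prime_two (Od_normal R).1 le_rfl
      (H2.coprime_card_pPrimeCoreOf 2 R), H1.bar_self]
  have c0 : 𝐂(B R L) = ⊥ := eq_bot_iff.2 (hO ▸ le_Od ⟨le_top, le_normalizer_of_normal⟩
    (KD.odd_cent hD (H2.QS.not_isSolvable qs)))
  have hs := H2.isSimpleGroup_of_isQuasisimple qs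
    ((H2.center_eq_bot_iff_inf_centralizer _).2 (by rw [c0, inf_bot_eq]))
  obtain ⟨perf, -, qs'⟩ := H2.isQuasisimple_subgroup_iff.1 hL.2
  have qs2 : ∀ N : Subgroup G, N ⊲ L → N = L ∨ Odd 𝐨(N) := fun N hN => (qs' N hN.1 hN.2).imp_right
    fun e => odd_of_le e (KD.odd_cent h (H2.QS.not_isSolvable hL.2))
  have fin : ∀ K', CL ⊤ (B R L) K' (q R t) → (∃ s ∈ B R L, V4 (q R t) s ∧ ∀ a ∈ K', s * a * s = a⁻¹) →
      ∃ K ≤ L ⊓ 𝐂[(t : G)], B R K = K' ∧ Od R ⊓ K = ⊥ ∧ R ⊓ 𝐂[(t : G)] ≤ 𝐍(K) := by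
    rintro K' cl ⟨s, hs, v, inv⟩
    obtain ⟨s, h1, h2, rfl⟩ := lf.lift1 hs v.ss
    exact lf.exK cl ht h1 (lf.v4' ht tt h2 v) inv
  rcases KD.kn hI hD hn' hs (H2.QS.not_isMulCommutative qs) with ⟨F, _, π, c, h3⟩ | e
  · obtain ⟨K', k, l, cl, c2⟩ := hC _ F π _ hD ‹_› c0 c h3 (hS _ F π _ hD ‹_› c0 c h3) _ t' t1' tt'
    obtain ⟨K, a1, rfl, a2, a3⟩ := fin K' cl (let ⟨s, hs, v⟩ := cl.ex; ⟨s, hs, v, c2.inv s trivial v⟩)
    exact ⟨K, lf.toCL cl ht tt a1 a2 a3 perf qs2 c0, Or.inl ⟨k, l, lf.toCL2 cl ht tt a1 a2 a3 c2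
      fun _ b1 b2 b3 => cyc_out c cl c2 b1 b2 b3⟩⟩
  · obtain ⟨K', cl, c7⟩ := (h7 _ _ hD ‹_› c0 hs e).2 _ t' t1' tt'
    obtain ⟨K, a1, rfl, a2, a3⟩ := fin K' cl (ex7 hD cl c7)
    exact ⟨K, lf.toCL cl ht tt a1 a2 a3 perf qs2 c0, Or.inr (lf.toCL7 cl ht tt a1 a2 a3 c7)⟩

end Cfsg.Agent.P15
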