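/-
P15, chapter Num: arithmetic consequences of the order formulas.
-/
import Cfsg.Agent.P15.Defs
import Cfsg.Agent.P15.Ch5

set_option autoImplicit false

namespace Cfsg.Agent.P15

namespace Num

theorem neg_of {w a n σ δ : ℤ} (hw : 4 ≤ w) (a0 : a ≠ 0) (ho : Odd (a + n)) (hσ : 0 < σ)
    (E : n ^ 2 * σ ^ 2 * (1 + 2 * w * a) = a ^ 2 * δ ^ 2 * ((1 + w * a) ^ 2 - w ^ 2 * n ^ 2))
    (h : σ ^ 2 ≤ 4 * δ ^ 2) : a < 0 ∧ 1 - a ≤ |n| := by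
  have h1 : 0 < σ ^ 2 := by positivity
  have h2 : 0 < a ^ 2 * δ ^ 2 := mul_pos (by positivity) (by linarith)
  have h3 : |n| ≠ |a| := fun e => by
    obtain ⟨c, hc⟩ := ho
    rcases abs_eq_abs.1 e with e | e <;> omega
  have hn := abs_nonneg n
  rw [← sq_abs n] at E
  generalize |n| = m at *
  rcases a0.lt_or_gt with ha | ha
  · refine ⟨ha, by_contra fun h4 => ?_⟩
    rw [abs_of_neg ha] at h3
    have h5 : m ≤ -a - 1 := by omega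
    have h6 : w * m ≤ -(w * a) - 4 := by nlinarith
    have h7 : 0 ≤ w * m := by positivity
    have h8 : 0 < (1 + w * a) ^ 2 - w ^ 2 * m ^ 2 := by nlinarith
    have h9 : 1 + 2 * w * a < 0 := by nlinarith
    nlinarith [mul_pos h2 h8, mul_nonneg (mul_nonneg (sq_nonneg m) h1.le) (neg_pos.2 h9).le]
  · exfalso
    rw [abs_of_pos ha] at h3
    have h9 : 0 < 1 + 2 * w * a := by positivity
    have h8 : 0 ≤ (1 + w * a) ^ 2 - w ^ 2 * m ^ 2 :=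
      nonneg_of_mul_nonneg_right (a := a ^ 2 * δ ^ 2) (by rw [← E]; positivity) h2
    have h5 : m ≤ a - 1 := by
      by_contra h5
      have h6 : w * a + 4 ≤ w * m := by nlinarith [show a + 1 ≤ m by omega]
      nlinarith [mul_pos (show 0 < w by omega) ha]
    have h6 : a ^ 2 * ((1 + w * a) ^ 2 - w ^ 2 * m ^ 2) ≤ 4 * (m ^ 2 * (1 + 2 * w * a)) :=
      le_of_mul_le_mul_left (by nlinarith [mul_nonneg (sq_nonneg a) h8]) h1
    have h7 : m ^ 2 ≤ (a - 1) ^ 2 := by nlinarith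
    have h10 : (1 + w) * (1 + 2 * w * a - w) ≤ (1 + w * a) ^ 2 - w ^ 2 * m ^ 2 := by
      nlinarith [sq_nonneg w]
    have h11 : 0 < 1 + 2 * w * a - w := by nlinarith
    have h12 : (a - 1) ^ 2 * (1 + 2 * w * a) ≤ a ^ 2 * (1 + 2 * w * a - w) := by
      nlinarith [mul_pos (show 0 < w by omega) ha]
    have h13 : 0 < a ^ 2 := by positivity
    nlinarith [mul_pos h13 h11, mul_le_mul_of_nonneg_left h10 h13.le,
      mul_le_mul_of_nonneg_right h7 h9.le]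

theorem rho {w a n σ δ : ℤ} (hw : 4 ≤ w) (a0 : a ≠ 0) (ho : Odd (a + n)) (hσ : 0 < σ)
    (E : n ^ 2 * σ ^ 2 * (1 + 2 * w * a) = a ^ 2 * δ ^ 2 * ((1 + w * a) ^ 2 - w ^ 2 * n ^ 2)) :
    49 * δ ^ 2 < 25 * σ ^ 2 := by
  by_contra h
  have h1 : 0 < σ ^ 2 := by positivity
  obtain ⟨ha, hn⟩ := neg_of hw a0 ho hσ E (by linarith)
  obtain ⟨A, rfl⟩ : ∃ A, a = -A := ⟨-a, by ring⟩
  rw [← sq_abs n] at E
  generalize |n| = m at *
  have h2 : 4 * A ≤ w * A := by nlinarith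
  have h3 : (A + 1) ^ 2 ≤ m ^ 2 := by nlinarith
  have h4 : (w * A - 1) ^ 2 ≤ w ^ 2 * m ^ 2 := by nlinarith [sq_nonneg w]
  have h5 : 25 * ((w * A) ^ 2 * m ^ 2 - A ^ 2 * (w * A - 1) ^ 2) ≤ 49 * (m ^ 2 * (2 * (w * A) - 1)) :=
    le_of_mul_le_mul_left (by nlinarith [mul_nonneg (sq_nonneg A) (sub_nonneg.2 h4)]) h1
  generalize w * A = u at *
  have h6 : 0 < 25 * u ^ 2 - 98 * u + 49 := by nlinarith
  have h7 : (2 * A + 1) * (25 * u ^ 2 - 98 * u + 49) ≤ A ^ 2 * (48 * u - 24) := by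
    nlinarith [mul_le_mul_of_nonneg_right h3 h6.le]
  have h8 : A ^ 2 * (48 * u - 24) ≤ A * (12 * u ^ 2 - 6 * u) := by
    nlinarith [mul_nonneg (mul_nonneg (show 0 ≤ A by omega) (show 0 ≤ 2 * u - 1 by omega))
      (sub_nonneg.2 h2)]
  rcases (show u = 4 ∨ 5 ≤ u by omega) with rfl | h9
  · obtain rfl : A = 1 := by omega
    omega
  · nlinarith [mul_pos (show 0 < A by omega) (show 0 < 38 * u ^ 2 - 190 * u + 98 by nlinarith)]

theorem last {w a n σ δ f : ℤ} (hw : 4 ≤ w) (a0 : a ≠ 0) (ho : Odd (a + n)) (hσ : 0 < σ)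
    (E : n ^ 2 * σ ^ 2 * (1 + 2 * w * a) = a ^ 2 * δ ^ 2 * ((1 + w * a) ^ 2 - w ^ 2 * n ^ 2))
    (h : σ ^ 2 ≤ 4 * δ ^ 2) (hf : 5 ≤ f) (fa : f ∣ a) (fn : f ∣ n) : False := by
  have h1 : 0 < σ ^ 2 := by positivity
  obtain ⟨ha, hn⟩ := neg_of hw a0 ho hσ E h
  obtain ⟨A, rfl⟩ : ∃ A, a = -A := ⟨-a, by ring⟩
  have k1 := Int.le_of_dvd (by omega) (dvd_add ((dvd_abs _ _).2 fn) fa)
  have k2 := Int.le_of_dvd (show 0 < A by omega) (dvd_neg.1 fa)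
  rw [← sq_abs n] at E
  generalize |n| = m at *
  have h2 : 4 * A ≤ w * A := by nlinarith
  have h3 : (A + 5) ^ 2 ≤ m ^ 2 := by nlinarith
  have h4 : (w * A - 1) ^ 2 ≤ w ^ 2 * m ^ 2 := by nlinarith [sq_nonneg w]
  have h5 : (w * A) ^ 2 * m ^ 2 - A ^ 2 * (w * A - 1) ^ 2 ≤ 4 * (m ^ 2 * (2 * (w * A) - 1)) :=
    le_of_mul_le_mul_left (by nlinarith [mul_nonneg (sq_nonneg A) (sub_nonneg.2 h4)]) h1
  generalize w * A = u at *
  have h6 : 0 < u ^ 2 - 8 * u + 4 := by nlinarith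
  have h7 : (10 * A + 25) * (u ^ 2 - 8 * u + 4) ≤ A ^ 2 * (6 * u - 3) := by
    nlinarith [mul_le_mul_of_nonneg_right h3 h6.le]
  have h8 : 4 * (A ^ 2 * (6 * u - 3)) ≤ A * (6 * u ^ 2 - 3 * u) := by
    nlinarith [mul_nonneg (mul_nonneg (show 0 ≤ A by omega) (show 0 ≤ 2 * u - 1 by omega))
      (sub_nonneg.2 h2)]
  nlinarith [mul_pos (show 0 < A by omega) (show 0 < 34 * u ^ 2 - 317 * u by nlinarith)]

theorem sq_of {n c D : ℤ} (c0 : c ≠ 0) (h : n ^ 2 * D = c ^ 2) : ∃ r : ℤ, D = r ^ 2 := by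
  obtain ⟨r, rfl⟩ := (Int.pow_dvd_pow_iff two_ne_zero).1 ⟨D, h.symm⟩
  exact ⟨r, mul_left_cancel₀ (pow_ne_zero 2 (left_ne_zero_of_mul c0)) (by rw [h]; ring)⟩

theorem diff {p q c : ℤ} (hc : 0 < c) (h : p ^ 2 - q ^ 2 = c) : 2 * |p| - 1 ≤ c := by
  rw [← sq_abs p, ← sq_abs q] at h
  have := abs_nonneg p
  have := abs_nonneg q
  have : |q| ≤ |p| - 1 := by by_contra e; nlinarith
  nlinarith

theorem split {m : ℕ} {a z : ℤ} (h : (2 ^ (m + 2) : ℤ) * a = z) (hz : z = -4 ∨ z = -8) :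
    (m = 0 ∧ 4 * a = z) ∨ (z = -8 ∧ a = -1) := by
  rcases m with _ | m
  · exact .inl ⟨rfl, by simpa using h⟩
  · have h1 : (1 : ℤ) ≤ 2 ^ m := one_le_pow₀ one_le_two
    rw [show m + 1 + 2 = m + 3 from rfl, pow_add] at h
    generalize (2 : ℤ) ^ m = r at *
    replace h : 8 * (r * a) = z := by rw [← h]; ring
    have h2 : r * a = -1 := by omega
    exact .inr ⟨by omega, (Int.eq_one_or_neg_one_of_mul_eq_neg_one' h2).elim (·.2) fun e => by omega⟩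

theorem half {m i k₁ k₂ : ℕ} (o1 : Odd k₁) (o2 : Odd k₂) (h : Form (2 ^ (m + 2)) i k₁ k₂) :
    k₂ < 6 * k₁ ∧ (k₂ = 3 * k₁ → 2 ^ (m + 2) = 4 ∧ i = 105 * k₁ ^ 2) ∧
      (k₂ = 5 * k₁ → 2 ^ (m + 2) = 4 ∧ i = 189 * k₁ ^ 2) ∧
      ∀ j, k₂ = k₁ * j → k₁.Coprime i → 5 ≤ k₁ → j < 3 := by
  obtain ⟨a, n, a0, ho, E1, E2⟩ := h
  push_cast at E1 E2
  have hw : (4 : ℤ) ≤ 2 ^ (m + 2) := by
    have h1 : (1 : ℤ) ≤ 2 ^ m := one_le_pow₀ one_le_two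
    rw [pow_add]; omega
  have d4 : ∃ c, (2 : ℤ) ^ (m + 2) * a = 4 * c := ⟨2 ^ m * a, by ring⟩
  have w0 : 1 + (2 : ℤ) ^ (m + 2) * a ≠ 0 := by omega
  have p1 := o1.pos
  have p2 := o2.pos
  have E : n ^ 2 * ((k₁ : ℤ) + k₂) ^ 2 * (1 + 2 * 2 ^ (m + 2) * a) =
      a ^ 2 * ((k₁ : ℤ) - k₂) ^ 2 * ((1 + 2 ^ (m + 2) * a) ^ 2 - (2 ^ (m + 2)) ^ 2 * n ^ 2) :=
    mul_left_cancel₀ w0 (by linear_combination a ^ 2 * E2 - n ^ 2 * E1)
  have hσ : (0 : ℤ) < k₁ + k₂ := by omega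
  have q1 : (k₁ : ℤ) ^ 2 ≠ 0 := by positivity
  have z0 : (2 : ℤ) ^ (m + 2) * a ≠ 0 := by positivity
  refine ⟨?_, ?_, ?_, ?_⟩
  · have := rho hw a0 ho hσ E
    by_contra e
    have : 6 * (k₁ : ℤ) ≤ k₂ := by omega
    nlinarith
  · rintro rfl
    push_cast at E E1
    have sp := @split m a _ rfl
    have e1 : n ^ 2 * ((2 ^ (m + 2) * a + 4) ^ 2 - 12) = (a * (1 + 2 ^ (m + 2) * a)) ^ 2 :=
      mul_left_cancel₀ (mul_ne_zero four_ne_zero q1) (by linear_combination E)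
    obtain ⟨r, hr⟩ := sq_of (mul_ne_zero a0 w0) e1
    have b1 := diff (p := 2 ^ (m + 2) * a + 4) (q := r) (c := 12) (by norm_num) (by linarith)
    rw [mul_assoc 2] at E1
    generalize (2 : ℤ) ^ (m + 2) * a = z at *
    have hz : z = -4 ∨ z = -8 := by rcases abs_cases (z + 4) with e | e <;> omega
    rcases sp hz with ⟨rfl, e⟩ | ⟨rfl, rfl⟩
    · rcases hz with rfl | rfl
      · nlinarith [sq_nonneg r]
      · obtain rfl : a = -2 := by omega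
        exact ⟨rfl, by exact_mod_cast (by linarith : (i : ℤ) = 105 * k₁ ^ 2)⟩
    · omega
  · rintro rfl
    push_cast at E E1
    have sp := @split m a _ rfl
    have e1 : n ^ 2 * (4 * (2 ^ (m + 2) * a) ^ 2 + 18 * (2 ^ (m + 2) * a) + 9) =
        (2 * (a * (1 + 2 ^ (m + 2) * a))) ^ 2 :=
      mul_left_cancel₀ (mul_ne_zero four_ne_zero q1) (by linear_combination E)
    obtain ⟨r, hr⟩ := sq_of (mul_ne_zero two_ne_zero (mul_ne_zero a0 w0)) e1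
    have b1 := diff (p := 4 * (2 ^ (m + 2) * a) + 9) (q := 2 * r) (c := 45) (by norm_num)
      (by linear_combination 4 * hr)
    rw [mul_assoc 2] at E1
    generalize (2 : ℤ) ^ (m + 2) * a = z at *
    have hz : z = -4 ∨ z = -8 := by rcases abs_cases (4 * z + 9) with e | e <;> omega
    rcases sp hz with ⟨rfl, e⟩ | ⟨rfl, rfl⟩
    · rcases hz with rfl | rfl
      · obtain rfl : a = -1 := by omega
        exact ⟨rfl, by exact_mod_cast (by linarith : (i : ℤ) = 189 * k₁ ^ 2)⟩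
      · obtain rfl : a = -2 := by omega
        omega
    · omega
  · rintro j rfl hc h5
    by_contra h3
    have c1 : IsCoprime ((k₁ : ℤ) ^ 2) (4 * i) := by
      have := (((Nat.coprime_two_right.2 o1).pow_right 2).mul_right hc).pow_left 2
      exact_mod_cast Nat.isCoprime_iff_coprime.2 this
    push_cast at E E1 E2 hσ
    refine last hw a0 ho hσ E ?_ (f := k₁) (by omega)
      ((Int.pow_dvd_pow_iff two_ne_zero).1 (c1.dvd_of_dvd_mul_left ⟨_, by rw [E1, mul_assoc, ← mul_one_add, mul_pow, mul_assoc]⟩))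
      ((Int.pow_dvd_pow_iff two_ne_zero).1 (c1.dvd_of_dvd_mul_left ⟨_, by rw [E2, mul_assoc, mul_assoc, ← mul_one_sub, mul_pow, mul_assoc]⟩))
    have : (3 : ℤ) ≤ j := by omega
    rw [← mul_one_add, ← mul_one_sub, mul_pow, mul_pow]
    nlinarith [mul_nonneg (sq_nonneg (k₁ : ℤ)) (show 0 ≤ 4 * (1 - (j : ℤ)) ^ 2 - (1 + j) ^ 2 by nlinarith)]

end Num

theorem Form.symm {w i k₁ k₂ : ℕ} (h : Form w i k₁ k₂) : Form w i k₂ k₁ := by
  obtain ⟨a, n, h1, h2, h3, h4⟩ := h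
  exact ⟨a, n, h1, h2, by linear_combination h3, by linear_combination h4⟩

theorem Form.bounds {m i k₁ k₂ : ℕ} (p : 0 < k₁) (h : Form (2 ^ (m + 2)) i k₁ k₂) :
    21 * (2 ^ (m + 2) * (k₁ + k₂)) ^ 2 ≤ 64 * i ∧ 64 * i ≤ 45 * (2 ^ (m + 2) * (k₁ + k₂)) ^ 2 := by
  obtain ⟨a, n, -, -, h3, -⟩ := h
  push_cast at h3
  obtain ⟨-, h1, h2⟩ := Ch.num_bounds (N := i) (k := 2 ^ (m + 1) * (k₁ + k₂))
    (x := 1 + 2 * 2 ^ (m + 2) * a) (by positivity) ⟨2 ^ m * a, by ring⟩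
    (by linear_combination (2 ^ (m + 2)) ^ 2 * h3)
  exact ⟨by exact_mod_cast (by linear_combination 4 * h1 :
      (21 * (2 ^ (m + 2) * (k₁ + k₂)) ^ 2 : ℤ) ≤ 64 * i),
    by exact_mod_cast (by linear_combination 4 * h2 :
      (64 * i : ℤ) ≤ 45 * (2 ^ (m + 2) * (k₁ + k₂)) ^ 2)⟩

theorem numStmt : NumStmt := by
  rintro w i k₁ k₂ ⟨m, rfl⟩ o1 o2 h
  obtain ⟨a1, a2, a3, a4⟩ := Num.half o1 o2 h
  obtain ⟨b1, b2, b3, b4⟩ := Num.half o2 o1 h.symm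
  exact ⟨(h.bounds o1.pos).1, (h.bounds o1.pos).2, a1, b1, a2, a3, b2, b3, a4, b4⟩

end Cfsg.Agent.P15
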