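/-
P15: the semilinear action on `L = π(SL₂(F))`.
-/
import Cfsg.Agent.P15.BarL0
import Cfsg.Agent.P15.Bas0

set_option autoImplicit false
set_option linter.unusedSectionVars false
set_option linter.style.haveILetI false

namespace Cfsg.Agent.P15

open Matrix Subgroup Cfsg Cfsg.Agent Cfsg.Agent.FT Cfsg.Agent.H4.SL2 Cfsg.Agent.P4 OnePoint
open Cfsg.Agent.L (mkSL2 sl2Perm)
open Cfsg.Agent.P3 (gl2Perm)
open Cfsg.Agent.P5 (V4 Tri)
open Cfsg.Agent.P7 (Cov Ab PU conjSL mapSL uni sle fixF mem_fixF)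
open Cfsg.Agent.P15.BL
open scoped commutatorElement

universe u

namespace Sm

variable {X : Type u} [Group X] [Finite X] {F : Type} [Field F] {π : SL F →* X} {L : Subgroup X}

theorem recoord (h : Cov π L) (γ : GL (Fin 2) F) : Cov (π.comp (conjSL γ)) L := by
  classical
  refine ⟨?_, ?_, h.odd⟩
  · rw [← h.range]
    exact le_antisymm (by rintro _ ⟨y, rfl⟩; exact ⟨_, rfl⟩)
      (by rintro _ ⟨y, rfl⟩; exact ⟨conjSL γ⁻¹ y, congrArg π (P7.conjSL_inv γ⁻¹ y)⟩)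
  · ext y
    rw [MonoidHom.mem_ker, MonoidHom.comp_apply, h.eq_one_iff, ← P3.ker_sl2Perm,
      MonoidHom.mem_ker, MonoidHom.mem_ker, P7.sl2Perm_conjSL, conj_eq_one_iff]

theorem syl_PU (h : Cov π L) {p : ℕ} [CharP F p] (hp : p.Prime) : IsSyl p (PU π) L := by
  haveI := h.finite
  refine ⟨h.PU_le, Agent.L.IsElementaryAbelian.isPGroup h.eaP, fun hd => ?_⟩
  have h1 := P7.card_mul_relIndex' h.PU_le
  have h2 := h.card_L
  rw [← h1, h.card_PU, mul_left_comm, mul_assoc] at h2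
  have h3 := congrArg (Nat.cast : ℕ → F) (Nat.eq_of_mul_eq_mul_left Nat.card_pos h2)
  let _ := Fintype.ofFinite F
  have h4 : ((Nat.card F : ℕ) : F) = 0 := by
    rw [Nat.card_eq_fintype_card]; exact FiniteField.cast_card_eq_zero F
  rw [Nat.cast_mul, (CharP.cast_eq_zero_iff F p _).2 hd, Nat.cast_mul, Nat.cast_sub Nat.card_pos,
    Nat.cast_add, h4] at h3
  simp at h3

/-- `m` acts on `L` through the semilinear map `(γ, σ)`. -/
def Sf (π : SL F →* X) (m : X) (γ : GL (Fin 2) F) (σ : RingAut F) : Prop :=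
  ∀ y, m * π y * m⁻¹ = π (conjSL γ (mapSL σ y))

theorem exists_sf (h : Cov π L) [L.Normal] (m : X) : ∃ γ σ, Sf π m γ σ := by
  classical
  haveI := h.finite
  obtain ⟨p, hc⟩ := CharP.exists F
  have hp := CharP.char_is_prime F p
  have hP := syl_PU h hp
  choose y hy using P7.exists_infty (F := F)
  let E : OnePoint F → Subgroup X := fun a => PU π ^ᵍ π (y a)
  have key : ∀ a b : SL F, PU π ^ᵍ π a = PU π ^ᵍ π b ↔ sl2Perm F a ∞ = sl2Perm F b ∞ := fun a b => by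
    rw [eq_comm, conj_eq_iff, conj_conj, eq_comm, conj_eq_self_iff, ← map_inv, ← map_mul,
      h.mem_norm_PU, ← P7.fix_infty, map_mul, map_inv, Equiv.Perm.mul_apply,
      Equiv.Perm.inv_eq_iff_eq]
  have Einj : Function.Injective E := fun a b e => by rwa [key, hy, hy] at e
  have Econj : ∀ g a, E a ^ᵍ π g = E (sl2Perm F g a) := fun g a => by
    rw [conj_conj, ← map_mul, key, hy, map_mul, Equiv.Perm.mul_apply, hy]
  have Esurj : ∀ a, ∃ b, E b = E a ^ᵍ m := fun a => by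
    obtain ⟨c, hc, e'⟩ := ((hP.conj_of_mem_norm (le_normalizer (h.mem (y a)))).conj_of_mem_norm
      (le_normalizer_of_normal (mem_top m))).exists_conj_eq hp hP
    obtain ⟨γ, rfl⟩ := h.exists_eq hc
    exact ⟨sl2Perm F γ ∞, ((key _ _).2 (hy _)).trans e'⟩
  choose f hf using Esurj
  have finj : Function.Injective f := fun a b e => Einj (conj_inj.1 (by rw [← hf, ← hf, e]))
  haveI : Finite (OnePoint F) := inferInstanceAs (Finite (Option F))
  let ψ := Equiv.ofBijective f (Finite.injective_iff_bijective.1 finj)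
  have hψ : ∀ z z', π z' = m * π z * m⁻¹ → ψ * sl2Perm F z * ψ⁻¹ = sl2Perm F z' := fun z z' e => by
    rw [mul_inv_eq_iff_eq_mul]
    refine Equiv.ext fun a => Einj ?_
    change E (f (sl2Perm F z a)) = E (sl2Perm F z' (f a))
    rw [hf, ← Econj, ← Econj, hf, conj_conj (E a), conj_conj (E a), e, inv_mul_cancel_right]
  have hn : ∀ z, ∃ z', π z' = m * π z * m⁻¹ := fun z =>
    h.exists_eq (Normal.conj_mem inferInstance _ (h.mem z) m)
  obtain ⟨γ, g1, g2, g3⟩ := P7.exists_three (ψ.injective.ne (infty_ne_coe (0 : F)))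
    (ψ.injective.ne (infty_ne_coe (1 : F))) (ψ.injective.ne (coe_eq_coe.not.2 zero_ne_one))
  obtain ⟨σ, hσ⟩ := P7.exists_ringAut h.odd (τ := gl2Perm F γ * ψ) (fun z => by
    obtain ⟨z', e⟩ := hn z
    exact ⟨conjSL γ z', by rw [P7.sl2Perm_conjSL, ← hψ z z' e]; group⟩) g1 g2 g3
  refine ⟨γ⁻¹, σ, fun z => ?_⟩
  obtain ⟨z', e⟩ := hn z
  rw [← e, h.eq_iff, ← P3.ker_sl2Perm, MonoidHom.mem_ker, map_mul, map_inv, P7.sl2Perm_conjSL,
    ← P7.conj_ringAut g1 hσ, ← hψ z z' e, map_inv]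
  group

theorem tr_sq (h : Cov π L) {x y : SL F} (e : π x = π y) : tr x ^ 2 = tr y ^ 2 := by
  have h1 := h.eq_iff.1 e
  rw [← mul_inv_cancel_left x y]
  generalize x⁻¹ * y = z at h1
  obtain ⟨a, b, c⟩ := mem_center_iff'.1 h1
  have d := det_eq z
  rw [a, ← c] at d
  simp only [tr, sle, a, b, ← c]
  linear_combination -(x 0 0 + x 1 1) ^ 2 * d

/-- The effect of `m` on traces. -/
def Tr (π : SL F →* X) (m : X) (σ : RingAut F) : Prop :=
  ∀ y y', m * π y * m⁻¹ = π y' → tr y' ^ 2 = σ (tr y ^ 2)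

theorem Sf.tr (h : Cov π L) {m : X} {γ : GL (Fin 2) F} {σ : RingAut F} (k : Sf π m γ σ) :
    Tr π m σ := fun y y' e => by
  rw [← tr_sq h ((k y).symm.trans e), tr_conjSL, map_pow, H4.SL2.tr, H4.SL2.tr, map_add]
  rfl

theorem Tr.uniq (h : Cov π L) [L.Normal] {m : X} {σ σ' : RingAut F} (k : Tr π m σ)
    (k' : Tr π m σ') : σ = σ' := by
  haveI := h.finite
  have key : ∀ c : F, σ (c * c) = σ' (c * c) := fun c => by
    let y : SL F := mkSL2 c (-1) 1 0 (by ring)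
    obtain ⟨y', e⟩ := h.exists_eq (Normal.conj_mem inferInstance _ (h.mem y) m)
    have := (k y y' e.symm).symm.trans (k' y y' e.symm)
    simpa only [H4.SL2.tr, y, sle, add_zero, sq] using this
  refine RingEquiv.ext fun c => ?_
  obtain ⟨a, b, rfl⟩ := P3.exists_sq_add_sq h.odd c
  rw [map_add, map_add, key, key]

theorem exists_rho (h : Cov π L) [L.Normal] :
    ∃ ρ : X →* RingAut F, (∀ m, ∃ γ, Sf π m γ (ρ m)) ∧ ∀ m ∈ L, ρ m = 1 := by
  choose γ σ hσ using exists_sf h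
  refine ⟨MonoidHom.mk' σ fun a b => ((hσ _).tr h).uniq h fun y y' e => ?_, fun m => ⟨_, hσ m⟩,
    fun m hm => ((hσ _).tr h).uniq h fun y y' e => ?_⟩
  · obtain ⟨z, ez⟩ := h.exists_eq (Normal.conj_mem inferInstance _ (h.mem y) b)
    rw [(hσ a).tr h z y' (by rw [ez, ← e]; group), (hσ b).tr h y z ez.symm]
    rfl
  · obtain ⟨x, rfl⟩ := h.exists_eq hm
    rw [← map_inv, ← map_mul, ← map_mul] at e
    rw [← tr_sq h e, tr_conj]
    rfl

theorem Sf.lf {m : X} {γ : GL (Fin 2) F} (k : Sf π m γ 1) : Lf π m γ := k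

theorem sq_mem (h : Cov π L) (hL : 𝐂(L) = ⊥) {m : X} {γ : GL (Fin 2) F} (k : Lf π m γ) :
    m * m ∈ L := by
  have d := det_ne γ
  rw [← det_fin_two] at d
  let x : SL F := ⟨(det γ.1)⁻¹ • (γ.1 * γ.1), by
    rw [det_smul, det_mul, Fintype.card_fin]; field_simp⟩
  rw [(k.mul k).ext h hL (lf_pi x) fun y => (conjSL_smul (β := (det γ.1)⁻¹) rfl y).symm]
  exact h.mem x

/-- The entrywise action on `GL₂`. -/
abbrev mapGL (σ : RingAut F) (γ : GL (Fin 2) F) : GL (Fin 2) F :=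
  GeneralLinearGroup.map (σ : F →+* F) γ

theorem mapSL_conjSL (σ : RingAut F) (γ : GL (Fin 2) F) (y : SL F) :
    mapSL σ (conjSL γ y) = conjSL (mapGL σ γ) (mapSL σ y) :=
  (conjSL_eq_iff.2 (by
    have := congrArg (fun M : Matrix (Fin 2) (Fin 2) F => M.map (σ : F →+* F)) (conjSL_spec γ y)
    simp only [Matrix.map_mul] at this
    exact this)).symm

theorem exists_norm (ho : Odd (Nat.card F)) {σ : RingAut F} (ss : ∀ c, σ (σ c) = c) {a l : F}
    (ha : σ a ≠ a) (hl : σ l = l) : ∃ μ, μ * σ μ = l := by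
  haveI : Finite F := Nat.finite_of_card_ne_zero fun e => by simp [e] at ho
  have h1 : σ (a - σ a) = -(a - σ a) := by rw [map_sub, ss]; ring
  have h2 : Odd (Nat.card (fixF σ)) := ho.of_dvd_nat (by
    haveI : Finite (RingAut F) := Finite.of_injective _ DFunLike.coe_injective
    rw [← P7.card_fixF σ]; exact dvd_pow_self _ (orderOf_pos σ).ne')
  obtain ⟨u, v, e⟩ := exists_sq_sub (F := fixF σ) (Nat.odd_iff.1 h2)
    (D := ⟨(a - σ a) ^ 2, mem_fixF.2 (by rw [map_pow, h1]; ring)⟩)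
    (fun e => pow_ne_zero 2 (sub_ne_zero.2 ha.symm) (congrArg Subtype.val e)) ⟨l, mem_fixF.2 hl⟩
  have e' : (u : F) ^ 2 - (a - σ a) ^ 2 * (v : F) ^ 2 = l := congrArg Subtype.val e
  refine ⟨u + v * (a - σ a), ?_⟩
  rw [map_add, map_mul, h1, mem_fixF.1 u.2, mem_fixF.1 v.2, ← e']
  ring

theorem mem_of_invol (h : Cov π L) (dc : DC X) {j : X} (jj : j * j = 1) {γ : GL (Fin 2) F}
    {σ : RingAut F} (k : Sf π j γ σ) (ss : ∀ c, σ (σ c) = c) (s1 : σ ≠ 1) : j ∈ L := by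
  obtain ⟨a, ha⟩ : ∃ a, σ a ≠ a := by
    by_contra! e
    exact s1 (RingEquiv.ext e)
  have sy : ∀ y : SL F, mapSL σ (mapSL σ y) = y := fun y =>
    P7.sl_ext (ss _) (ss _) (ss _) (ss _)
  obtain ⟨e1, e2, e3⟩ := Lf.scalar h (γ := γ * mapGL σ γ) fun y => by
    rw [conjSL_mul, ← sy y, ← mapSL_conjSL, ← k, ← k, sy, ← jj]; group
  have d' := det_ne (γ * mapGL σ γ)
  rw [e1, ← e3] at d'
  simp only [Units.val_mul, mul_apply, Fin.sum_univ_two] at e1 e2 e3 d'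
  change γ.1 0 0 * σ (γ.1 0 1) + γ.1 0 1 * σ (γ.1 1 1) = 0 at e1
  change γ.1 1 0 * σ (γ.1 0 0) + γ.1 1 1 * σ (γ.1 1 0) = 0 at e2
  change γ.1 0 0 * σ (γ.1 0 0) + γ.1 0 1 * σ (γ.1 1 0) =
    γ.1 1 0 * σ (γ.1 0 1) + γ.1 1 1 * σ (γ.1 1 1) at e3
  change (γ.1 0 0 * σ (γ.1 0 0) + γ.1 0 1 * σ (γ.1 1 0)) *
    (γ.1 0 0 * σ (γ.1 0 0) + γ.1 0 1 * σ (γ.1 1 0)) - _ ≠ 0 at d'
  obtain ⟨μ, hμ⟩ := exists_norm h.odd ss ha (l := γ.1 0 0 * σ (γ.1 0 0) + γ.1 0 1 * σ (γ.1 1 0)) (by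
    have f3 := congrArg σ e3
    simp only [map_add, map_mul, ss] at f3 ⊢
    exact mul_left_cancel₀ h.two_ne (by linear_combination f3 - e3))
  have μ0 : μ ≠ 0 := fun e => d' (by rw [← hμ, e]; simp)
  obtain ⟨c, hc⟩ : ∃ c : F, det ((c * μ) • (1 : Matrix (Fin 2) (Fin 2) F) + σ c • γ.1) ≠ 0 := by
    by_contra! e
    have f1 := e 1
    have f2 := e a
    have f3 := e (a + 1)
    simp [det_fin_two] at f1 f2 f3
    exact pow_ne_zero 2 (sub_ne_zero.2 ha) (mul_left_cancel₀ (pow_ne_zero 2 μ0) (by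
      linear_combination f2 - a * σ a * f1 - σ a * (f3 - f2 - f1 - (a + σ a) * f1)))
  let δ := GeneralLinearGroup.mkOfDetNeZero _ hc
  have hδ : (γ * mapGL σ δ).1 = σ μ • δ.1 := by
    ext i k
    fin_cases i <;> fin_cases k <;> simp [δ, mul_apply, Fin.sum_univ_two, ss]
    · linear_combination -c * hμ
    · linear_combination c * e1
    · linear_combination c * e2
    · linear_combination -c * hμ - c * e3
  obtain ⟨x, y, w, v, -, -, hf⟩ := (recoord h δ).exists_quat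
  have key : ∀ z, mapSL σ z = z → Commute (π.comp (conjSL δ) z) j := fun z hz => by
    have := k (conjSL δ z)
    rw [mapSL_conjSL, ← conjSL_mul, conjSL_smul hδ, hz] at this
    exact (mul_inv_eq_iff_eq_mul.1 this).symm
  exact V4.le_iff.2 ⟨h.mem _, h.mem _⟩ (dc.invol_mem v jj (key x (hf σ).1) (key y (hf σ).2.1))

theorem dvd_of_lte {N E : ℤ} {p n : ℕ} (hp : p.Prime) (p2 : p ≠ 2) (h1 : N ∣ (E - 1) * p ^ n)
    (h2 : N ∣ E ^ p - 1) : N ∣ p * (E - 1) := by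
  have hp' := Nat.prime_iff_prime_int.1 hp
  rw [← mul_geom_sum] at h2
  obtain ⟨u, v, e⟩ : ∃ u v : ℤ, u * ∑ i ∈ Finset.range p, E ^ i + v * p ^ n = p := by
    by_cases k : (p : ℤ) ∣ ∑ i ∈ Finset.range p, E ^ i
    · have k1 : (p : ℤ) ∣ E - 1 := by
        haveI := Fact.mk hp
        have := k.mul_left (E - 1)
        rw [mul_geom_sum, ← ZMod.intCast_zmod_eq_zero_iff_dvd] at this
        rw [← ZMod.intCast_zmod_eq_zero_iff_dvd]
        push_cast at this ⊢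
        rwa [ZMod.pow_card] at this
      obtain ⟨b, hb⟩ := k1
      obtain ⟨w, hw⟩ := odd_sq_dvd_geom_sum₂_sub (1 : ℤ) b (hp.odd_of_ne_two p2)
      simp only [one_pow, mul_one, ← hb, add_sub_cancel] at hw
      obtain ⟨u, v, e⟩ : IsCoprime (1 + p * w) ((p : ℤ) ^ n) :=
        IsCoprime.pow_right ⟨1, -w, by ring⟩
      exact ⟨u, p * v, by linear_combination u * hw + p * e⟩
    · obtain ⟨u, v, e⟩ := (hp'.coprime_iff_not_dvd.2 k).symm.pow_right (n := n)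
      exact ⟨p * u, p * v, by linear_combination p * e⟩
  rw [← e, show (u * ∑ i ∈ Finset.range p, E ^ i + v * p ^ n) * (E - 1) =
    u * ((E - 1) * ∑ i ∈ Finset.range p, E ^ i) + v * ((E - 1) * p ^ n) by ring]
  exact (h2.mul_left u).add (h1.mul_left v)

theorem card_le_fix {A : Subgroup X} (hA : IsCyclic A) {b : X} (hb : b ∈ 𝐍(A)) {p m : ℕ}
    (hp : p.Prime) (p2 : p ≠ 2) (h1 : (b ^ p ^ m) ^ p = 1) (h : ∀ a ∈ A, ∃ n, ⁅a, b⁆ ^ p ^ n = 1) :
    𝐨(A) ≤ p * 𝐨((A ⊓ 𝐂[b ^ p ^ m] : Subgroup X)) := by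
  obtain ⟨g, rfl⟩ := isCyclic_iff_zpowers.1 hA
  obtain ⟨e, he⟩ := mem_zpowers_iff.1 ((mem_normalizer_iff.1 hb g).1 (mem_zpowers g))
  have hi : ∀ i : ℕ, b ^ i * g * (b ^ i)⁻¹ = g ^ e ^ i := fun i => by
    induction i with
    | zero => simp
    | succ i ih =>
      rw [pow_succ, pow_succ', _root_.zpow_mul, he, conj_zpow, ← ih]
      group
  obtain ⟨n, hn⟩ := h g (mem_zpowers g)
  have h2 : (orderOf g : ℤ) ∣ (e ^ p ^ m - 1) * p ^ n := by
    refine Dvd.dvd.trans ?_ (mul_dvd_mul_right (by simpa using sub_dvd_pow_sub_pow e 1 (p ^ m)) _)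
    rw [orderOf_dvd_iff_zpow_eq_one, _root_.zpow_mul, ← inv_eq_one, ← _root_.inv_zpow,
      ← Nat.cast_pow, zpow_natCast, ← hn, _root_.zpow_sub, he, commutatorElement_def]
    congr 1
    group
  have h3 : (orderOf g : ℤ) ∣ (e ^ p ^ m) ^ p - 1 := by
    rw [orderOf_dvd_iff_zpow_eq_one, _root_.zpow_sub, ← pow_mul, ← hi, pow_mul, h1]
    simp
  have h4 := dvd_of_lte hp p2 h2 h3
  rw [orderOf_dvd_iff_zpow_eq_one, mul_sub, _root_.zpow_sub, mul_comm, _root_.zpow_mul, ← hi,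
    mul_one, zpow_natCast, zpow_natCast, conj_pow, mul_inv_eq_one] at h4
  have h5 := card_le_of_le (zpowers_le.2 (mem_inf.2 ⟨pow_mem (mem_zpowers g) p,
    mem_cent1_comm.1 (mem_cent1_iff_conj.2 h4)⟩))
  rw [Nat.card_zpowers] at h5 ⊢
  exact (Nat.le_of_dvd (Nat.mul_pos hp.pos (orderOf_pos _)) (orderOf_dvd_of_pow_eq_one
    (by rw [pow_mul, pow_orderOf_eq_one]))).trans (Nat.mul_le_mul_left _ h5)

theorem card_fix_le (h : Cov π L) {x : SL F} (x1 : π x ≠ 1) (xx : π x * π x = 1) {b : X}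
    {σ : RingAut F} (k : Tr π b σ) (ho : Odd (orderOf σ)) :
    𝐨((Ab π x ⊓ 𝐂[b] : Subgroup X)) ≤ Nat.card (fixF σ) := by
  haveI := h.finite
  have hx := mt h.eq_one_iff.2 x1
  have t0 := tr_of_sq_mem_center hx (by rwa [← h.eq_one_iff, map_mul])
  have h1 := h.card_map (K := 𝐂[x] ⊓ (𝐂[b]).comap π) fun z hz => ⟨mem_cent1.2 (mem_center_iff.1 hz x),
    show π z ∈ 𝐂[b] from h.eq_one_iff.2 hz ▸ one_mem _⟩
  have h2 : Ab π x ⊓ 𝐂[b] ≤ (𝐂[x] ⊓ (𝐂[b]).comap π).map π := by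
    rintro _ ⟨⟨y, hy, rfl⟩, hb⟩
    exact ⟨y, ⟨hy, hb⟩, rfl⟩
  have hr : ∀ c : F, ∃ r, ∀ z, z * z = c → z = r ∨ z = -r := fun c => by
    by_cases e : ∃ r, r * r = c
    · obtain ⟨r, rfl⟩ := e
      exact ⟨r, fun z => mul_self_eq_mul_self_iff.1⟩
    · exact ⟨0, fun z e' => (e ⟨z, e'⟩).elim⟩
  choose r hr using hr
  have h3 : ∀ y : (𝐂[x] ⊓ (𝐂[b]).comap π : Subgroup (SL F)), ∃ c : fixF σ × Bool, y.1.1 =
      psi x ⟨c.1 / 2, (if c.2 then 1 else -1) * r (1 - (c.1 / 2) ^ 2)⟩ := fun y => by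
    obtain ⟨z, hz⟩ := exists_psi hx (Y := y.1.1) (val_congr (mem_cent1.1 y.2.1)).symm
    have e1 : tr y.1 = 2 * z.re := by
      change y.1.1 0 0 + y.1.1 1 1 = _
      rw [H4.SL2.tr] at t0
      rw [← hz, psi_apply]
      simp
      linear_combination z.im * t0
    have e2 := y.1.det_coe
    rw [← hz, det_psi, QuadraticAlgebra.norm_def] at e2
    have e3 := k y.1 y.1 (mem_cent1_iff_conj.1 (mem_cent1_comm.1 y.2.2))
    have e4 : σ (tr y.1) = tr y.1 := by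
      rw [map_pow, sq, sq, eq_comm, mul_self_eq_mul_self_iff] at e3
      refine e3.elim id fun e => ?_
      have e5 : ∀ i : ℕ, (σ ^ i) (tr y.1) = (-1) ^ i * tr y.1 := fun i => by
        induction i with
        | zero => simp
        | succ i ih => rw [pow_succ, RingAut.mul_apply, e, map_neg, ih]; ring
      have := e5 (orderOf σ)
      rw [pow_orderOf_eq_one, ho.neg_one_pow] at this
      rw [e]
      exact (neg_eq_neg_one_mul _).trans this.symm
    have e6 : tr y.1 / 2 = z.re := by rw [e1]; field_simp [h.two_ne]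
    rcases hr (1 - z.re ^ 2) z.im (by linear_combination e2 - z.re * z.im * t0) with e | e
    · exact ⟨⟨⟨_, mem_fixF.2 e4⟩, true⟩, by rw [← hz]; congr 1; ext <;> simp [e6, ← e]⟩
    · exact ⟨⟨⟨_, mem_fixF.2 e4⟩, false⟩, by rw [← hz]; congr 1; ext <;> simp [e6, e]⟩
  choose c hc using h3
  have h4 := Nat.card_le_card_of_injective c fun a b e =>
    Subtype.ext (Subtype.ext (by rw [hc, hc, e]))
  have h5 := card_le_of_le h2
  rw [Nat.card_prod, Nat.card_eq_fintype_card (α := Bool), Fintype.card_bool] at h4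
  omega

theorem cent_V (h : Cov π L) {x s : SL F} (v : V4 (π x) (π s)) {b : X} (hb : b ∈ L)
    (c1 : Commute b (π x)) (c2 : Commute b (π s)) : b * b = 1 := by
  by_contra bb
  obtain ⟨y, rfl⟩ := h.exists_eq hb
  have y1 : π y ≠ 1 := fun e => bb (by rw [e, mul_one])
  have e := h.Ab_eq y1 v.t1 (h.cent_eq bb ▸ ⟨h.mem x, mem_cent1_iff_commute.2 c1⟩)
  obtain ⟨-, h2, -⟩ := (h.cases v.t1).resolve_right fun a => h.tr_ne_of_invol v.t1 v.tt a.1
  exact (P7.eq_of_invol_cyclic h2 (h.self_mem x) v.t1 v.tt (e ▸ h.cent_eq bb ▸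
    ⟨h.mem s, mem_cent1_iff_commute.2 c2⟩) v.ss).elim v.s1 v.ts.symm

theorem num_le {p q : ℕ} (hp : 3 ≤ p) (hq : 3 ≤ q) : 2 * (p * q) + 1 < q ^ p := by
  obtain ⟨m, rfl⟩ := Nat.exists_eq_add_of_le hp
  have h : ∀ m, 2 * (3 + m) + 2 ≤ q ^ (2 + m) := fun m => by
    induction m with
    | zero => rw [add_zero, sq]; nlinarith
    | succ m ih => rw [← add_assoc 2, pow_succ]; nlinarith
  have := h m
  rw [show 3 + m = 2 + m + 1 by ring, pow_succ] at *
  nlinarith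

end Sm

open Sm in
theorem semStmt : SemStmt.{u} := by
  intro X _ _ F _ π L dc _ hL h _
  haveI := h.finite
  haveI : Finite (RingAut F) := Finite.of_injective _ DFunLike.coe_injective
  obtain ⟨ρ, hρ, ρL⟩ := exists_rho h
  have sq : ∀ g, ρ g = 1 → g * g ∈ L := fun g e => by
    obtain ⟨γ, k⟩ := hρ g
    exact sq_mem h hL (e ▸ k).lf
  refine ⟨fun j jj => ?_, fun g j ho jj e => mem_of_sq_mem ho (sq g ?_), ?_⟩
  · obtain ⟨γ, k⟩ := hρ j
    have e : ρ j = 1 := of_not_not fun e => e (ρL j (mem_of_invol h dc jj k (fun c => by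
      rw [← RingAut.mul_apply, ← map_mul, jj, map_one]; rfl) e))
    exact ⟨γ, (e ▸ k).lf⟩
  · obtain ⟨p, hc⟩ := CharP.exists F
    let _ := Fintype.ofFinite F
    obtain ⟨n, hp, hn⟩ := FiniteField.card F p
    haveI := (P7.ringAut_cyclic hp (Nat.card_eq_fintype_card.trans hn)).1
    have h1 := congrArg ρ e
    rw [map_mul, map_mul, IsCyclic.isMulCommutative.is_comm.comm (ρ j), mul_assoc, ← map_mul, jj,
      map_one, mul_one, map_inv, eq_inv_iff_mul_eq_one, ← pow_two] at h1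
    exact orderOf_eq_one_iff.1 (Nat.eq_one_of_dvd_coprimes (Nat.coprime_two_left.2 ho)
      (orderOf_dvd_of_pow_eq_one h1) (orderOf_map_dvd ρ g))
  · intro x s v p hp p2 b ⟨n, hn⟩ c1 c2 hc
    by_contra b1
    obtain ⟨m, -, hm⟩ := (Nat.dvd_prime_pow hp).1 (orderOf_dvd_of_pow_eq_one hn)
    obtain _ | m := m
    · exact b1 (orderOf_eq_one_iff.1 hm)
    have ob : orderOf (b ^ p ^ m) = p := by
      rw [orderOf_pow_of_dvd (pow_pos hp.pos m).ne' (hm ▸ pow_dvd_pow p m.le_succ), hm, pow_succ,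
        Nat.mul_div_cancel_left _ (pow_pos hp.pos m)]
    have op := hp.odd_of_ne_two p2
    have bp : (b ^ p ^ m) ^ p = 1 := by rw [← pow_mul, ← pow_succ, ← hm, pow_orderOf_eq_one]
    have oσ : orderOf (ρ (b ^ p ^ m)) = p := by
      haveI := Fact.mk hp
      refine orderOf_eq_prime (by rw [← map_pow, bp, map_one]) fun e => ?_
      have h1 := cent_V h v (mem_of_sq_mem (ob.symm ▸ op) (sq _ e)) (c1.pow_left _) (c2.pow_left _)
      have h2 := orderOf_dvd_of_pow_eq_one (show (b ^ p ^ m) ^ 2 = 1 by rwa [pow_two])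
      rw [ob] at h2
      exact p2 ((Nat.prime_dvd_prime_iff_eq hp Nat.prime_two).1 h2)
    obtain ⟨-, cyc, hA⟩ := (h.cases v.t1).resolve_right fun a => h.tr_ne_of_invol v.t1 v.tt a.1
    obtain ⟨γ, k⟩ := hρ b
    have nb : b ∈ 𝐍(Ab π x) := mem_norm_of_conj_le (by
      rintro _ ⟨_, ⟨y, hy, rfl⟩, rfl⟩
      change b * π y * b⁻¹ ∈ _
      rw [k y, ← h.Ab_congr v.t1 (y := conjSL γ (mapSL (ρ b) x)) (by
        rw [← k x, c1.eq, mul_inv_cancel_right]), h.mem_Ab]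
      exact mem_cent1_iff_commute.2 (((mem_cent1_iff_commute.1 hy).map _).map _))
    have h1 := card_le_fix cyc nb hp p2 bp hc
    obtain ⟨γ', k'⟩ := hρ (b ^ p ^ m)
    have h2 := card_fix_le h v.t1 v.tt (k'.tr h) (oσ.symm ▸ op)
    have h3 := P7.card_fixF (ρ (b ^ p ^ m))
    rw [oσ] at h3
    have h4 : Odd (Nat.card (fixF (ρ (b ^ p ^ m)))) :=
      h.odd.of_dvd_nat (h3 ▸ dvd_pow_self _ hp.ne_zero)
    have h5 : 1 < Nat.card (fixF (ρ (b ^ p ^ m))) := Finite.one_lt_card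
    have h6 := num_le (p := p) (q := Nat.card (fixF (ρ (b ^ p ^ m))))
      (by have := hp.two_le; omega) (by obtain ⟨c, hc⟩ := h4; omega)
    have h7 := Nat.mul_le_mul_left p h2
    omega

end Cfsg.Agent.P15
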