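/-
P15, chapter W, first part: the extraspecial group `W = Ω₁ Z₂ (Q)` of order `p ^ 3`.
-/
import Cfsg.Agent.P15.Ch
import Cfsg.Agent.P15.PS
import Cfsg.Agent.P5.GL2

set_option autoImplicit false
set_option linter.unusedSectionVars false

namespace Cfsg.Agent.P15

open Subgroup Cfsg Cfsg.Agent Cfsg.Agent.FT
open Cfsg.Agent.P5 (V4 inv_eq_of_sq)
open scoped commutatorElement

universe u

variable {G : Type u} [Group G] [Finite G]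

/-- The hypotheses of chapter W. -/
structure WD (U L K : Subgroup G) (y t s a b : G) (n p k l : ℕ) : Prop
    extends TD U L K y t s a b (2 ^ (n + 2)) p k l where
  sp : ∀ Y, Ex U Y t p → b ∈ Y ∨ Y ≤ zpowers a
  nE : ¬ 𝐂[t] ≤ 𝐍((zpowers a ⊔ zpowers b : Subgroup G))

namespace WD

variable {U L K : Subgroup G} {y t s a b : G} {n p k l : ℕ} (c : WD U L K y t s a b n p k l)
include c

local notation "𝐐" => pCoreOf p U
local notation "𝐖" => omegaOne p (center2 (pCoreOf p U))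
local notation "𝐄" => (zpowers a ⊔ zpowers b : Subgroup G)
local notation "𝐀" => (U ⊔ zpowers y : Subgroup G)

theorem ch : Ch.DH ⊤ U y t s n := c.dh.toCh

theorem HU : 𝐂[t] ≤ 𝐍(U) := fun _ hg => c.ch.HU ⟨trivial, hg⟩

theorem HQ (r : ℕ) : 𝐂[t] ≤ 𝐍(pCoreOf r U) := c.HU.trans (H2.normalizer_le_normalizer_pCoreOf r U)

theorem sH : s ∈ 𝐂[t] := c.ch.sH.2

theorem AH : 𝐀 ≤ 𝐂[t] := c.ch.AH.trans inf_le_right

theorem yH : zpowers y ≤ 𝐂[t] := c.ch.Kt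

theorem InvH {j : G} (hj : j ∈ Ch.Inv 𝐀 s) : j ∈ 𝐂[t] := (c.ch.Inv_H hj).2

theorem v4 {j : G} (hj : j ∈ Ch.Inv 𝐀 s) : V4 t j :=
  ⟨c.ch.t1, fun e => c.ch.Inv_notMem hj (e ▸ one_mem _), fun e => c.ch.Inv_notMem hj (e ▸ c.ch.tA),
    c.ch.tt, hj.2, mem_cent1_iff_commute.1 (c.InvH hj)⟩

theorem sz_Inv {z : G} (hz : z ∈ zpowers y) : s * z ∈ Ch.Inv 𝐀 s :=
  ⟨by rw [← mul_assoc, c.ch.ss, one_mul]; exact mem_sup_right hz, by
    rw [← mul_assoc, c.ch.invK hz, inv_mul_cancel]⟩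

theorem s_Inv : s ∈ Ch.Inv 𝐀 s := by simpa using c.sz_Inv (one_mem _)

theorem ca : 𝐨(zpowers a) = p := by rw [Nat.card_zpowers, c.oa]

theorem cb : 𝐨(zpowers b) = p := by rw [Nat.card_zpowers, c.ob]

theorem pa : 𝐨(zpowers a).Prime := c.ca.symm ▸ c.pp

theorem pb : 𝐨(zpowers b).Prime := c.cb.symm ▸ c.pp

theorem oddp : Odd p := c.pp.odd_of_ne_two c.p2

theorem QU (r : ℕ) : pCoreOf r U ≤ U := H2.pCoreOf_le r U

theorem aU : zpowers a ≤ U := zpowers_le.2 (c.QU p c.ha.2)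

theorem sR : s ∈ 𝐍(L) := le_norm_self L c.sL

theorem invK {j : G} (hj : j ∈ Ch.Inv 𝐀 s) (hR : j ∈ 𝐍(L)) : ∀ x ∈ K, j * x * j = x⁻¹ :=
  c.c2.inv j hR (c.v4 hj)

theorem sa {x : G} (hx : x ∈ zpowers a) : s * x * s = x⁻¹ :=
  c.invK c.s_Inv c.sR x (zpowers_le.2 c.ha.1 hx)

/-- An element of `U` that is both centralized and inverted is trivial. -/
theorem eq_one {x : G} (hx : x ∈ U) (h : x = x⁻¹) : x = 1 :=
  P5.eq_one_of_odd c.dh.odd hx (mul_eq_one_iff_eq_inv.2 h)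

theorem inv_cent {j x : G} (jj : j * j = 1) (hx : x ∈ U) (h : j * x * j = x⁻¹) (e : x ∈ 𝐂[j]) :
    x = 1 := c.eq_one hx (by rw [← h, mem_cent1.1 e, mul_assoc, jj, mul_one])

theorem cent_b : 𝐂[b] ≤ 𝐍(L) := c.nb ▸ P5.Mx.cent1_le_norm_zpowers b

theorem ab : b ∈ 𝐂[a] := cent_le_cent1 (c.cl.KL c.ha.1).1 (c.PL c.hb)

theorem disj : zpowers a ⊓ 𝐂[s] = ⊥ :=
  eq_bot_iff.2 fun _ hx => c.inv_cent c.ch.ss (c.aU hx.1) (c.sa hx.1) hx.2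

theorem bC : zpowers b ≤ 𝐂(zpowers a) := by rw [cent_zpowers]; exact zpowers_le.2 c.ab

theorem disj' : zpowers a ⊓ zpowers b = ⊥ :=
  eq_bot_iff.2 (c.disj ▸ inf_le_inf_left _ (zpowers_le.2 c.hb.2))

theorem elem : IsElem p 2 𝐄 :=
  ((isElem_one_iff c.pp).2 c.ca).sup ((isElem_one_iff c.pp).2 c.cb) c.bC c.disj'

theorem EQ : 𝐄 ≤ 𝐐 := sup_le (zpowers_le.2 c.ha.2) (zpowers_le.2 c.hb.1)

theorem b1 : b ≠ 1 := fun e => ne_bot_of_card_prime c.pb (zpowers_eq_bot.2 e)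

theorem a1 : a ≠ 1 := fun e => ne_bot_of_card_prime c.pa (zpowers_eq_bot.2 e)

theorem bna : b ∉ zpowers a := fun e => c.b1 (mem_bot.1 (c.disj'.le ⟨e, mem_zpowers b⟩))

theorem omega_center : omegaOne p 𝐙(𝐐) = zpowers a := by
  have hQ := H2.isPGroup_pCoreOf p U
  have h1 := (c.HQ p).trans ((norm_le_norm_center _).trans (norm_le_norm_omegaOne _ p))
  have h2 := elemAb_omegaOne (p := p) (isMulComm_center 𝐐)
  rcases c.sp _ ⟨(omegaOne_le p _).trans inf_le_left, h1, h2.2⟩ with h3 | h3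
  · have h4 : omegaOne p 𝐙(𝐐) ≤ 𝐄 := fun g hg => c.om g ⟨(omegaOne_le p _ hg).1,
      c.cent_b (cent_le_cent1 c.hb.1 (omegaOne_le p _ hg).2)⟩ (h2.2 g hg)
    have h5 := c.elem.card_eq_of_two c.pp h4 (fun e => c.b1 (mem_bot.1 (e ▸ h3)))
      fun e => c.nE (e ▸ h1)
    rw [← H1.eq_of_le_of_card_le (zpowers_le.2 h3) (h5.trans c.cb.symm).le, c.nb] at h1
    exact (c.nH h1).elim
  · refine (eq_bot_or_eq_of_card_prime c.pa h3).resolve_left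
      (omegaOne_ne_bot c.pp (prime_dvd_card_of_isPGroup c.pp (hQ.to_le inf_le_left)
        (center_ne_bot (isNilpotent_of_isPGroup c.pp hQ) fun e => c.b1 (mem_bot.1 (e ▸ c.hb.1)))))

theorem norm_a : 𝐂[t] ≤ 𝐍(zpowers a) := c.omega_center ▸
  (c.HQ p).trans ((norm_le_norm_center _).trans (norm_le_norm_omegaOne _ p))

theorem Qa : 𝐐 ≤ 𝐂(zpowers a) :=
  cent_comm.1 (c.omega_center ▸ (omegaOne_le p _).trans inf_le_right)

theorem W_spec : ¬ IsCyclic 𝐖 ∧ ∀ w ∈ 𝐖, w ^ p = 1 :=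
  omega_center2 c.pp c.p2 (H2.isPGroup_pCoreOf p U) fun e => c.elem.not_isCyclic c.pp le_rfl
    (isCyclic_of_le c.EQ e)

theorem W_le : 𝐖 ≤ 𝐐 := (omegaOne_le p _).trans (center2_le _)

theorem WU : 𝐖 ≤ U := c.W_le.trans (c.QU p)

theorem WH : 𝐖 ≤ 𝐂[t] := c.WU.trans c.dh.Ut

theorem pW : IsPGroup p 𝐖 := (H2.isPGroup_pCoreOf p U).to_le c.W_le

theorem norm_W : 𝐂[t] ≤ 𝐍(𝐖) :=
  (c.HQ p).trans ((norm_le_norm_center2 _).trans (norm_le_norm_omegaOne _ p))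

theorem comm_W {w g : G} (hw : w ∈ 𝐖) (hg : g ∈ 𝐐) : ⁅w, g⁆ ∈ zpowers a := by
  have h1 := (mem_center2.1 (omegaOne_le p _ hw)).2 g hg
  rw [← c.omega_center]
  refine mem_omegaOne ⟨der_le _ (commutator_mem_commutator (c.W_le hw) hg), h1⟩ ?_
  rw [← H1.commutatorElement_pow_left_of_central (mem_cent.1 h1 w (c.W_le hw)), c.W_spec.2 w hw,
    commutatorElement_one_left]

theorem aW : zpowers a ≤ 𝐖 := c.omega_center ▸ omegaOne_mono (center_le_center2 _)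

theorem bW : b ∈ 𝐖 := (c.sp _ ⟨c.W_le, c.norm_W, c.W_spec.2⟩).resolve_right fun e =>
  c.W_spec.1 (isCyclic_of_le e (isCyclic_of_card_prime c.pa))

theorem E_lt_W : 𝐄 < 𝐖 := lt_of_le_of_ne (sup_le c.aW (zpowers_le.2 c.bW))
  fun e => c.nE (e ▸ c.norm_W)

theorem WR : 𝐖 ⊓ 𝐍(L) ≤ 𝐄 := fun w hw => c.om w ⟨c.W_le hw.1, hw.2⟩ (c.W_spec.2 w hw.1)

theorem nWR : ¬ 𝐖 ≤ 𝐍(L) := fun e => c.E_lt_W.not_ge ((le_inf le_rfl e).trans c.WR)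

theorem card_W : 𝐨(𝐖) = p ^ 3 := by
  have h1 := P5.relIndex_cent1_le fun w hw => c.comm_W hw c.hb.1
  rw [c.ca] at h1
  have h2 := H1.card_inf_mul_relIndex 𝐂[b] 𝐖
  have h3 := card_le_of_le ((inf_le_inf_left _ c.cent_b).trans c.WR)
  obtain ⟨m, hm⟩ := exists_card_eq_pow c.pp c.pW
  have h4 := H1.card_lt_of_lt c.E_lt_W
  rw [c.elem.card] at h3 h4
  rw [inf_comm] at h2
  have h5 : p ^ m ≤ p ^ 3 := by rw [← hm, ← h2, pow_succ]; exact Nat.mul_le_mul h3 h1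
  rw [hm, Nat.pow_lt_pow_iff_right c.pp.one_lt] at h4
  rw [hm, le_antisymm ((Nat.pow_le_pow_iff_right c.pp.one_lt).1 h5) h4]

theorem eq_W {X Y : Subgroup G} (hX : 𝐨(X) = p ^ 2) (h1 : X < Y) (h2 : Y ≤ 𝐖) : Y = 𝐖 := by
  obtain ⟨m, hm⟩ := exists_card_eq_pow c.pp (c.pW.to_le h2)
  have h4 := H1.card_lt_of_lt h1
  rw [hX, hm, Nat.pow_lt_pow_iff_right c.pp.one_lt] at h4
  exact H1.eq_of_le_of_card_le h2 (by rw [c.card_W, hm]; exact Nat.pow_le_pow_right c.pp.pos h4)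

theorem irr {Y : Subgroup G} (h1 : zpowers a ≤ Y) (h2 : Y ≤ 𝐖) (hH : 𝐂[t] ≤ 𝐍(Y)) :
    Y = zpowers a ∨ Y = 𝐖 :=
  (c.sp Y ⟨h2.trans c.W_le, hH, fun g hg => c.W_spec.2 g (h2 hg)⟩).symm.imp
    (fun e => le_antisymm e h1) fun e => c.eq_W c.elem.card (lt_of_le_of_ne
      (sup_le h1 (zpowers_le.2 e)) fun e => c.nE (e ▸ hH)) h2

theorem nbW : b ∉ 𝐂(𝐖) := fun e => c.nWR ((mem_cent_iff_cent1.1 e).trans c.cent_b)

theorem Wa : 𝐖 ≤ 𝐂(zpowers a) := c.W_le.trans c.Qa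

theorem center_W : 𝐖 ⊓ 𝐂(𝐖) = zpowers a :=
  (c.irr (le_inf c.aW (cent_comm.1 c.Wa)) inf_le_left
    (c.norm_W.trans (norm_le_norm_center _))).resolve_right fun e => c.nbW (e.ge c.bW).2

theorem cent_v {v : G} (hv : v ∈ 𝐖) (h : v ∉ zpowers a) :
    𝐖 ⊓ 𝐂[v] = zpowers a ⊔ zpowers v := by
  have h1 : 𝐨(zpowers v) = p := by
    have := Fact.mk c.pp
    rw [Nat.card_zpowers, orderOf_eq_prime (c.W_spec.2 v hv) fun e => h (e ▸ one_mem _)]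
  have h2 := ((isElem_one_iff c.pp).2 c.ca).sup ((isElem_one_iff c.pp).2 h1)
    (zpowers_le.2 (c.Wa hv)) (inf_comm (zpowers a) _ ▸ (inf_eq_bot_or_le_of_card_prime
      (h1.symm ▸ c.pp) _).resolve_right (mt zpowers_le.1 h))
  have h3 : zpowers a ⊔ zpowers v ≤ 𝐖 ⊓ 𝐂[v] := sup_le (le_inf c.aW
    (mem_cent_iff_cent1.1 (c.Wa hv))) (zpowers_le.2 ⟨hv, self_mem_cent1 v⟩)
  by_contra e
  exact h (c.center_W.le ⟨hv, mem_cent_iff_cent1.2 (inf_eq_left.1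
    (c.eq_W h2.card (lt_of_le_of_ne h3 (Ne.symm e)) inf_le_left))⟩)

theorem norm_of_le {Y : Subgroup G} (h1 : zpowers a ≤ Y) (h2 : Y ≤ 𝐖) : 𝐖 ≤ 𝐍(Y) :=
  le_norm_of_der_le ((commutator_le.2 fun _ hw _ hg => c.comm_W hw (c.W_le hg)).trans h1) h2

/-- A quadratically acting subgroup acts trivially on `W / ⟨a⟩`. -/
theorem quad {X : Subgroup G} (hX : X ≤ 𝐂[t]) (hq : ⁅⁅𝐖, X⁆, X⁆ = ⊥) : ⁅𝐖, X⁆ ≤ zpowers a := by
  have := Fact.mk c.pp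
  have := H1.normal_subgroupOf_of_le (H1.le_normalizer_centralizer c.norm_W)
  have h1 := (H1.bar_le_iff hX).1 (PS.quad c.p2 c.pW c.norm_W c.gf.dc hX hq (H1.qmk 𝐂[t] 𝐂(𝐖))
    H1.qmk_surjective fun _ => H1.qmk_eq_one_iff)
  obtain ⟨D, hD⟩ : ∃ D, D = H1.unbar 𝐂[t] 𝐂(𝐖) (pCore p _) := ⟨_, rfl⟩
  have h2 : D ≤ 𝐂[t] := hD ▸ H1.unbar_le _
  have h3 : 𝐂[t] ≤ 𝐍(D) := hD ▸ H1.le_normalizer_unbar_of_normal _
  obtain ⟨m, hm⟩ : ∃ m, (𝐂(𝐖)).relIndex D = p ^ m := by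
    rw [hD, ← H1.card_bar (H1.unbar_le _), H1.bar_unbar]
    exact IsPGroup.iff_card.1 (Agent.L.isPGroup_pCore p)
  rw [← hD] at h1
  obtain ⟨P, hP⟩ := exists_isSyl c.pp D
  have h4 : D ≤ P ⊔ 𝐂(𝐖) := le_of_forall_exists_isSyl_le fun q hq _ => by
    by_cases e : q = p
    · exact ⟨P, e ▸ hP, le_sup_left⟩
    · obtain ⟨T, hT⟩ := exists_isSyl hq (D ⊓ 𝐂(𝐖))
      refine ⟨T, hT.trans hq inf_le_left ?_, hT.le.trans (inf_le_right.trans le_sup_right)⟩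
      rw [inf_relIndex_left, hm]
      exact fun e' => e ((Nat.prime_dvd_prime_iff_eq hq c.pp).1 (hq.dvd_of_dvd_pow e'))
  have h5 := hP.le.trans (h2.trans c.norm_W)
  have h6 : ⁅𝐖, D⁆ < 𝐖 := lt_of_le_of_lt ((commutator_mono le_rfl h4).trans
    (H1.commutator_sup_le H1.le_normalizer_commutator_self (H1.le_normalizer_of_le_centralizer
      (cent_anti (comm_le_left_iff.2 h5))) le_rfl ((comm_eq_bot_iff.2 (cent_comm.1 le_rfl)).le.trans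
        bot_le))) (by
      have := isNilpotent_of_isPGroup c.pp (isPGroup_sup hP.pgrp c.pW h5)
      exact lt_of_le_of_lt (commutator_mono le_rfl le_sup_left)
        (Agent.L.commutator_lt_of_isNilpotent le_sup_right (sup_le h5 (le_norm_self _))
          c.E_lt_W.ne_bot))
  have h7 : 𝐂[t] ≤ 𝐍(⁅𝐖, D⁆) := H1.le_normalizer_commutator c.norm_W h3
  refine (commutator_mono le_rfl h1).trans ?_
  by_cases e : ⁅𝐖, D⁆ = ⊥
  · exact e.le.trans bot_le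
  have h8 := inf_center_ne_bot (isNilpotent_of_isPGroup c.pp c.pW) ⟨h6.le, c.WH.trans h7⟩ e
  have h9 := (inf_eq_bot_or_le_of_card_prime c.pa ⁅𝐖, D⁆).resolve_left fun e' => h8
    (eq_bot_iff.2 (e' ▸ le_inf (c.center_W ▸ inf_le_inf_right _ h6.le) inf_le_left))
  exact ((c.irr h9 h6.le h7).resolve_right h6.ne).le

end WD

end Cfsg.Agent.P15
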