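/-
P15, chapter W, second part: the action of `H = C(t)` on `W`.
-/
import Cfsg.Agent.P15.W1

set_option autoImplicit false
set_option linter.unusedSectionVars false

namespace Cfsg.Agent.P15

open Subgroup Cfsg Cfsg.Agent Cfsg.Agent.FT
open Cfsg.Agent.P5 (V4 inv_eq_of_sq)
open scoped commutatorElement

universe u

variable {G : Type u} [Group G] [Finite G]

omit [Finite G] in
theorem mul_mem_cent1_of_inv {i j x : G} (ii : i * i = 1) (jj : j * j = 1) (hi : i * x * i = x⁻¹)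
    (hj : j * x * j = x⁻¹) : i * j ∈ 𝐂[x] := mem_cent1_iff_conj.2 (by
  rw [mul_inv_rev, inv_eq_of_sq ii, inv_eq_of_sq jj,
    show i * j * x * (j * i) = i * (j * x * j) * i by group, hj, ← inv_eq_of_sq ii,
    show i⁻¹ * x⁻¹ * i⁻¹ = (i * x * i)⁻¹ by group, hi, inv_inv])

namespace WD

variable {U L K : Subgroup G} {y t s a b : G} {n p k l : ℕ} (c : WD U L K y t s a b n p k l)
include c

local notation "𝐐" => pCoreOf p U
local notation "𝐖" => omegaOne p (center2 (pCoreOf p U))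
local notation "𝐄" => (zpowers a ⊔ zpowers b : Subgroup G)
local notation "𝐀" => (U ⊔ zpowers y : Subgroup G)

theorem mem_E {g : G} (hg : g ∈ 𝐂[t]) (ga : g ∈ 𝐂(zpowers a)) (h : g * g ∈ 𝐂[b]) :
    g * b * g⁻¹ ∈ 𝐄 := by
  have h1 := H1.conj_mem_of_le_normalizer c.norm_W hg c.bW
  have h2 := c.comm_W c.bW (c.W_le h1)
  have h3 : g * ⁅b, g * b * g⁻¹⁆ * g⁻¹ = ⁅b, g * b * g⁻¹⁆⁻¹ := by
    rw [conjugate_commutatorElement, show g * (g * b * g⁻¹) * g⁻¹ = g * g * b * (g * g)⁻¹ by group,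
      mem_cent1_iff_conj.1 h, commutatorElement_inv]
  rw [mem_cent1_iff_conj.1 (cent_le_cent1 h2 ga)] at h3
  exact c.WR ⟨h1, c.cent_b (mem_cent1.2
    (commutatorElement_eq_one_iff_mul_comm.1 (c.eq_one (c.aU h2) h3)))⟩

theorem mem_NE {g : G} (hg : g ∈ 𝐂[t]) (h : g * b * g⁻¹ ∈ 𝐄) : g ∈ 𝐍(𝐄) :=
  mem_norm_of_conj_le (by
    rw [conj_sup, conj_eq_of_mem_norm (c.norm_a hg), ← zpowers_conj]
    exact sup_le le_sup_left (zpowers_le.2 h))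

theorem sb : s * b * s⁻¹ = b := mem_cent1_iff_conj.1 (mem_cent1_comm.1 c.hb.2)

theorem cop {z : G} (hz : z ∈ zpowers y) {X : Subgroup G} (hX : X ≤ U) :
    𝐨(zpowers z).Coprime 𝐨(X) := by
  rw [Nat.card_zpowers]
  exact ((Nat.coprime_two_left.2 (P5.Mx.odd_of_le hX c.dh.odd)).pow_left (n + 2)).coprime_dvd_left
    (orderOf_dvd_of_pow_eq_one (c.ch.pow_K hz))

theorem sq_eq {z : G} (hz : z ∈ zpowers y) : z * s * z⁻¹ * s = z * z := by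
  rw [mul_assoc z, mul_assoc z, c.ch.invK (inv_mem hz), inv_inv]

theorem mem_R {z : G} (hz : z ∈ zpowers y) (h : z * b * z⁻¹ ∈ 𝐄) : z ∈ 𝐍(L) := by
  have h1 := c.mem_NE (c.yH hz) h
  have h2 : s ∈ centMod 𝐄 (zpowers a) := zpowers_le.1 (le_centMod_iff.2
    ⟨zpowers_le.2 (c.norm_a c.sH), by
      rw [commutator_comm]
      refine (H1.commutator_sup_le (le_norm_self _) (c.bC.trans (cent_le_norm _))
        (comm_le_right_iff.2 (zpowers_le.2 (c.norm_a c.sH))) ?_)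
      rw [comm_eq_bot_iff.2 (by rw [cent_zpowers, zpowers_le]; exact mem_cent1_comm.1 c.hb.2)]
      exact bot_le⟩)
  have h3 := mul_mem (H1.conj_mem_of_le_normalizer (norm_le_norm_centMod (zpowers_le.2 h1)
    (zpowers_le.2 (c.norm_a (c.yH hz)))) (mem_zpowers z) h2) h2
  have h4 := der_le_cent_of_cyclic (isCyclic_of_card_prime c.pa) c.norm_a
    (commutator_mem_commutator (c.yH hz) c.sH)
  rw [commutatorElement_def, inv_eq_of_sq c.ch.ss] at h4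
  rw [c.sq_eq hz] at h3 h4
  have h5 := mem_cent1_iff_conj.1 (cent_le_cent1 (mem_sup_right (mem_zpowers b))
    (H1.le_centralizer_of_commutator_le (zpowers_le.2 (mul_mem h1 h1))
      (c.cop (mul_mem hz hz) (c.EQ.trans (c.QU p))) (le_centMod_iff.1 (zpowers_le.2 h3)).2
        (zpowers_le.2 h4) (mem_zpowers _)))
  have h6 : z * b * z⁻¹ ∈ 𝐂[s] := mem_cent1_comm.1 (mem_cent1_iff_conj.2 (by
    have e : s * z * s⁻¹ = z⁻¹ := by rw [inv_eq_of_sq c.ch.ss, c.ch.invK hz]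
    rw [show s * (z * b * z⁻¹) * s⁻¹ = (s * z * s⁻¹) * (s * b * s⁻¹) * (s * z * s⁻¹)⁻¹ by group, e,
      c.sb]
    nth_rewrite 1 [← h5]
    group))
  obtain ⟨x, hx, x', hx', e⟩ := (mem_sup_of_norm (c.bC.trans (cent_le_norm _))).1 h
  have h7 : x = 1 := mem_bot.1 (c.disj.le ⟨hx, (mul_mem_cancel_right
    (zpowers_le.2 c.hb.2 hx')).1 (e ▸ h6)⟩)
  rw [h7, one_mul] at e
  exact c.nb ▸ H6.Cyc.mem_norm_zpowers (e ▸ hx')

theorem ya : zpowers y ≤ 𝐂(zpowers a) := by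
  have hj := c.sz_Inv (mem_zpowers y)
  have e : y = s * (s * y) := by rw [← mul_assoc, c.ch.ss, one_mul]
  rw [zpowers_le, cent_zpowers]
  rcases inf_eq_bot_or_le_of_card_prime c.pa 𝐂[s * y] with h | h
  · rw [e]
    exact mul_mem_cent1_of_inv c.ch.ss hj.2 (c.sa (mem_zpowers a)) (Agent.L.inverts_of_fpf hj.2
      (c.norm_a (c.InvH hj)) (fun x hx e => mem_bot.1 (h.le ⟨hx, mem_cent1_iff_commute.2 e⟩)) a
        (mem_zpowers a))
  · have h1 := c.mem_E (c.InvH hj) (mem_cent_iff_cent1.2 h) (hj.2 ▸ one_mem _)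
    have h2 := H1.conj_mem_of_le_normalizer le_rfl (c.mem_NE c.sH
      (c.sb.symm ▸ mem_sup_right (mem_zpowers b))) h1
    rw [show s * (s * y * b * (s * y)⁻¹) * s⁻¹ = s * (s * y) * b * (s * (s * y))⁻¹ by group,
      ← e] at h2
    exact (c.a1 (c.inv_cent hj.2 (c.aU (mem_zpowers a)) (c.invK hj (mul_mem c.sR
      (c.mem_R (mem_zpowers y) h2)) a c.ha.1) (h (mem_zpowers a)))).elim

theorem inv_a {j : G} (hj : j ∈ Ch.Inv 𝐀 s) : ∀ x ∈ zpowers a, j * x * j = x⁻¹ := by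
  refine Agent.L.inverts_of_fpf hj.2 (c.norm_a (c.InvH hj)) fun x hx e => ?_
  obtain ⟨u, hu, z, hz, e1⟩ := c.ch.dec hj.1
  have h1 : u * x * u⁻¹ = x⁻¹ := by
    rw [eq_mul_inv_of_mul_eq e1, show s * j * z⁻¹ * x * (s * j * z⁻¹)⁻¹ =
      s * (j * (z⁻¹ * x * z⁻¹⁻¹) * j⁻¹) * s⁻¹ by group,
      mem_cent1_iff_conj.1 (cent_le_cent1 hx (c.ya (inv_mem hz))), e.eq, mul_inv_cancel_right,
      inv_eq_of_sq c.ch.ss, c.sa hx]
  have h2 : u ∈ 𝐂[x] := P5.mem_of_sq_mem c.dh.odd hu (mem_cent1_iff_conj.2 (by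
    rw [show u * u * x * (u * u)⁻¹ = u * (u * x * u⁻¹) * u⁻¹ by group, h1, ← conj_inv, h1, inv_inv]))
  exact c.eq_one (c.aU hx) ((mem_cent1_iff_conj.1 h2).symm.trans h1)

theorem CR : 𝐂(𝐖) ≤ 𝐍(L) := (cent_le_cent1 c.bW).trans c.cent_b

theorem HC : 𝐂[t] ≤ 𝐍(𝐂(𝐖)) := H1.le_normalizer_centralizer c.norm_W

theorem core_le {r : ℕ} (hr : r.Prime) : pCoreOf r U ⊓ 𝐂(𝐖) ≤ K := fun g hg => by
  obtain ⟨d, hd, e, he, rfl⟩ := c.dec r hr g ⟨hg.1, c.CR hg.2⟩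
  have h1 := mul_mem hg.2 (H1.conj_mem_of_le_normalizer c.HC c.sH hg.2)
  have h2 := mem_cent.1 hd.2 e (c.cl.KL he.1).1
  rw [← conj_mul, mem_cent1_iff_conj.1 (mem_cent1_comm.1 (cent_le_cent1 c.sL hd.2)),
    inv_eq_of_sq c.ch.ss, c.invK c.s_Inv c.sR e he.1, ← h2, mul_assoc, ← mul_assoc d d, ← mul_assoc,
    (Commute.mul_right h2 h2).eq, mul_inv_cancel_right] at h1
  have h3 := P5.mem_of_sq_mem c.dh.odd (c.QU r hd.1) h1
  by_cases d1 : d = 1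
  · rw [d1, one_mul]; exact he.1
  · exact (c.nWR ((mem_cent_iff_cent1.1 h3).trans ((P5.Mx.cent1_le_norm_zpowers d).trans
      (c.nx _ (zpowers_le.2 ⟨H2.pCoreOf_le_fittingOf hr U hd.1, hd.2⟩)
        (mt zpowers_eq_bot.1 d1))))).elim

theorem Z_cent {z : G} (hz : z ∈ zpowers y) (h : z ∈ 𝐂(𝐖)) : z ∈ 𝐂(U) := by
  have h1 : z ∈ 𝐂(K) := mem_cent_iff_cent1.2 fun x hx => mem_cent1_comm.1 (by
    have := mul_mem_cent1_of_inv c.ch.ss (c.sz_Inv hz).2 (c.invK c.s_Inv c.sR x hx)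
      (c.invK (c.sz_Inv hz) (mul_mem c.sR (c.CR h)) x hx)
    rwa [← mul_assoc, c.ch.ss, one_mul] at this)
  have h2 := zpowers_le.2 (c.yH hz)
  refine coprime_cent_fitting (h2.trans c.HU) (c.cop hz le_rfl) (P5.Mx.isSolvable_of_odd c.dh.odd)
    (P5.Mx.le_cent_fittingOf fun r hr => H1.le_centralizer_of_commutator_le (h2.trans (c.HQ r))
      (c.cop hz (c.QU r)) (le_inf (comm_le_left_iff.2 (h2.trans (c.HQ r))) ?_)
      ((zpowers_le.2 h1).trans (cent_anti (c.core_le hr)))) (mem_zpowers z)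
  exact (commutator_mono le_rfl (zpowers_le.2 h)).trans
    (comm_le_right_iff.2 (((c.QU r).trans c.dh.Ut).trans c.HC))

theorem ZL (h : y ∉ 𝐂(𝐖)) : zpowers y ⊓ 𝐂(𝐖) ≤ L := by
  rintro z ⟨hz, hW⟩
  obtain ⟨i, rfl⟩ : ∃ i : ℕ, y ^ i = z := mem_powers_iff_mem_zpowers.2 hz
  rcases Nat.even_or_odd i with ⟨i, rfl⟩ | hi
  · rw [pow_add] at hW ⊢
    have h1 := pow_mem (mem_zpowers y) i
    rw [← c.sq_eq h1]
    exact mul_mem (H1.conj_mem_of_le_normalizer le_rfl (c.mem_R h1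
      (c.mem_E (c.yH h1) (c.ya h1) (cent_le_cent1 c.bW hW))) c.sL) c.sL
  · exact (h (H8.mem_of_pow_mem_of_coprime (by
      rw [c.ch.ord]; exact (Nat.coprime_two_left.2 hi).pow_left _) hW)).elim

theorem mem_Ev {v j u : G} (hv : v ∈ 𝐖) (hj : j ∈ Ch.Inv 𝐀 s) (jv : j ∈ 𝐂[v]) (hu : u ∈ 𝐖)
    (e : Commute u j) : u ∈ 𝐖 ⊓ 𝐂[v] := by
  have h1 := c.comm_W hv (c.W_le hu)
  refine ⟨hu, mem_cent1.2 (commutatorElement_eq_one_iff_mul_comm.1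
    (c.inv_cent hj.2 (c.aU h1) (c.inv_a hj _ h1) (mem_cent1_comm.1 (mem_cent1_iff_conj.2 ?_))))⟩
  rw [conjugate_commutatorElement, mem_cent1_iff_conj.1 jv, ← e.eq, mul_inv_cancel_right]

theorem dec_W {j x : G} (hj : j ∈ Ch.Inv 𝐀 s) (hx : x ∈ 𝐖) :
    ∃ u ∈ 𝐖, ∃ w ∈ 𝐖, Commute u j ∧ j * w * j = w⁻¹ ∧ x = u * w :=
  P5.Mx.exists_cent_mul_inv (P5.Mx.odd_of_le c.WU c.dh.odd) hj.2 (c.norm_W (c.InvH hj)) hx

theorem a_le_Ev {v : G} (hv : v ∈ 𝐖) : zpowers a ≤ 𝐖 ⊓ 𝐂[v] :=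
  le_inf c.aW (mem_cent_iff_cent1.1 (c.Wa hv))

theorem inv_mod {v j x : G} (hv : v ∈ 𝐖) (hj : j ∈ Ch.Inv 𝐀 s) (jv : j ∈ 𝐂[v]) (hx : x ∈ 𝐖) :
    j * x * j * x ∈ 𝐖 ⊓ 𝐂[v] := by
  obtain ⟨u, hu, w, hw, e1, e2, rfl⟩ := c.dec_W hj hx
  have h1 := c.mem_Ev hv hj jv hu e1
  have h2 := mul_mem h1 (H1.conj_mem_of_le_normalizer' (c.norm_of_le (c.a_le_Ev hv) inf_le_left)
    hw h1)
  rwa [← mul_assoc j, ← e1.eq, mul_assoc u, mul_assoc u, e2,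
    show u * w⁻¹ * (u * w) = u * (w⁻¹ * u * w) by group]

theorem mul_cent {v j j' : G} (hv : v ∈ 𝐖) (h : v ∉ zpowers a) (hj : j ∈ Ch.Inv 𝐀 s)
    (hj' : j' ∈ Ch.Inv 𝐀 s) (jv : j ∈ 𝐂[v]) (jv' : j' ∈ 𝐂[v]) : j * j' ∈ 𝐂(𝐖) := by
  have gH := mul_mem (c.InvH hj) (c.InvH hj')
  have ga : j * j' ∈ 𝐂(zpowers a) := cent_zpowers a ▸ mul_mem_cent1_of_inv hj.2 hj'.2
    (c.inv_a hj a (mem_zpowers a)) (c.inv_a hj' a (mem_zpowers a))
  have h1 : j * j' ∈ 𝐂((𝐖 ⊓ 𝐂[v] : Subgroup G)) := by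
    rw [c.cent_v hv h, cent_sup, cent_zpowers v]
    exact ⟨ga, mul_mem jv jv'⟩
  have h2 : j ∈ 𝐍((𝐖 ⊓ 𝐂[v] : Subgroup G)) := P5.mem_norm_inf (c.norm_W (c.InvH hj))
    (cent_zpowers v ▸ H1.normalizer_le_normalizer_centralizer _ (P5.Mx.cent1_le_norm_zpowers v jv))
  have h3 : ⁅𝐖, zpowers (j * j')⁆ ≤ 𝐖 ⊓ 𝐂[v] :=
    H1.commutator_zpowers_le (cent_le_norm _ h1) fun x hx => by
      have := H1.conj_mem_of_le_normalizer (c.norm_of_le (c.a_le_Ev hv) inf_le_left) hx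
        (mul_mem (H1.conj_mem_of_le_normalizer le_rfl h2 (c.inv_mod hv hj' jv' (inv_mem hx)))
          (c.inv_mod hv hj jv hx))
      rw [commutatorElement_def, mul_inv_rev, inv_eq_of_sq hj'.2, inv_eq_of_sq hj.2]
      convert this using 1
      group
  have h4 := c.quad (zpowers_le.2 gH) (comm_eq_bot_iff.2 (h3.trans (cent_comm.1 (zpowers_le.2 h1))))
  refine mem_cent.2 fun x hx => ?_
  obtain ⟨u, hu, w, hw, e1, e2, rfl⟩ := c.dec_W hj hx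
  have h5 := h4 (commutator_mem_commutator hw (mem_zpowers _))
  have h6 := mem_cent1_iff_conj.1 (cent_le_cent1 h5 (inv_mem (mul_mem ga (c.Wa hw))))
  have h7 : j * ⁅w, j * j'⁆ * j = ⁅w, j * j'⁆ := by
    have e3 : j * (j * j') * j = (j * j')⁻¹ := by
      rw [← mul_assoc, hj.2, one_mul, mul_inv_rev, inv_eq_of_sq hj.2, inv_eq_of_sq hj'.2]
    have := conjugate_commutatorElement w (j * j') j
    rw [inv_eq_of_sq hj.2, e2, e3] at this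
    refine this.trans (Eq.trans ?_ h6)
    simp only [commutatorElement_def]
    group
  rw [c.inv_a hj _ h5] at h7
  rw [mul_assoc, commutatorElement_eq_one_iff_mul_comm.1 (c.eq_one (c.aU h5) h7.symm), ← mul_assoc,
    mem_cent.1 h1 u (c.mem_Ev hv hj jv hu e1), mul_assoc]

end WD

end Cfsg.Agent.P15
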