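/-
P15, chapter W: the final count.
-/
import Cfsg.Agent.P15.W2
import Cfsg.Agent.H5.Count

set_option autoImplicit false
set_option linter.unusedSectionVars false

namespace Cfsg.Agent.P15

open Subgroup Cfsg Cfsg.Agent Cfsg.Agent.FT
open Cfsg.Agent.P5 (V4 inv_eq_of_sq)
open scoped commutatorElement

universe u

variable {G : Type u} [Group G] [Finite G]

theorem ncard_mul_le {S T : Set G} (r : G → G → Prop) {m n : ℕ}
    (hm : ∀ x ∈ S, m ≤ {v | v ∈ T ∧ r x v}.ncard) (hn : ∀ v ∈ T, {x | x ∈ S ∧ r x v}.ncard ≤ n) :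
    S.ncard * m ≤ T.ncard * n := by
  classical
  rw [Set.ncard_eq_toFinset_card S, Set.ncard_eq_toFinset_card T]
  refine Finset.card_mul_le_card_mul r (fun x hx => (hm x (by simpa using hx)).trans_eq ?_)
    fun v hv => le_trans (le_of_eq ?_) (hn v (by simpa using hv))
  · rw [← Set.ncard_coe_finset]; congr 1; ext; simp [Finset.bipartiteAbove]
  · rw [← Set.ncard_coe_finset]; congr 1; ext; simp [Finset.bipartiteBelow]

theorem relIndex_mul_card_inf {X N : Subgroup G} (h : X ≤ 𝐍(N)) :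
    X.relIndex (X ⊔ N) * 𝐨((X ⊓ N : Subgroup G)) = 𝐨(N) :=
  Nat.eq_of_mul_eq_mul_left Nat.card_pos (by
    rw [← mul_assoc, H1.card_mul_relIndex le_sup_left, H1.card_sup_mul_card_inf h])

namespace WD

variable {U L K : Subgroup G} {y t s a b : G} {n p k l : ℕ} (c : WD U L K y t s a b n p k l)
include c

local notation "𝐐" => pCoreOf p U
local notation "𝐖" => omegaOne p (center2 (pCoreOf p U))
local notation "𝐄" => (zpowers a ⊔ zpowers b : Subgroup G)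
local notation "𝐀" => (U ⊔ zpowers y : Subgroup G)

theorem py : IsPGroup 2 (zpowers y) := H1.isPGroup_zpowers_of_pow_eq_one c.ch.pow_a

theorem mul_mem_ZK {j j' : G} (hj : j ∈ Ch.Inv 𝐀 s) (hj' : j' ∈ Ch.Inv 𝐀 s)
    (h : j * j' ∈ 𝐂(𝐖)) : j * j' ∈ zpowers y ⊓ 𝐂(𝐖) ⊔ K := by
  have gA := c.ch.Inv_mul hj hj'
  have nD : 𝐂[t] ≤ 𝐍((U ⊓ 𝐂(𝐖) : Subgroup G)) := H1.le_normalizer_inf c.HU c.HC
  have h1 : fittingOf (U ⊓ 𝐂(𝐖)) ≤ K := P5.Mx.fittingOf_le_of fun r hr =>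
    (le_inf (le_pCoreOf ⟨(H2.pCoreOf_le r _).trans inf_le_left, c.dh.Ut.trans (nD.trans
      (H2.normalizer_le_normalizer_pCoreOf r _))⟩ (H2.isPGroup_pCoreOf r _))
      ((H2.pCoreOf_le r _).trans inf_le_right)).trans (c.core_le hr)
  have h2 := der_le_cent_of_cyclic (isCyclic_of_le h1 c.cl.cyc)
    (nD.trans (H2.normalizer_le_normalizer_fittingOf _))
    (commutator_mem_commutator (c.InvH hj) (c.InvH hj'))
  rw [commutatorElement_def, inv_eq_of_sq hj.2, inv_eq_of_sq hj'.2, mul_assoc, ← sq] at h2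
  obtain ⟨g, hg⟩ : ∃ g, g = j * j' := ⟨_, rfl⟩
  rw [← hg] at gA h h2 ⊢
  obtain ⟨-, -, z, hz, -, h3⟩ := c.ch.pow_mem_U gA (2 ^ (n + 2))
  rw [c.ch.pow_K hz, inv_one, mul_one] at h3
  have h4 : g ^ 2 ^ (n + 2) ∈ K := h1 (cent_fittingOf_le (P5.Mx.isSolvable_of_odd
    (P5.Mx.odd_of_le inf_le_left c.dh.odd)) ⟨⟨h3, pow_mem h _⟩, by
      rw [pow_succ', pow_mul]; exact pow_mem h2 _⟩)
  have h5 : IsSyl 2 (zpowers y) 𝐀 := ⟨le_sup_right, c.py, fun e => by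
    have := H1.card_mul_relIndex (le_sup_right : zpowers y ≤ 𝐀)
    rw [c.ch.card_A, c.ch.card_K, mul_comm, Nat.mul_left_inj (by positivity)] at this
    exact Nat.not_even_iff_odd.2 c.dh.odd (even_iff_two_dvd.2 (this ▸ e))⟩
  obtain ⟨x, hx, h6⟩ := h5.exists_conj_le Nat.prime_two (H1.isPGroup_zpowers_of_pow_eq_one
    (g := g ^ 𝐨(U)) (k := n + 2) (by rw [← pow_mul, mul_comm, pow_mul, P5.pow_card_of_mem h3]))
    (zpowers_le.2 (pow_mem gA _))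
  rw [← zpowers_conj, zpowers_le] at h6
  have h7 := H1.conj_mem_of_le_normalizer c.HC (c.AH hx) (pow_mem h 𝐨(U))
  have h8 : 𝐀 ≤ 𝐂[x * g ^ 𝐨(U) * x⁻¹] := sup_le (mem_cent_iff_cent1.1 (c.Z_cent h6 h7))
    (zpowers_le.2 (mem_cent1_comm.1 (zpowers_le.2 (self_mem_cent1 y) h6)))
  have h9 := mem_cent1_iff_conj.1 (h8 (inv_mem hx))
  rw [show x⁻¹ * (x * g ^ 𝐨(U) * x⁻¹) * x⁻¹⁻¹ = g ^ 𝐨(U) by group] at h9
  rw [← h9] at h6
  have h10 := Nat.gcd_eq_gcd_ab 𝐨(U) (2 ^ (n + 2))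
  rw [(Nat.coprime_two_right.2 c.dh.odd).pow_right (n + 2)] at h10
  rw [← zpow_one g, ← Nat.cast_one, h10, zpow_add, zpow_mul, zpow_mul, zpow_natCast, zpow_natCast]
  exact mul_mem (mem_sup_left (zpow_mem (mem_inf.2 ⟨h6, pow_mem h _⟩) _)) (mem_sup_right (zpow_mem h4 _))

theorem ncard_out : ((𝐖 : Set G) \ zpowers a).ncard = (p - 1) * (p * (p + 1)) := by
  rw [Set.ncard_sdiff c.aW]
  change 𝐨(𝐖) - 𝐨(zpowers a) = _
  rw [c.card_W, c.ca]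
  obtain ⟨r, rfl⟩ : ∃ r, p = r + 1 := ⟨p - 1, by have := c.pp.pos; omega⟩
  rw [Nat.sub_eq_iff_eq_add (Nat.le_self_pow three_ne_zero _), Nat.add_sub_cancel]
  ring

theorem card_Inv (h : y ∉ 𝐂(𝐖)) : (Ch.Inv 𝐀 s).ncard ≤ p * (p + 1) * k := by
  have h1 := ncard_mul_le (S := Ch.Inv 𝐀 s) (T := (𝐖 : Set G) \ zpowers a) (fun j v => j ∈ 𝐂[v])
    (m := p - 1) (n := k) (fun j hj => by
      have h2 : 𝐖 ⊓ 𝐂[j] ≠ ⊥ := fun e => c.nbW (mem_cent.2 fun x hx => Agent.L.commute_of_inverts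
        hj.2 (Agent.L.inverts_of_fpf hj.2 (c.norm_W (c.InvH hj)) fun x hx e' =>
          mem_bot.1 (e.le ⟨hx, mem_cent1_iff_commute.2 e'⟩)) hx c.bW)
      refine le_trans ?_ (Set.ncard_le_ncard (s := sharp (𝐖 ⊓ 𝐂[j])) fun v hv => ⟨⟨hv.1.1,
        fun e => hv.2 (c.inv_cent hj.2 (c.aU e) (c.inv_a hj v e) hv.1.2)⟩,
          mem_cent1_comm.1 hv.1.2⟩)
      rw [ncard_sharp]
      exact Nat.sub_le_sub_right (Nat.le_of_dvd Nat.card_pos
        (prime_dvd_card_of_isPGroup c.pp (c.pW.to_le inf_le_left) h2)) 1) fun v hv => by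
      rcases {j | j ∈ Ch.Inv 𝐀 s ∧ j ∈ 𝐂[v]}.eq_empty_or_nonempty with e | ⟨j, hj⟩
      · rw [e, Set.ncard_empty]; exact Nat.zero_le k
      refine (Set.ncard_le_ncard_of_injOn (t := (zpowers y ⊓ 𝐂(𝐖) ⊔ K : Subgroup G)) (j * ·)
        (fun j' hj' => c.mul_mem_ZK hj.1 hj'.1 (c.mul_cent hv.1 hv.2 hj.1 hj'.1 hj.2 hj'.2))
        (mul_right_injective j).injOn).trans ((Nat.le_of_dvd (Nat.mul_pos Nat.card_pos Nat.card_pos)
          (H1.card_sup_dvd ((le_inf (inf_le_right.trans c.CR) (inf_le_left.trans c.yH)).trans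
            c.cl.nK))).trans (c.c2.tor a c.ha.1 c.a1 _ (le_inf (c.ZL h)
              (inf_le_left.trans (cent_zpowers a ▸ c.ya))) (c.py.to_le inf_le_left)))
  rw [c.ncard_out, mul_comm, mul_assoc] at h1
  exact Nat.le_of_mul_le_mul_left h1 (Nat.sub_pos_of_lt c.pp.one_lt)

theorem m_le : (𝐍(L) : Subgroup G).relIndex 𝐂[t] ≤ p * (p + 1) := by
  have h1 := H5.ncard_classSupp_mul (A := sharp (zpowers b)) (X := 𝐂[t]) (L := 𝐍(L) ⊓ 𝐂[t])
    inf_le_right (fun g hg x hx => ⟨H1.conj_mem_of_le_normalizer c.nb.ge hg.1 hx.1,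
      fun e => hx.2 (by simpa using e)⟩) fun g hg x hx e => ⟨c.nb.le (by
        rw [← zpowers_eq_of_card_prime c.pb hx.1 hx.2] at e ⊢
        exact H6.Cyc.mem_norm_zpowers e.1), hg⟩
  have h2 := Set.ncard_le_ncard (s := classSupp (sharp (zpowers b)) 𝐂[t])
    (t := (𝐖 : Set G) \ zpowers a) (by
      rintro _ ⟨x, hx, g, hg, rfl⟩
      exact ⟨H1.conj_mem_of_le_normalizer c.norm_W hg (zpowers_le.2 c.bW hx.1), fun e => hx.2
        (mem_bot.1 (c.disj'.le ⟨(mem_normalizer_iff.1 (c.norm_a hg) x).2 e, hx.1⟩))⟩)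
  rw [← H1.card_inf_mul_relIndex 𝐍(L) 𝐂[t], mul_comm 𝐨((𝐍(L) ⊓ 𝐂[t] : Subgroup G)), ← mul_assoc,
    Nat.mul_left_inj (card_ne_zero _), ncard_sharp, c.cb] at h1
  rw [h1, c.ncard_out] at h2
  exact Nat.le_of_mul_le_mul_left h2 (Nat.sub_pos_of_lt c.pp.one_lt)

theorem dvd_m : p ∣ (𝐍(L) : Subgroup G).relIndex 𝐂[t] := by
  have h1 := relIndex_mul_card_inf ((inf_le_right : 𝐍(L) ⊓ 𝐂[t] ≤ _).trans c.norm_W)
  have h2 : 𝐍(L) ⊓ 𝐂[t] ⊓ 𝐖 = 𝐄 := le_antisymm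
    ((le_inf inf_le_right (inf_le_left.trans inf_le_left)).trans c.WR)
    (le_inf (le_inf (sup_le (zpowers_le.2 (le_norm_self L (c.cl.KL c.ha.1).1))
      (c.nb ▸ le_norm_self _)) (c.E_lt_W.le.trans c.WH)) c.E_lt_W.le)
  rw [h2, c.elem.card, c.card_W, pow_succ' p 2, Nat.mul_left_inj (pow_pos c.pp.pos 2).ne'] at h1
  rw [← inf_relIndex_right, ← relIndex_mul_relIndex _ _ _ le_sup_left (sup_le inf_le_right c.WH), h1]
  exact dvd_mul_right _ _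

theorem odd_m (h : y ∈ 𝐍(L)) : Odd ((𝐍(L) : Subgroup G).relIndex 𝐂[t]) := by
  have h1 := relIndex_mul_card_inf ((inf_le_right : 𝐍(L) ⊓ 𝐂[t] ≤ _).trans c.HU)
  have h2 : 𝐀 ≤ 𝐍(L) ⊓ 𝐂[t] ⊔ U :=
    sup_le le_sup_right (le_sup_of_le_left (le_inf (zpowers_le.2 h) c.yH))
  have h3 : 𝐍(L) ⊓ 𝐂[t] ⊔ U = 𝐂[t] := le_antisymm (sup_le inf_le_right c.dh.Ut) fun g hg =>
    (c.ch.cover g ⟨trivial, hg⟩).elim (fun e => h2 e) fun e =>
      (mul_mem_cancel_left (mem_sup_left (mem_inf.2 ⟨c.sR, c.sH⟩))).1 (h2 e)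
  rw [h3, inf_relIndex_right] at h1
  exact c.dh.odd.of_dvd_nat ⟨_, h1.symm⟩

theorem bound : (𝐍(L) : Subgroup G).relIndex 𝐂[t] * (2 ^ (n + 2) * (kk U s + kk U (s * y))) ^ 2 ≤
    16 * p ^ 6 * k ^ 2 := by
  have h1 := c.m_le
  have p3 : 3 ≤ p := by have := c.pp.two_le; have := c.p2; omega
  by_cases h : y ∈ 𝐂(𝐖)
  · obtain ⟨m, hm⟩ := c.dvd_m
    have h2 := c.odd_m (c.CR h)
    have h3 : kk U (s * y) = kk U s := by
      have hy := mem_cent_iff_cent1.1 (c.Z_cent (mem_zpowers y) h)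
      rw [kk, kk, ← inf_relIndex_left, ← inf_relIndex_left (K := 𝐂[s])]
      congr 1
      ext u
      exact and_congr_right fun hu => mem_cent1_comm.trans ((mul_mem_cancel_right
        (mem_cent1_comm.1 (hy hu))).trans mem_cent1_comm)
    have h4 := c.ch.relIndex_s
    have h5 := relIndex_le_of_le_left (inf_le_left : 𝐂[s] ⊓ 𝐍(L) ≤ _)
      (CH1.relIndex_ne_zero' _ 𝐂[t])
    rw [top_inf_eq] at h4
    rw [h4, ← relIndex_inf_mul_relIndex] at h5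
    have h6 := h5.trans (Nat.mul_le_mul_right _ (c.c2.cls s c.sL (c.v4 c.s_Inv)))
    rw [hm] at h1 h2 h6 ⊢
    have h7 : m ≤ p := by
      obtain ⟨i, hi⟩ := c.oddp
      obtain ⟨i', hi'⟩ := (Nat.odd_mul.1 h2).2
      have := Nat.le_of_mul_le_mul_left h1 c.pp.pos
      omega
    rw [h3]
    calc _ = 16 * (p * m) * (2 ^ (n + 1) * kk U s) ^ 2 := by ring
      _ ≤ 16 * (p * p) * (k * (p * p)) ^ 2 := Nat.mul_le_mul (by gcongr)
        (Nat.pow_le_pow_left (h6.trans (by gcongr)) 2)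
      _ = _ := by ring
  · have h2 := c.card_Inv h
    rw [c.ch.ncard_Inv, c.ch.relIndex_s, c.ch.refl'.relIndex_s, c.ch.kk_eq, ← mul_add] at h2
    have h3 : (p + 1) ^ 3 ≤ 4 * p ^ 3 := by
      obtain ⟨r, rfl⟩ := Nat.exists_eq_add_of_le p3
      ring_nf
      omega
    calc _ = 4 * (𝐍(L) : Subgroup G).relIndex 𝐂[t] *
          (2 ^ (n + 1) * (kk U s + kk U (s * y))) ^ 2 := by ring
      _ ≤ 4 * (p * (p + 1)) * (p * (p + 1) * k) ^ 2 := by gcongr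
      _ = 4 * (p + 1) ^ 3 * (p ^ 3 * k ^ 2) := by ring
      _ ≤ 4 * (4 * p ^ 3) * (p ^ 3 * k ^ 2) := by gcongr
      _ = _ := by ring

end WD

theorem wStmt (Count : CountStmt.{u}) : WStmt.{u} := by
  intro G _ _ U L K y t s a b w p k l h sp
  obtain ⟨h1, h2⟩ := Count G U L K y t s a b w p k l h
  obtain ⟨n, rfl⟩ := h.dh.pw
  exact h2.not_ge (WD.bound ⟨h, sp, h1⟩)

end Cfsg.Agent.P15
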