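/-
P15: the induction.
-/
import Cfsg.Agent.P15.Bas2
import Cfsg.Agent.P15.Num
import Cfsg.Agent.P15.Ca
import Cfsg.Agent.P15.PS
import Cfsg.Agent.P15.Sem
import Cfsg.Agent.P15.BarL
import Cfsg.Agent.P15.K7
import Cfsg.Agent.P15.KD
import Cfsg.Agent.P15.KC
import Cfsg.Agent.P15.A1
import Cfsg.Agent.P15.A
import Cfsg.Agent.P15.Count
import Cfsg.Agent.P15.W

set_option autoImplicit false
set_option linter.unusedSectionVars false

namespace Cfsg.Agent.P15

open Subgroup Cfsg Cfsg.Agent Cfsg.Agent.FT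
open Cfsg.Agent.P5 (V4 Tri inv_eq_of_sq)

universe u

variable {G : Type u} [Group G] [Finite G]

theorem DH.bsw [IsSimpleGroup G] {U : Subgroup G} {y t s : G} {w : ℕ} (h : DH ⊤ U y t s w)
    (hy : y ∈ 𝐂(U)) (hB : U ⊓ 𝐂[s] = ⊥) (co : U = ⊥ ∨ IsCoatom 𝐂[t]) :
    P3.BSW (U ⊔ zpowers y) t s := by
  have i1 := L.inverts_of_fpf h.ss h.sU fun a ha hc =>
    mem_bot.1 (hB ▸ mem_inf.2 ⟨ha, mem_cent1.2 hc⟩)
  have inv : ∀ x ∈ U ⊔ zpowers y, s * x * s = x⁻¹ := fun x hx => by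
    obtain ⟨u, hu, z, hz, rfl⟩ := (mem_sup_of_norm h.KU).1 hx
    rw [show s * (u * z) * s = s * u * (s * s) * z * s by rw [h.ss]; group,
      show s * u * (s * s) * z * s = s * u * s * (s * z * s) by group, i1 u hu, h.invz hz,
      ← mul_inv_rev, mem_cent.1 (zpowers_le_of_mem hy hz) u hu]
  have cm : ∀ a ∈ U ⊔ zpowers y, ∀ b ∈ U ⊔ zpowers y, Commute a b := fun a ha b hb =>
    L.commute_of_inverts h.ss inv ha hb
  refine ⟨isMulComm_iff_le_cent.2 fun a ha => mem_cent.2 fun b hb => cm b hb a ha,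
    mem_sup_right h.tK, h.t1, h.tt, fun _ => h.invol_A, h.sA, h.ss, inv,
    fun g hg => h.cover' ⟨trivial, mem_cent1.2 hg⟩, fun x hx xx g hg => ?_, fun u u1 uu => ?_⟩
  · have h1 : g ∈ 𝐂[t] := by
      by_cases e : x ∈ U
      · have x1 : x ≠ 1 := fun e => xx (by rw [e, mul_one])
        rw [← h.norm_eq (co.resolve_left fun e' => x1 (mem_bot.1 (e' ▸ e))) (zpowers_ne_bot.2 x1)
          (zpowers_le_of_mem e) fun k hk => ?_]
        · exact P5.Mx.cent1_le_norm_zpowers x (mem_cent1.2 hg)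
        · have k0 : ∀ k ∈ U ⊔ zpowers y, k ∈ 𝐍(zpowers x) := fun k hk =>
            P5.Mx.cent1_le_norm_zpowers x (mem_cent1.2 (cm x hx k hk))
          refine (h.cover' ⟨trivial, hk⟩).elim (k0 k) fun e => (mul_mem_cancel_left ?_).1 (k0 _ e)
          exact H6.Cyc.mem_norm_zpowers (by
            rw [inv_eq_of_sq h.ss, inv x hx]; exact inv_mem (mem_zpowers x))
      · obtain ⟨m, rfl⟩ := h.exists_pow hx e
        exact mem_cent1.2 (hg.pow_left m)
    refine (h.cover' ⟨trivial, h1⟩).resolve_right fun e =>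
      xx (sq_of_comm_of_inv h.ss (inv x hx) ?_)
    simpa using ((cm x hx _ e).mul_right hg.inv_right).symm
  · obtain ⟨g, -, e⟩ := h.conj u trivial u1 uu
    exact isConj_iff.2 ⟨g, e⟩

theorem gf_of (hC : CLLStmt.{u}) (hs : IsSimpleGroup G) (na : ¬ IsMulCommutative G) (dc : DC G)
    (hI : Ind.{u} (Nat.card G)) : GF G := by
  have k : ∀ X : Subgroup G, X ≠ ⊤ → 𝐨(X) < Nat.card G := fun X hX => by
    rw [← card_top (G := G)]; exact H1.card_lt_of_lt hX.lt_top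
  exact ⟨hs, na, dc, numStmt, fun X hX => (kdStmt semStmt barLStmt k7Stmt G _ dc hI X (k X hX)).1,
    fun X hX => (kdStmt semStmt barLStmt k7Stmt G _ dc hI X (k X hX)).2,
    fun R hR => kcStmt semStmt hC k7Stmt G _ dc hI R (k R hR), chStmt G,
    fun U y t s w => caStmt G U y t s w hs, psStmt, btStmt G hs dc⟩

section
variable (hC : CLLStmt.{u}) (hN : NMStmt.{u}) (h1 : B1Stmt.{u}) (h2 : B2Stmt.{u})
  (hS : SplitStmt.{u})
include hC hN h1 h2 hS

theorem step (hs : IsSimpleGroup G) (na : ¬ IsMulCommutative G) (dc : DC G)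
    (hI : Ind.{u} (Nat.card G)) : Kn G := by
  by_cases h8 : 8 ∣ Nat.card G
  swap
  · exact Or.inl (P5.gw4 na h8)
  have gf := gf_of hC hs na dc hI
  obtain ⟨U, y, t, s, w, h⟩ := dc.exists_dh na h8
  by_cases co : IsCoatom 𝐂[t]
  · by_cases fc : FC U t
    · obtain ⟨a, b⟩ := h1 G gf U y t s w h co fc
      exact Or.inl ⟨_, _, _, h.bsw a b (Or.inr co)⟩
    · obtain ⟨L, K, y', s', a, b, p, k, l, d⟩ := h2 G gf U y t s w h co fc
      exact absurd (hS G _ _ _ _ _ _ _ _ _ _ _ _ d) (wStmt countStmt G _ _ _ _ _ _ _ _ _ _ _ _ d)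
  · rcases hN G gf U y t s w h co (aStmt a1Stmt G gf U y t s w h) with rfl | ⟨s', e⟩
    · exact Or.inl ⟨_, _, _, h.bsw (by rw [cent_bot]; trivial) (bot_inf_eq _) (Or.inl rfl)⟩
    · exact Or.inr ⟨U, y, t, s', e⟩

theorem ind_of (n : ℕ) : Ind.{u} n := by
  induction n with
  | zero => exact fun K _ _ h => absurd h (Nat.not_lt_zero _)
  | succ n ih =>
    intro K _ _ h hs na dc
    rcases Nat.lt_succ_iff_lt_or_eq.1 h with e | e
    · exact ih K e hs na dc
    · exact step hC hN h1 h2 hS hs na dc (e ▸ ih)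

theorem gw_of : P29.GWStmt.{u} := fun X _ _ hs na _ hd => by
  rcases ind_of hC hN h1 h2 hS _ X (Nat.lt_succ_self _) hs na (dc_of_dih hd) with
    ⟨A, t, s, b⟩ | ⟨U, y, t, s, a⟩
  · obtain ⟨F, _, _, hq, e⟩ := b.exists_psl2
    exact Or.inl ⟨F, _, _, by rw [Nat.odd_iff]; omega, e⟩
  · exact Or.inr (card_top (G := X) ▸ a.card)

end

end Cfsg.Agent.P15
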