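/-
P15, chapter NM: basic facts about the centralizer of the involution.
-/
import Cfsg.Agent.P15.Ch
import Cfsg.Agent.P15.Bas0
import Cfsg.Agent.P15.BarL

set_option autoImplicit false
set_option linter.unusedSectionVars false

namespace Cfsg.Agent.P15.N7

open Subgroup Cfsg Cfsg.Agent Cfsg.Agent.FT
open Cfsg.Agent.H2 (pPrimeCoreOf layerOf fstarOf)
open Cfsg.Agent.P5 (V4 Tri inv_eq_of_sq cj)
open scoped commutatorElement

universe u

variable {G : Type u} [Group G] [Finite G] {U : Subgroup G} {y t s : G} {w : ℕ}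

theorem odd_ord {W : Subgroup G} (ho : Odd 𝐨(W)) {g : G} (hg : g ∈ W) : Odd (orderOf g) :=
  ho.of_dvd_nat (orderOf_dvd_natCard W hg)

/-- An inverted subgroup of odd order meets the centralizer trivially. -/
theorem inf_cent_bot {K : Subgroup G} {j : G} (ho : Odd 𝐨(K)) (jj : j * j = 1)
    (hi : ∀ a ∈ K, j * a * j = a⁻¹) : K ⊓ 𝐂[j] = ⊥ := eq_bot_iff.2 fun a ha =>
  mem_bot.2 (P5.eq_one_of_odd ho ha.1
    (sq_of_comm_of_inv jj (hi a ha.1) (mem_cent1_iff_commute.1 ha.2)))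

theorem card_le_kk {K : Subgroup G} {j : G} (hK : K ≤ U) (h0 : K ⊓ 𝐂[j] = ⊥) : 𝐨(K) ≤ kk U j := by
  have h1 := H1.card_inf_mul_relIndex 𝐂[j] K
  rw [inf_comm, h0, card_bot, one_mul] at h1
  exact h1 ▸ relIndex_le_of_le_right hK (CH1.relIndex_ne_zero' _ _)

theorem card_dvd_kk {K : Subgroup G} {j : G} (hK : K ⊲ U) (h0 : K ⊓ 𝐂[j] = ⊥) :
    kk U j = 𝐨(K) * (K ⊔ U ⊓ 𝐂[j]).relIndex U := by
  have h1 := card_sup_mul_card_inf (A := K) (B := U ⊓ 𝐂[j]) (inf_le_left.trans hK.2)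
  rw [← inf_assoc, inf_eq_left.2 hK.1, h0, card_bot, mul_one] at h1
  have h2 := H1.card_mul_relIndex (sup_le hK.1 inf_le_left : K ⊔ U ⊓ 𝐂[j] ≤ U)
  have h3 := H1.card_inf_mul_relIndex 𝐂[j] U
  rw [inf_comm] at h3
  refine Nat.eq_of_mul_eq_mul_left (Nat.card_pos (α := (U ⊓ 𝐂[j] : Subgroup G))) ?_
  rw [h3, ← h2, h1]; ring

theorem kk_conj {j g : G} (hg : g ∈ 𝐍(U)) : kk U (g * j * g⁻¹) = kk U j := by
  rw [kk, cent1_conj, kk, ← relIndex_conj 𝐂[j] U g, conj_eq_of_mem_norm hg]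

theorem kk_eq_one {j : G} : kk U j = 1 ↔ U ≤ 𝐂[j] := relIndex_eq_one

variable (h : DH ⊤ U y t s w)
include h

theorem ch : ∃ n, w = 2 ^ (n + 2) ∧ Ch.DH ⊤ U y t s n := by
  obtain ⟨n, rfl⟩ := h.pw
  exact ⟨n, rfl, h.toCh⟩

theorem tt : t * t = 1 := (ch h).elim fun _ c => c.2.tt

theorem t1 : t ≠ 1 := (ch h).elim fun _ c => c.2.t1

theorem tK : t ∈ zpowers y := (ch h).elim fun _ c => c.2.tK

theorem KH : zpowers y ≤ 𝐂[t] := (ch h).elim fun _ c => c.2.Kt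

theorem yH : y ∈ 𝐂[t] := KH h (mem_zpowers y)

theorem sH : s ∈ 𝐂[t] := (ch h).elim fun _ c => c.2.sH.2

theorem HU : 𝐂[t] ≤ 𝐍(U) := (ch h).elim fun _ c => (top_inf_eq _).ge.trans c.2.HU

theorem y_sq : y * y ≠ 1 := (ch h).elim fun _ c => c.2.a_sq

theorem disj {z : G} (hz : z ∈ zpowers y) (hU : z ∈ U) : z = 1 :=
  (ch h).elim fun _ c => c.2.disj hz hU

theorem uniq {z : G} (hz : z ∈ zpowers y) (zz : z * z = 1) : z = 1 ∨ z = t :=
  (ch h).elim fun _ c => c.2.uniq hz zz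

theorem invK {z : G} (hz : z ∈ zpowers y) : s * z * s = z⁻¹ := inv_zp h.ss h.inv hz

theorem v4 : V4 t s :=
  ⟨t1 h, fun e => h.sy (e ▸ one_mem _), fun e => h.sy (e ▸ tK h), tt h, h.ss,
    mem_cent1_iff_commute.1 (sH h)⟩

theorem mul_s {z : G} (hz : z ∈ zpowers y) : s * z = z⁻¹ * s := by
  rw [← invK h hz, mul_assoc, h.ss, mul_one]

theorem swap : DH ⊤ U y t (s * y) w where
  yX := trivial
  sX := trivial
  ord := h.ord
  pw := h.pw
  ty := h.ty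
  ss := by rw [← mul_assoc, h.inv, inv_mul_cancel]
  sy e := h.sy ((mul_mem_cancel_right (mem_zpowers y)).1 e)
  inv := by
    rw [show s * y * y * (s * y) = s * (y * y) * s * y by group,
      invK h (mul_mem (mem_zpowers y) (mem_zpowers y))]; group
  UX := le_top
  Ut := h.Ut
  odd := h.odd
  yU := h.yU
  sU := mul_mem h.sU h.yU
  cover g hg := by
    obtain ⟨u, hu, z, hz, e | e⟩ := h.cover g hg
    · exact ⟨u, hu, z, hz, .inl e⟩
    · refine ⟨u, hu, z * y, mul_mem hz (mem_zpowers y), .inr ?_⟩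
      rw [e, mul_s h (mem_zpowers y)]; group
  conj := h.conj

theorem syy : s * y * y = y⁻¹ * s * y⁻¹⁻¹ := by rw [← mul_s h (mem_zpowers y), inv_inv]

theorem kk_syy : kk U (s * y * y) = kk U s := by rw [syy h, kk_conj (inv_mem h.yU)]

theorem kk_odd (j : G) : Odd (kk U j) := h.odd.of_dvd_nat (relIndex_dvd_card _ _)

theorem card_H : 𝐨((𝐂[t] : Subgroup G)) = 2 * w * 𝐨(U) := by
  obtain ⟨n, rfl, c⟩ := ch h
  have := c.card_H
  rw [top_inf_eq, c.card_A] at this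
  rw [this]; ring

theorem mem_of_odd {g : G} (hg : g ∈ 𝐂[t]) (ho : Odd (orderOf g)) : g ∈ U := by
  obtain ⟨n, rfl, c⟩ := ch h
  obtain ⟨u, hu, z, hz, rfl | rfl⟩ := h.cover g ⟨trivial, hg⟩
  · by_contra e
    obtain ⟨m, hm⟩ := c.exists_pow (mul_mem (mem_sup_left hu) (mem_sup_right hz)) e
    have h1 : Odd (orderOf t) := ho.of_dvd_nat (hm ▸ orderOf_pow_dvd m)
    exact c.t_notMem (mem_of_sq_mem h1 (c.tt ▸ one_mem U))
  · refine mem_of_sq_mem ho ?_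
    have := mul_mem hu ((mem_normalizer_iff.1 (mul_mem (c.KU hz) h.sU) u).1 hu)
    have e : s * z * s * z = 1 := by rw [c.invK hz, inv_mul_cancel]
    rwa [show u * (z * s * u * (z * s)⁻¹) = u * z * s * (u * z * s) * (s⁻¹ * (s * z * s * z)⁻¹ * s)
      by group, e, inv_one, mul_one, inv_mul_cancel, mul_one] at this

theorem le_U {W : Subgroup G} (hW : W ≤ 𝐂[t]) (ho : Odd 𝐨(W)) : W ≤ U := fun _ hg =>
  mem_of_odd h (hW hg) (odd_ord ho hg)

theorem zs_sq {z : G} (hz : z ∈ zpowers y) : z * s * (z * s) = 1 := by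
  rw [mul_assoc, ← mul_assoc s, invK h hz, mul_inv_cancel]

/-- The noncentral involutions of `H`. -/
theorem invol {j : G} (hj : j ∈ 𝐂[t]) (j1 : j ≠ 1) (jj : j * j = 1) :
    j = t ∨ ∃ g ∈ 𝐂[t], g * s * g⁻¹ = j ∨ g * (s * y) * g⁻¹ = j := by
  obtain ⟨n, rfl, c⟩ := ch h
  obtain ⟨u, hu, z, hz, rfl | rfl⟩ := h.cover j ⟨trivial, hj⟩
  · exact .inl ((c.invol (mul_mem (mem_sup_left hu) (mem_sup_right hz)) jj).resolve_left j1)
  right
  obtain ⟨v, hv, e⟩ := P5.exists_conj_of_odd h.odd (zs_sq h hz) jj (by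
    have := (mem_normalizer_iff.1 (mul_mem (c.KU hz) h.sU) u).1 hu
    rwa [inv_eq_of_sq (zs_sq h hz), mul_assoc, ← mul_assoc u] at this)
  obtain ⟨k, rfl⟩ := mem_zpowers_iff.1 hz
  have key : ∀ m : ℤ, y ^ m * s * (y ^ m)⁻¹ = y ^ (2 * m) * s := fun m => by
    rw [mul_assoc, mul_s h (inv_mem (zpow_mem_zpowers y m))]; group
  obtain ⟨m, rfl | rfl⟩ := Int.even_or_odd' k
  · exact ⟨v * y ^ m, mul_mem (h.Ut hv) (zpow_mem (yH h) m), .inl (by rw [← e, ← key]; group)⟩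
  · refine ⟨v * y ^ (m + 1), mul_mem (h.Ut hv) (zpow_mem (yH h) _), .inr ?_⟩
    have e2 : y ^ (2 * m + 1) * s = y ^ (m + 1) * (s * y) * (y ^ (m + 1))⁻¹ := by
      rw [show y ^ (m + 1) * (s * y) * (y ^ (m + 1))⁻¹ = y ^ (m + 1) * (s * (y ^ m)⁻¹) by group,
        mul_s h (inv_mem (zpow_mem_zpowers y m))]; group
    rw [← e, e2]; group

theorem eq_t {z : G} (z1 : z ≠ 1) (zz : z * z = 1) (hc : Commute z y) : z = t := by
  obtain ⟨n, rfl, c⟩ := ch h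
  have hz : z ∈ 𝐂[t] := mem_cent1_comm.1 (cent1_le_cent1_of_mem_zpowers c.tK
    (mem_cent1_iff_commute.2 hc.symm) |> mem_cent1_comm.1)
  obtain ⟨u, hu, a, ha, rfl | rfl⟩ := h.cover z ⟨trivial, hz⟩
  · exact (c.invol (mul_mem (mem_sup_left hu) (mem_sup_right ha)) zz).resolve_left z1
  refine absurd (c.disj (mul_mem (mem_zpowers y) (mem_zpowers y)) ?_) c.a_sq
  have e : u * y⁻¹ * u⁻¹ = y := by
    have e1 : a * s * y * (a * s)⁻¹ = y⁻¹ := by
      rw [mul_inv_rev, inv_eq_of_sq h.ss, show a * s * y * (s * a⁻¹) = a * (s * y * s) * a⁻¹ by group,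
        h.inv, (comm_zp ha (inv_mem (mem_zpowers y))).eq, mul_inv_cancel_right]
    rw [← e1, show u * (a * s * y * (a * s)⁻¹) * u⁻¹ = u * a * s * y * (u * a * s)⁻¹ by group, hc.eq,
      mul_inv_cancel_right]
  have := mul_mem hu ((mem_normalizer_iff.1 (inv_mem h.yU) u⁻¹).1 (inv_mem hu))
  rwa [inv_inv, ← mul_assoc, ← mul_assoc, e] at this

theorem two_K : IsPGroup 2 (zpowers y) := by
  obtain ⟨n, rfl, c⟩ := ch h
  exact IsPGroup.of_card c.card_K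

theorem mem_two {T : Subgroup G} (hT : IsPGroup 2 T) (h1 : T ≠ ⊥) (hn : y ∈ 𝐍(T)) : t ∈ T := by
  have h2 := inf_center_ne_bot (IsPGroup.to_sup_of_normal_right' (two_K h) hT
    (zpowers_le.2 hn)).isNilpotent ⟨le_sup_right, sup_le (zpowers_le.2 hn) le_normalizer⟩ h1
  obtain ⟨z, hz, ho⟩ := exists_mem_orderOf_eq_prime Nat.prime_two
    (prime_dvd_card_of_isPGroup Nat.prime_two (hT.to_le inf_le_left) h2)
  exact eq_t h (by rintro rfl; simp at ho) (by rw [← sq, ← ho, pow_orderOf_eq_one])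
    (Commute.symm (mem_cent.1 hz.2 y (mem_sup_left (mem_zpowers y)))) ▸ hz.1

theorem mem_layer {R : Subgroup G} (hR : y ∈ R) (h1 : layerOf R ≠ ⊥) : t ∈ layerOf R := by
  obtain ⟨S, hS, hVS⟩ := exists_isSyl_ge Nat.prime_two (two_K h) (zpowers_le.2 hR)
  have h2 := hS.inf_normal Nat.prime_two ⟨H2.layerOf_le R, H2.le_normalizer_layerOf R⟩
  exact (mem_two h h2.pgrp (h2.ne_bot Nat.prime_two (by
      by_contra h3
      exact (H1.commutator_lt_of_isSolvable (P5.Mx.isSolvable_of_odd (Nat.not_even_iff_odd.1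
        (mt even_iff_two_dvd.1 h3))) h1).ne (H2.commutator_layerOf R))) (P5.mem_norm_inf
    (le_norm_self S (hVS (mem_zpowers y))) (H2.le_normalizer_layerOf R hR))).2

theorem exists_y0 : ∃ z ∈ zpowers y, z * s * z⁻¹ = t * s := by
  obtain ⟨n, rfl, c⟩ := ch h
  refine ⟨y ^ 2 ^ n, pow_mem (mem_zpowers y) _, ?_⟩
  rw [mul_assoc, mul_s h (inv_mem (pow_mem (mem_zpowers y) _)), inv_inv, ← mul_assoc, ← pow_add,
    ← two_mul, ← pow_succ', c.pw]

theorem tri (dc : DC G) : ∃ x, Tri x t s := by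
  have v := v4 h
  obtain ⟨g, -, e⟩ := h.conj s trivial v.s1 v.ss
  obtain ⟨n, hn, e⟩ := BL.fuse dc v e
  obtain ⟨z, hz, e2⟩ := exists_y0 h
  have e3 := mem_cent1_iff_conj.1 (KH h hz)
  rcases v.mem_iff.1 ((mem_normalizer_iff.1 hn s).1 V4.s_mem) with a | a | a | a
  · exact absurd (by simpa using a) v.s1
  · refine ⟨n * z, ?_, ?_⟩
    · rw [← e]; nth_rewrite 2 [← e3]; group
    · rw [show n * z * s * (n * z)⁻¹ = n * (z * s * z⁻¹) * n⁻¹ by group, e2, ← conj_mul, e, a,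
        v.comm.eq]
  · exact absurd (by simpa using e.trans a.symm) v.ts
  · exact ⟨n, e, a⟩

/-- `U ^ x` is the largest subgroup of odd order of `C(x t x⁻¹)`. -/
theorem le_conj {W : Subgroup G} {x : G} (hW : W ≤ 𝐂[x * t * x⁻¹]) (ho : Odd 𝐨(W)) :
    W ≤ U ^ᵍ x := by
  rw [cent1_conj, le_conj_iff] at hW
  exact le_conj_iff.2 (le_U h hW (by rwa [card_conj]))

theorem mem_norm_B {x : G} (hx : Tri x t s) : x ∈ 𝐍((U ⊓ 𝐂[s] : Subgroup G)) := by
  refine inv_mem_iff.1 (mem_norm_of_conj_le (le_inf ?_ ?_))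
  · rw [← le_conj_iff]
    exact le_conj h (hx.1 ▸ inf_le_right) (P5.Mx.odd_of_le inf_le_left h.odd)
  · rw [← le_conj_iff, ← cent1_conj, hx.2]
    exact fun g hg => mem_cent1_iff_commute.2 ((mem_cent1_iff_commute.1 (h.Ut hg.1)).mul_left
      (mem_cent1_iff_commute.1 hg.2))

theorem eq_top [IsSimpleGroup G] {M : Subgroup G} (h1 : 𝐂[t] ≤ M) {a b : G} (ha : a ∈ M) (hb : b ∈ M)
    (e1 : a * t * a⁻¹ = s) (e2 : b * t * b⁻¹ = s * y) : M = ⊤ := by
  obtain ⟨n, rfl, c⟩ := ch h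
  refine c.over_top h1 fun j hj j1 jj => ?_
  obtain ⟨P, hP, k1⟩ := exists_isSyl_ge Nat.prime_two (two_K h) (zpowers_le.2 (h1 (yH h)))
  obtain ⟨g, hg, k2⟩ := hP.exists_conj_le Nat.prime_two (P5.isPGroup_zpowers_of_sq jj)
    (zpowers_le.2 hj)
  have k3 := mem_two h (hP.pgrp.to_le (inf_le_left : 𝐙(P) ≤ P)) (center_ne_bot hP.pgrp.isNilpotent
    fun e => c.t1 (mem_bot.1 (e ▸ k1 c.tK)))
    (norm_le_norm_center P (le_norm_self P (k1 (mem_zpowers y))))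
  rcases invol h (mem_cent_iff_cent1.1 k3.2 (k2 (conj_mem_conj (mem_zpowers j) g)))
    (by simpa using j1) (by rw [conj_mul, jj]; simp) with e | ⟨k, hk, e | e⟩
  · exact ⟨g⁻¹, inv_mem hg, by rw [← e]; group⟩
  · exact ⟨g⁻¹ * k * a, mul_mem (mul_mem (inv_mem hg) (h1 hk)) ha, by
      rw [show j = g⁻¹ * (g * j * g⁻¹) * g by group, ← e, ← e1]; group⟩
  · exact ⟨g⁻¹ * k * b, mul_mem (mul_mem (inv_mem hg) (h1 hk)) hb, by
      rw [show j = g⁻¹ * (g * j * g⁻¹) * g by group, ← e, ← e2]; group⟩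

end Cfsg.Agent.P15.N7
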