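/-
P15, chapter NM: the maximal overgroups of the centralizer of the involution.
-/
import Cfsg.Agent.P15.NM0

set_option autoImplicit false
set_option linter.unusedSectionVars false

namespace Cfsg.Agent.P15.N7

open Subgroup Cfsg Cfsg.Agent Cfsg.Agent.FT
open Cfsg.Agent.H2 (pPrimeCoreOf layerOf fstarOf)
open Cfsg.Agent.P5 (V4 Tri inv_eq_of_sq cj)
open scoped commutatorElement

universe u

theorem arith {c l D : ℕ} (hl : l = 2 * c + 1 ∨ l + 1 = 2 * c) (h3 : 3 ≤ l) (oc : Odd c)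
    (hD : D = 105 ∨ D = 189) (hd : (2 * c + l) * l ∣ D * c ^ 2) : c = 1 ∧ l = 3 ∧ D = 105 := by
  have h1 : l.Coprime c := Nat.coprime_of_dvd fun p hp a b => by
    have := hp.two_le
    have e := b.mul_left 2
    rcases hl with rfl | hl
    · exact absurd (Nat.le_of_dvd one_pos ((Nat.dvd_add_right e).1 a)) (by omega)
    · exact absurd (Nat.le_of_dvd one_pos ((Nat.dvd_add_right a).1 (hl ▸ e))) (by omega)
  have h2 : (2 * c + l).Coprime c := by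
    rw [add_comm]; exact (Nat.coprime_add_mul_right_left l c 2).2 h1
  have h4 := ((h2.mul_left h1).pow_right 2).dvd_of_dvd_mul_right hd
  have h5 : (2 * c + l) * l ≤ 189 := (Nat.le_of_dvd (by omega) h4).trans (by omega)
  have h7 : l ≤ 13 := by nlinarith
  have h6 : c ≤ 7 := by omega
  obtain ⟨m, rfl⟩ := oc
  have h8 : m ≤ 3 := by omega
  rcases hD with rfl | rfl <;> interval_cases m <;> interval_cases l <;> simp_all

variable {G : Type u} [Group G] [Finite G] {U : Subgroup G} {y t s : G} {w : ℕ}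

theorem six {I : Set G} (hI : I.ncard ≤ 5) (h1 : 1 ∈ I) (hi : ∀ a ∈ I, a⁻¹ ∈ I)
    (ho : ∀ a ∈ I, a * a = 1 → a = 1) {b : G} (hb : ∀ a ∈ I, b * a * b⁻¹ ∈ I) {a : G} (ha : a ∈ I) :
    Commute (b ^ 4) a := by
  have k2 : b * (b * a * b⁻¹) * b⁻¹ = a ∨ b * (b * a * b⁻¹) * b⁻¹ = a⁻¹ → Commute (b ^ 4) a :=
    fun e => by
    refine P5.Mx.commute_of_conj_eq ?_
    rw [show b ^ 4 * a * (b ^ 4)⁻¹ = b * (b * (b * (b * a * b⁻¹) * b⁻¹) * b⁻¹) * b⁻¹ by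
      simp only [pow_succ, pow_zero]; group]
    rcases e with e | e
    · rw [e, e]
    · rw [e, ← conj_inv, ← conj_inv, e, inv_inv]
  have k1 : b * a * b⁻¹ = a ∨ b * a * b⁻¹ = a⁻¹ → Commute (b ^ 4) a := fun e => k2 (.inl (by
    rcases e with e | e
    · rw [e, e]
    · rw [e, ← conj_inv, e, inv_inv]))
  by_contra hc
  obtain ⟨n1, n2⟩ := not_or.1 (mt k1 hc)
  obtain ⟨n3, n4⟩ := not_or.1 (mt k2 hc)
  have a1 : a ≠ 1 := by rintro rfl; simp at n1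
  have hb1 := hb a ha
  have hb2 := hb _ hb1
  have n5 : b * (b * a * b⁻¹) * b⁻¹ ≠ b * a * b⁻¹ := fun e => n1 (by simpa using e)
  have n6 : b * (b * a * b⁻¹) * b⁻¹ ≠ (b * a * b⁻¹)⁻¹ := fun e => n2 (by
    rw [conj_inv] at e; simpa using e)
  have n7 : b * a * b⁻¹ ≠ 1 := by simpa using a1
  have n8 : b * (b * a * b⁻¹) * b⁻¹ ≠ 1 := by simpa using a1
  generalize b * (b * a * b⁻¹) * b⁻¹ = d at *
  generalize b * a * b⁻¹ = c at *
  have n9 : a⁻¹ ≠ a := fun e => a1 (ho a ha (by nth_rewrite 1 [← e]; simp))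
  have n10 : c⁻¹ ≠ c := fun e => n7 (ho c hb1 (by nth_rewrite 1 [← e]; simp))
  have n11 : c⁻¹ ≠ a := fun e => n2 (by rw [← e, inv_inv])
  have hs : ({d, c⁻¹, c, a⁻¹, a, 1} : Set G) ⊆ I := by
    simp only [Set.insert_subset_iff, Set.singleton_subset_iff]
    exact ⟨hb2, hi c hb1, hb1, hi a ha, ha, h1⟩
  have := (Set.ncard_le_ncard hs).trans hI
  rw [Set.ncard_insert_of_notMem (by simp [*]), Set.ncard_insert_of_notMem (by simp [*]),
    Set.ncard_insert_of_notMem (by simp [*]), Set.ncard_insert_of_notMem (by simp [*]),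
    Set.ncard_insert_of_notMem (by simp [*]), Set.ncard_singleton] at this
  omega

theorem norm_of_kk {j : G} (ho : Odd 𝐨(U)) (jj : j * j = 1) (hn : j ∈ 𝐍(U)) (h5 : kk U j ≤ 5) :
    U ≤ 𝐍((U ⊓ 𝐂[j] : Subgroup G)) := fun u hu => by
  obtain ⟨b, hb, a, ha, e1, e2, rfl⟩ := P5.Mx.exists_cent_mul_inv ho jj hn hu
  refine mul_mem (le_norm_self _ ⟨hb, mem_cent1_iff_commute.2 e1.symm⟩)
    (cent_le_norm _ (mem_cent.2 fun c hc => ?_))
  have hI : {a | a ∈ U ∧ j * a * j = a⁻¹}.ncard ≤ 5 := by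
    refine le_trans (Nat.card_le_card_of_injective
      (fun a : {a | a ∈ U ∧ j * a * j = a⁻¹} =>
        ((⟨a, a.2.1⟩ : U) : U ⧸ (𝐂[j] : Subgroup G).subgroupOf U)) ?_) h5
    rintro ⟨a, ha, e⟩ ⟨a', ha', e'⟩ h
    have h1 : j * (a⁻¹ * a') * j = a⁻¹ * a' := by
      have := mem_cent1_iff_commute.1 (mem_subgroupOf.1 (QuotientGroup.eq.1 h))
      rw [show j * (a⁻¹ * a') = a⁻¹ * a' * j from this.eq, mul_assoc, jj, mul_one]
    have h2 : j * (a⁻¹ * a') * j = a * a'⁻¹ := by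
      calc _ = j * (a⁻¹ * (j * j) * a') * j := by rw [jj, mul_one]
        _ = (j⁻¹ * a * j⁻¹)⁻¹ * (j * a' * j) := by group
        _ = _ := by rw [inv_eq_of_sq jj, e, e', inv_inv]
    have h3 : a * a = a' * a' := by
      calc a * a = a * (a * a'⁻¹) * a' := by group
        _ = _ := by rw [← h2, h1]; group
    obtain ⟨k, hk⟩ := ho
    have h4 : ∀ g ∈ U, g = (g * g) ^ (k + 1) := fun g hg => by
      rw [← sq, ← pow_mul, show 2 * (k + 1) = 2 * k + 1 + 1 by ring, ← hk, pow_succ,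
        P5.pow_card_of_mem hg, one_mul]
    exact Subtype.ext ((h4 a ha).trans (h3 ▸ (h4 a' ha').symm))
  have cj := mem_cent1_iff_commute.1 hc.2
  have := six hI ⟨one_mem U, by simp [jj]⟩ (fun a ha => ⟨inv_mem ha.1, by
      rw [← ha.2, ← mul_assoc, ← mul_assoc, jj, one_mul, mul_assoc, jj, mul_one, ha.2, inv_inv]⟩)
    (fun a ha => P5.eq_one_of_odd ho ha.1) (b := c) (fun a ha => ⟨P5.cj hc.1 ha.1, by
      rw [conj_inv, ← ha.2, ← mul_assoc, ← mul_assoc, cj.eq, mul_assoc _ c⁻¹, ← cj.inv_right.eq]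
      group⟩) ⟨ha, e2⟩
  have oc := odd_ord ho hc.1
  refine mem_cent1.1 (mem_cent1_comm.1 (mem_of_sq_mem oc (mem_of_sq_mem (odd_ord ho
    (mul_mem hc.1 hc.1)) (mem_cent1_iff_commute.2 ?_))))
  convert this.symm using 1
  simp only [pow_succ, pow_zero]; group

theorem relIndex_dvd_index {L H : Subgroup G} (hn : H ≤ 𝐍(L)) : H.relIndex L ∣ H.index := by
  have h1 := card_sup_mul_card_inf hn
  rw [← H1.card_inf_mul_relIndex H L, inf_comm H] at h1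
  have h2 : 𝐨((L ⊔ H : Subgroup G)) = 𝐨(H) * H.relIndex L :=
    Nat.eq_of_mul_eq_mul_right (Nat.card_pos (α := (L ⊓ H : Subgroup G))) (by rw [h1]; ring)
  have h3 := card_subgroup_dvd_card (L ⊔ H)
  rw [h2, ← H.card_mul_index] at h3
  exact Nat.dvd_of_mul_dvd_mul_left Nat.card_pos h3

variable (h : DH ⊤ U y t s w)
include h

theorem H_le {X : Subgroup G} (hU : U ≤ X) (hy : y ∈ X) (hs : s ∈ X) : 𝐂[t] ≤ X := fun g hg => by
  obtain ⟨u, hu, z, hz, rfl | rfl⟩ := h.cover g ⟨trivial, hg⟩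
  · exact mul_mem (hU hu) (zpowers_le.2 hy hz)
  · exact mul_mem (mul_mem (hU hu) (zpowers_le.2 hy hz)) hs

theorem typ1_core (dc : DC G) {M T : Subgroup G} (hM : 𝐂[t] ≤ M) (hT : IsPGroup 2 T)
    (hn : M ≤ 𝐍(T)) (hc : T ≤ 𝐂(T)) (tT : t ∈ T) (sT : s ∈ T) :
    w = 4 ∧ U ≤ 𝐂[s] ∧ M ≤ 𝐍(VV t s) := by
  have v := v4 h
  have h1 : VV t s ≤ T := V4.le_iff.2 ⟨tT, sT⟩
  obtain rfl : T = VV t s := le_antisymm (dc.four v hT (hc.trans (cent_anti h1))) h1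
  refine ⟨?_, (P5.Mx.le_cent_of_coprime (h.Ut.trans (hM.trans hn))
    ((hc.trans (cent_le_cent1 tT)).trans (HU h)) (by
      rw [v.card]; exact (Nat.coprime_two_right.2 h.odd).pow_right 2)).trans (cent_le_cent1 sT), hn⟩
  have h2 := v.sq (mul_mem ((mem_normalizer_iff.1 (hn (hM (yH h))) s).1 sT) sT)
  rw [mul_assoc y s, mul_assoc y, invK h (inv_mem (mem_zpowers y)), inv_inv] at h2
  have h3 : w ∣ 4 := h.ord ▸ orderOf_dvd_of_pow_eq_one (by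
    rw [← h2]; simp only [pow_succ, pow_zero]; group)
  obtain ⟨n, rfl⟩ := h.pw
  exact Nat.dvd_antisymm h3 ⟨2 ^ n, by ring⟩

theorem typ1 (dc : DC G) (hA : ∀ W : Subgroup G, Odd 𝐨(W) → 𝐂[t] ≤ 𝐍(W) → W ≤ 𝐂[t])
    {M : Subgroup G} (hM : 𝐂[t] ≤ M) (hne : ¬ M ≤ 𝐂[t]) (hE : layerOf M = ⊥) :
    w = 4 ∧ ((U ≤ 𝐂[s] ∧ M ≤ 𝐍(VV t s)) ∨ (U ≤ 𝐂[s * y] ∧ M ≤ 𝐍(VV t (s * y)))) := by
  have h0 : pCoreOf 2 M ≠ ⊥ := fun e => by
    have h1 := H2.fittingOf_le_sup Nat.prime_two M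
    rw [e, bot_sup_eq] at h1
    have h2 := P5.Mx.odd_of_le h1 (P5.Mx.odd_O M)
    exact t1 h (P5.eq_one_of_odd h2 (H2.inf_centralizer_fittingOf_le_of_layerOf_eq_bot hE
      ⟨hM (self_mem_cent1 t), mem_cent_iff_cent1.2
        (hA _ h2 (hM.trans (H2.le_normalizer_fittingOf M)))⟩) (tt h))
  have hP := H2.isPGroup_pCoreOf 2 M
  have hT := hP.to_le (inf_le_left : 𝐙(pCoreOf 2 M) ≤ _)
  have hn := (pCoreOf_normal 2 M).2.trans (norm_le_norm_center _)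
  have hc := isMulComm_iff_le_cent.1 (isMulComm_center (pCoreOf 2 M))
  have tT := mem_two h hT (center_ne_bot hP.isNilpotent h0) (hn (hM (yH h)))
  generalize 𝐙(pCoreOf 2 M) = T at *
  obtain ⟨m, hm, m1⟩ := SetLike.not_le_iff_exists.1 hne
  have h1 := (mem_normalizer_iff.1 (hn hm) t).1 tT
  rcases invol h (cent_le_cent1 tT (hc h1)) (by simpa using t1 h) (by rw [conj_mul, tt h]; simp)
    with e | ⟨g, hg, e | e⟩
  · exact absurd (mem_cent1_iff_conj.2 e) m1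
  · have := typ1_core h dc hM hT hn hc tT ((mem_normalizer_iff.1 (hn (hM hg)) _).2 (e ▸ h1))
    exact ⟨this.1, .inl this.2⟩
  · have := typ1_core (swap h) dc hM hT hn hc tT ((mem_normalizer_iff.1 (hn (hM hg)) _).2 (e ▸ h1))
    exact ⟨this.1, .inr this.2⟩

theorem card_le_kk_conj {x : G} (hx : Tri x t s) {K : Subgroup G} (hK : K ≤ 𝐂[s]) (ho : Odd 𝐨(K))
    (h0 : K ⊓ 𝐂[t] = ⊥) : 𝐨(K) ≤ kk U s := by
  obtain ⟨z, hz, e⟩ := exists_y0 h
  rw [← kk_conj (HU h (KH h hz)), e, ← card_conj K x⁻¹]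
  refine card_le_kk (le_conj_iff.1 (le_conj h (hx.1 ▸ hK) ho)) ?_
  rw [← conj_eq_bot_iff (g := x), conj_inf, conj_inv_conj, ← cent1_conj, hx.third (v4 h), h0]

theorem typ2 (gf : GF G) {M L K : Subgroup G} {k l : ℕ} (hM : 𝐂[t] ≤ M) (cl : CL M L K t)
    (c2 : CL2 M L K t k l) (sL : s ∈ L) (yL : s * y ∉ L) :
    w = 4 ∧ U ≤ 𝐂[s] ∧ kk U (s * y) = 3 ∧ l = 3 := by
  have v := v4 h
  have v' := v4 (swap h)
  have hK : K ⊲ U := ⟨le_U h (cl.KL.trans inf_le_right) cl.odd,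
    (le_inf (h.Ut.trans hM) h.Ut).trans cl.nK⟩
  have k1 := card_dvd_kk hK (inf_cent_bot cl.odd v.ss (c2.inv s (hM (sH h)) v))
  have k2 := card_dvd_kk hK (inf_cent_bot cl.odd v'.ss (c2.inv _ (hM (sH (swap h))) v'))
  rw [relIndex_eq_one.2 (fun u hu => by
    obtain ⟨b, hb, a, ha, e1, e2, rfl⟩ := P5.Mx.exists_cent_mul_inv h.odd v.ss h.sU hu
    exact mul_mem (mem_sup_right ⟨hb, mem_cent1_iff_commute.2 e1.symm⟩) (mem_sup_left
      (cl.mem s sL v a ⟨hM (h.Ut ha), h.Ut ha⟩ (odd_ord h.odd ha) e2))), mul_one] at k1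
  obtain ⟨m, hm⟩ := c2.dvd
  have h3 := c2.three
  have hl := c2.num
  obtain ⟨K', a1, a2, a3⟩ := c2.out _ (hM (sH (swap h))) yL v'
  have ol : Odd 𝐨(K') := by
    rw [a2, Nat.odd_iff]; rw [mul_assoc] at hm; omega
  obtain ⟨x, hx⟩ := tri (swap h) gf.dc
  have k3 := card_le_kk_conj (swap h) hx (a1.trans inf_le_right) ol (inf_cent_bot ol v.tt a3)
  have o2 := kk_odd h (s * y)
  obtain ⟨-, -, n1, -, n3, n5, -⟩ := gf.num _ _ _ _ h.pw (kk_odd h s) o2 (gf.ch _ _ _ _ _ _ h)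
  have hd := relIndex_dvd_index (hM.trans cl.nL)
  rw [c2.idx] at hd
  rw [relIndex_top_right, k1, k2] at n3 n5
  rw [k1, k2] at n1
  rw [k2] at o2
  rw [a2, k2] at k3
  rw [← kk_eq_one, k1, k2]
  generalize (K ⊔ U ⊓ 𝐂[s * y]).relIndex U = j at *
  have c0 : 0 < 𝐨(K) := Nat.card_pos
  have m0 : 0 < m := Nat.pos_of_ne_zero (by rintro rfl; omega)
  have j6 : j < 6 := by nlinarith
  have oj := Nat.odd_iff.1 (Nat.odd_mul.1 o2).2
  have j1 : j ≠ 1 := by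
    rintro rfl
    have := Nat.mul_le_mul_left (2 * 𝐨(K)) m0
    omega
  obtain ⟨w4, D, hD, hi⟩ : w = 4 ∧ ∃ D, (D = 105 ∧ j = 3 ∨ D = 189) ∧
      (𝐂[t] : Subgroup G).index = D * 𝐨(K) ^ 2 := by
    obtain rfl | rfl : j = 3 ∨ j = 5 := by omega
    · exact ⟨(n3 (mul_comm _ _)).1, 105, .inl ⟨rfl, rfl⟩, (n3 (mul_comm _ _)).2⟩
    · exact ⟨(n5 (mul_comm _ _)).1, 189, .inr rfl, (n5 (mul_comm _ _)).2⟩
  obtain ⟨P, hP, p1⟩ := exists_isSyl_ge Nat.prime_two (two_K h) (zpowers_le.2 (hM (yH h)))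
  have p2 := mem_two h (hP.pgrp.to_le (inf_le_left : 𝐙(P) ≤ P)) (center_ne_bot hP.pgrp.isNilpotent
    fun e => t1 h (mem_bot.1 (e ▸ p1 (tK h))))
    (norm_le_norm_center P (le_norm_self P (p1 (mem_zpowers y))))
  have p3 := FT.card_dvd_of_le (mem_cent_iff_cent1.1 p2.2)
  obtain ⟨a, ha⟩ := exists_card_eq_pow Nat.prime_two hP.pgrp
  rw [card_H h, w4, ha] at p3
  have p4 := Nat.le_of_dvd (by norm_num)
    (((Nat.coprime_two_left.2 h.odd).pow_left a).dvd_of_dvd_mul_right p3)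
  have p5 := c2.two _ (hP.inf_normal Nat.prime_two ⟨cl.LR, cl.nL⟩)
  have p6 := H1.card_inf_mul_relIndex L P
  have p7 : 2 ≤ L.relIndex P := by
    have := CH1.relIndex_ne_zero' L P
    have : L.relIndex P ≠ 1 := fun e => yL (mul_mem sL (relIndex_eq_one.1 e (p1 (mem_zpowers y))))
    omega
  rw [inf_comm, ha] at p6
  have p8 : 𝐨((P ⊓ L : Subgroup G)) ≤ 4 := by nlinarith
  obtain rfl : m = 1 := by nlinarith
  rw [mul_one] at hm
  subst hm
  obtain ⟨b1, b2, rfl⟩ := arith hl h3 cl.odd (hD.imp_left And.left) (hi ▸ hd)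
  exact ⟨w4, b1, by rw [b1, (hD.resolve_right (by norm_num)).2], b2⟩

end Cfsg.Agent.P15.N7
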