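/-
P15, chapter NM: the centralizer of the involution is not maximal.
-/
import Cfsg.Agent.P15.NM1

set_option autoImplicit false
set_option linter.unusedSectionVars false

namespace Cfsg.Agent.P15

open Subgroup Cfsg Cfsg.Agent Cfsg.Agent.FT
open Cfsg.Agent.H2 (pPrimeCoreOf layerOf fstarOf)
open Cfsg.Agent.P5 (V4 Tri inv_eq_of_sq cj)
open scoped commutatorElement

universe u

namespace N7

variable {G : Type u} [Group G] [Finite G] {U : Subgroup G} {y t s : G} {w : ℕ}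

/-- The two types of maximal overgroups. -/
def Ty (U M : Subgroup G) (y t s : G) : Prop := U ≤ 𝐂[s] ∧ (M ≤ 𝐍(VV t s) ∨
  ∃ L K k, CL M L K t ∧ CL2 M L K t k 3 ∧ s ∈ L ∧ s * y ∉ L ∧ kk U (s * y) = 3)

variable (h : DH ⊤ U y t s w)
include h

theorem dich (gf : GF G) (hA : ∀ W : Subgroup G, Odd 𝐨(W) → 𝐂[t] ≤ 𝐍(W) → W ≤ 𝐂[t])
    (hc : ¬ IsCoatom 𝐂[t]) {M : Subgroup G} (co : IsCoatom M) (hM : 𝐂[t] ≤ M) :
    w = 4 ∧ (Ty U M y t s ∨ Ty U M y t (s * y)) := by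
  have := gf.simple
  by_cases hE : layerOf M = ⊥
  · have := typ1 h gf.dc hA hM (fun e => hc (le_antisymm hM e ▸ co)) hE
    exact ⟨this.1, this.2.imp (fun e => ⟨e.1, .inl e.2⟩) fun e => ⟨e.1, .inl e.2⟩⟩
  obtain ⟨K, cl, h2⟩ := gf.kc M co.1 t (mem_layer h (hM (yH h)) hE) (t1 h) (tt h)
  generalize layerOf M = L at *
  have v := v4 h
  have v' := v4 (swap h)
  have nb : ¬ (s ∈ L ∧ s * y ∈ L) := fun e => by
    obtain ⟨a, ha, e1⟩ := cl.conj s e.1 v.s1 v.ss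
    obtain ⟨b, hb, e2⟩ := cl.conj _ e.2 v'.s1 v'.ss
    exact co.1 (eq_top h hM (cl.LR ha) (cl.LR hb) e1 e2)
  obtain ⟨k, l, c2⟩ := h2.resolve_right fun c7 => nb
    ⟨zpowers_le.1 (c7.two _ (zpowers_le.2 (hM (sH h))) (P5.isPGroup_zpowers_of_sq v.ss)),
      zpowers_le.1 (c7.two _ (zpowers_le.2 (hM (sH (swap h)))) (P5.isPGroup_zpowers_of_sq v'.ss))⟩
  obtain ⟨j, hj, vj⟩ := cl.ex
  rcases invol h (mem_cent1_iff_commute.2 vj.comm) vj.s1 vj.ss with e | ⟨g, hg, e | e⟩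
  · exact absurd e.symm vj.ts
  · have sL := (mem_normalizer_iff.1 (cl.nL (hM hg)) _).2 (e ▸ hj)
    obtain ⟨a1, a2, a3, rfl⟩ := typ2 h gf hM cl c2 sL fun e => nb ⟨sL, e⟩
    exact ⟨a1, .inl ⟨a2, .inr ⟨L, K, k, cl, c2, sL, fun e => nb ⟨sL, e⟩, a3⟩⟩⟩
  · have sL := (mem_normalizer_iff.1 (cl.nL (hM hg)) _).2 (e ▸ hj)
    have yL : s * y * y ∉ L := fun e => nb
      ⟨(mem_normalizer_iff.1 (cl.nL (inv_mem (hM (yH h)))) _).2 (syy h ▸ e), sL⟩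
    obtain ⟨a1, a2, a3, rfl⟩ := typ2 (swap h) gf hM cl c2 sL yL
    exact ⟨a1, .inr ⟨a2, .inr ⟨L, K, k, cl, c2, sL, yL, a3⟩⟩⟩

theorem H_ne (gf : GF G) : 𝐂[t] ≠ ⊤ := fun e => by
  obtain ⟨x, hx⟩ := tri h gf.dc
  exact hx.not_commute (v4 h) (mem_cent1_iff_commute.1 (e ▸ mem_top x)).symm

theorem not_cent (gf : GF G) (h1 : U ≠ ⊥) (hs : U ≤ 𝐂[s]) : ¬ U ≤ 𝐂[s * y] := fun e => by
  have := gf.simple
  obtain ⟨x, hx⟩ := tri h gf.dc
  obtain ⟨x', hx'⟩ := tri (swap h) gf.dc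
  have a := mem_norm_B h hx
  have b := mem_norm_B (swap h) hx'
  rw [inf_eq_left.2 hs] at a
  rw [inf_eq_left.2 e] at b
  exact P5.Mx.norm_ne_top h1 (fun e => H_ne h gf (top_le_iff.1 (e ▸ h.Ut)))
    (eq_top h (HU h) a b hx.1 hx'.1)

theorem B_bot (gf : GF G) (hs : U ≤ 𝐂[s]) (h5 : kk U (s * y) ≤ 5)
    (hT : ∀ M, IsCoatom M → 𝐂[t] ≤ M → Ty U M y t s) : U ⊓ 𝐂[s * y] = ⊥ := by
  have := gf.simple
  by_contra h0
  obtain ⟨x, hx⟩ := tri (swap h) gf.dc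
  obtain ⟨M, co, hM⟩ := P5.Mx.exists_coatom_norm (H_ne h gf) h0 (inf_le_left.trans h.Ut)
  have h1 : s ∈ 𝐂((U ⊓ 𝐂[s * y] : Subgroup G)) := mem_cent_iff_cent1.2 (inf_le_left.trans hs)
  have h2 : s * y ∈ 𝐂((U ⊓ 𝐂[s * y] : Subgroup G)) := mem_cent_iff_cent1.2 inf_le_right
  have xM := hM (mem_norm_B (swap h) hx)
  rcases (hT M co ((H_le h (norm_of_kk h.odd (swap h).ss (swap h).sU h5)
    (cent_le_norm _ ((mul_mem_cancel_left h1).1 h2)) (cent_le_norm _ h1)).trans hM)).2 with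
    e | ⟨L, K, k, cl, -, -, yL, -⟩
  · exact y_sq h ((v4 h).sq ((mul_mem_cancel_left V4.s_mem).1
      (hx.1 ▸ (mem_normalizer_iff.1 (e xM) t).1 V4.t_mem)))
  · exact yL (hx.1 ▸ (mem_normalizer_iff.1 (cl.nL xM) t).1 cl.tL)

theorem not_five (gf : GF G) (hs : U ≤ 𝐂[s]) (c5 : 𝐨(U) = 5) (w4 : w = 4)
    (hi : (𝐂[t] : Subgroup G).index = 189) {M : Subgroup G} (co : IsCoatom M) (hM : 𝐂[t] ≤ M)
    (hV : M ≤ 𝐍(VV t s)) : False := by
  have := gf.simple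
  have v := v4 h
  have h1 : U ≤ 𝐂(VV t s) := (cent_VV t s).symm ▸ le_inf h.Ut hs
  have h2 : 𝐍(U) = M := P5.Mx.norm_eq co (fun e => by simp [e] at c5) (h.Ut.trans hM) fun m hm =>
    mem_norm_of_conj_le (le_U h ((conj_le_of_mem_norm h1 (H1.le_normalizer_centralizer hV hm)).trans
      (cent_le_cent1 V4.t_mem)) (by rw [card_conj]; exact h.odd))
  have h3 : (𝐂[t] : Subgroup G).relIndex M ≤ 3 := by
    rw [← Ch.ncard_class]
    refine (Set.ncard_le_ncard (t := {t, s, t * s}) fun j hj => ?_).trans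
      ((Set.ncard_insert_le _ _).trans (Nat.succ_le_succ ((Set.ncard_insert_le _ _).trans
        (by rw [Set.ncard_singleton]))))
    obtain ⟨a, rfl, g, hg, rfl⟩ := mem_classSupp.1 hj
    exact (v.mem_iff.1 ((mem_normalizer_iff.1 (hV hg) _).1 V4.t_mem)).resolve_left
      (by simpa using v.t1)
  have h4 := relIndex_mul_index hM
  have h5 := relIndex_mul_index h.Ut
  have h6 := H1.card_mul_relIndex h.Ut
  rw [card_H h, w4, c5] at h6
  have := Fact.mk Nat.prime_five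
  obtain ⟨S, hS⟩ := IsSyl.exists_sylow_top Nat.prime_five (P := U) ⟨le_top,
    IsPGroup.of_card (c5.trans (pow_one 5).symm), by
      rw [relIndex_top_right, ← h5, hi, show U.relIndex 𝐂[t] = 8 by omega]; norm_num⟩
  have h7 := card_sylow_modEq_one 5 G
  rw [S.card_eq_index_normalizer] at h7
  change 𝐍((S : Subgroup G)).index ≡ 1 [MOD 5] at h7
  rw [hS, h2] at h7
  rw [hi] at h4
  generalize (𝐂[t] : Subgroup G).relIndex M = a at *
  unfold Nat.ModEq at h7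
  interval_cases a <;> omega

theorem not_two (gf : GF G) (hs : U ≤ 𝐂[s]) (c3 : 𝐨(U) = 3) (hG : Nat.card G = 2520)
    (h0 : U ⊓ 𝐂[s * y] = ⊥) {M L K : Subgroup G} {k : ℕ} (hM : 𝐂[t] ≤ M) (cl : CL M L K t)
    (c2 : CL2 M L K t k 3) (sL : s ∈ L) (yL : s * y ∉ L) : False := by
  have v := v4 h
  have v' := v4 (swap h)
  have h1 := cl.fld s sL v (c2.inv s (hM (sH h)) v) 3 Nat.prime_three (by norm_num) U
    (le_inf (h.Ut.trans hM) h.Ut) (IsPGroup.of_card (c3.trans (pow_one 3).symm))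
    (inf_le_right.trans (HU h))
  rw [inf_eq_left.2 hs] at h1
  obtain ⟨x, hx⟩ := tri (swap h) gf.dc
  obtain ⟨K', a1, a2, a3⟩ := c2.out _ (hM (sH (swap h))) yL v'
  obtain rfl : K' = U ^ᵍ x := H1.eq_of_le_of_card_le (le_conj h (hx.1 ▸ a1.trans inf_le_right)
    (by rw [a2]; decide)) (by rw [card_conj, a2, c3])
  have o1 : Odd 𝐨(U ^ᵍ x) := by rw [a2]; decide
  have c01 : U ≤ 𝐂(U ^ᵍ x) := h1.trans (cent_anti (a1.trans inf_le_left))
  have c12 : U ^ᵍ x ≤ 𝐂((U ^ᵍ x) ^ᵍ x) := conj_le_cent_iff.2 c01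
  have e2 : x * x * (s * y) * (x * x)⁻¹ = t := by rw [← hx.third v', ← hx.2]; group
  have c20 : (U ^ᵍ x) ^ᵍ x ≤ 𝐂(U) := by
    have := (conj_le_cent_iff (g := x)).2 c12
    have e3 : ((U ^ᵍ x) ^ᵍ x) ^ᵍ x = U := by
      rw [conj_conj (U ^ᵍ x), conj_conj]
      refine conj_eq_of_mem_norm (HU h (mem_cent1_iff_conj.2 ?_))
      rw [show x * x * x * t * (x * x * x)⁻¹ = x * x * (x * t * x⁻¹) * (x * x)⁻¹ by group, hx.1, e2]
    rwa [e3] at this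
  have d01 : U ⊓ U ^ᵍ x = ⊥ := eq_bot_iff.2 fun a ha =>
    (inf_cent_bot o1 v.tt a3).le ⟨ha.2, h.Ut ha.1⟩
  have iy := Cfsg.Agent.L.inverts_of_fpf v'.ss (swap h).sU fun a ha hc =>
    mem_bot.1 (h0.le ⟨ha, mem_cent1_iff_commute.2 hc⟩)
  have d2 : (U ⊔ U ^ᵍ x) ⊓ (U ^ᵍ x) ^ᵍ x = ⊥ := eq_bot_iff.2 fun g hg => by
    obtain ⟨a, ha, b, hb, rfl⟩ := (mem_sup_of_norm ((cent_comm.1 c01).trans (cent_le_norm _))).1 hg.1
    have i2 : t * (a * b) * t = (a * b)⁻¹ := by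
      have := hg.2
      rw [conj_conj] at this
      obtain ⟨c, hc, e⟩ := mem_conj'.1 this
      rw [← e, ← e2, conj_mul, conj_mul, iy c hc, conj_inv]
    have e3 : t * (a * b) * t = a * b⁻¹ := by
      rw [← a3 b hb, ← mul_assoc, mem_cent1.1 (h.Ut ha)]; group
    have e4 : a * a = 1 := by
      rw [e3, mul_inv_rev, ← (show Commute b a from mem_cent.1 (c01 ha) b hb).inv_inv.eq.symm,
        mul_left_inj] at i2
      nth_rewrite 1 [i2]; simp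
    rw [P5.eq_one_of_odd h.odd ha e4, one_mul] at hg ⊢
    have := conj_inf U (U ^ᵍ x) x
    rw [d01, conj_bot] at this
    exact this.ge ⟨hb, hg.2⟩
  have k1 := H1.card_sup_of_inf_eq_bot (c01.trans (cent_le_norm _)) d01
  have k2 := H1.card_sup_of_inf_eq_bot ((sup_le (cent_comm.1 c20) c12).trans (cent_le_norm _)) d2
  have k3 := card_subgroup_dvd_card (U ⊔ U ^ᵍ x ⊔ (U ^ᵍ x) ^ᵍ x)
  rw [k2, k1, card_conj (U ^ᵍ x), card_conj, c3, hG] at k3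
  norm_num at k3

theorem core (gf : GF G) (hA : ∀ W : Subgroup G, Odd 𝐨(W) → 𝐂[t] ≤ 𝐍(W) → W ≤ 𝐂[t])
    (hc : ¬ IsCoatom 𝐂[t]) (h1 : U ≠ ⊥) (hs : U ≤ 𝐂[s]) : A7 ⊤ U y t s := by
  have nc := not_cent h gf h1 hs
  have hT : ∀ M, IsCoatom M → 𝐂[t] ≤ M → Ty U M y t s := fun M co hM =>
    (dich h gf hA hc co hM).2.resolve_right fun e => nc e.1
  have o2 := Nat.odd_iff.1 (kk_odd h (s * y))
  obtain ⟨-, -, n1, -, n3, n5, -⟩ := gf.num _ _ _ _ h.pw (kk_odd h s) (kk_odd h _)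
    (gf.ch _ _ _ _ _ _ h)
  rw [kk_eq_one.2 hs] at n1 n3 n5
  rw [relIndex_top_right] at n3 n5
  have j1 := mt kk_eq_one.1 nc
  have h0 := B_bot h gf hs (by omega) hT
  have cU := H1.card_inf_mul_relIndex 𝐂[s * y] U
  rw [inf_comm, h0, card_bot, one_mul] at cU
  change kk U (s * y) = _ at cU
  obtain ⟨M, co, hM⟩ := mmax_exists (H_ne h gf)
  obtain j3 | j5 : kk U (s * y) = 3 ∨ kk U (s * y) = 5 := by omega
  swap
  · rcases (hT M co hM).2 with e | ⟨L, K, k, -, -, -, -, e⟩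
    · exact (not_five h gf hs (cU ▸ j5) (n5 j5).1 (n5 j5).2 co hM e).elim
    · omega
  obtain ⟨rfl, hi⟩ := n3 j3
  have hG : Nat.card G = 2520 := by
    rw [← (𝐂[t] : Subgroup G).card_mul_index, card_H h, hi, ← cU, j3]; rfl
  refine ⟨h, cU ▸ j3, hs, fun u hu => ?_, fun N hN _ => ?_, by rw [card_top, hG]⟩
  · have := L.inverts_of_fpf (swap h).ss (swap h).sU (fun a ha hc =>
      mem_bot.1 (h0.le ⟨ha, mem_cent1_iff_commute.2 hc⟩)) u hu
    rw [← mem_cent1_iff_conj.1 (mem_cent1_comm.1 (hs (inv_mem hu))), mul_assoc s y u,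
      ← inv_eq_of_sq (swap h).ss, mul_inv_rev, ← mul_assoc] at this
    simpa [mul_assoc] using congrArg (· * s) this
  · refine or_iff_not_imp_left.2 fun e => ?_
    obtain ⟨M, co, hM⟩ := mmax_exists e
    have hH := (top_inf_eq _).ge.trans (hN.trans hM)
    rcases (hT M co hH).2 with e | ⟨L, K, k, cl, c2, sL, yL, -⟩
    · exact hM.trans e
    · exact (not_two h gf hs (cU ▸ j3) hG h0 hH cl c2 sL yL).elim

end N7

theorem nmStmt : NMStmt.{u} := by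
  intro G _ _ gf U y t s w h hc hA
  refine or_iff_not_imp_left.2 fun h1 => ?_
  obtain ⟨M, co, hM⟩ := mmax_exists (N7.H_ne h gf)
  rcases (N7.dich h gf hA hc co hM).2 with e | e
  · exact ⟨s, N7.core h gf hA hc h1 e.1⟩
  · exact ⟨s * y, N7.core (N7.swap h) gf hA hc h1 e.1⟩

end Cfsg.Agent.P15
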