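/-
P15, chapter Split: more facts on the configuration `TD`.
-/
import Cfsg.Agent.P15.Count
import Cfsg.Agent.P15.Bas1

set_option autoImplicit false
set_option linter.unusedSectionVars false

namespace Cfsg.Agent.P15

open Subgroup Cfsg Cfsg.Agent Cfsg.Agent.FT
open Cfsg.Agent.P5 (V4 Tri inv_eq_of_sq eq_one_of_odd)
open scoped commutatorElement

universe u

variable {G : Type u} [Group G] [Finite G]

theorem relIndex_eq_card_inv {W Z : Subgroup G} {j : G} (hW : Odd 𝐨(W)) (jj : j * j = 1)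
    (jW : j ∈ 𝐍(W)) (hZ : ∀ z, z ∈ Z ↔ z ∈ W ∧ j * z * j = z⁻¹) :
    (𝐂[j] : Subgroup G).relIndex W = 𝐨(Z) := by
  have n : W ⊓ 𝐂[j] ≤ 𝐍(Z) := fun c hc => mem_norm_of_conj_le fun x hx => by
    obtain ⟨z, hz, rfl⟩ := mem_conj'.1 hx
    obtain ⟨h1, h2⟩ := (hZ z).1 hz
    refine (hZ _).2 ⟨mul_mem (mul_mem hc.1 h1) (inv_mem hc.1), ?_⟩
    have e := mem_cent1.1 hc.2
    have e' := mem_cent1.1 (inv_mem (mem_inf.1 hc).2)
    rw [← mul_assoc, ← mul_assoc, e, mul_assoc _ c⁻¹, ← e', conj_inv, ← h2]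
    group
  have sd : SdProd Z (W ⊓ 𝐂[j]) W := ⟨le_antisymm (sup_le (fun z hz => ((hZ z).1 hz).1) inf_le_left)
    fun c hc => by
      obtain ⟨x, hx, z, hz, h1, h2, rfl⟩ := P5.Mx.exists_cent_mul_inv hW jj jW hc
      exact mul_mem (mem_sup_right ⟨hx, mem_cent1_iff_commute.2 h1.symm⟩)
        (mem_sup_left ((hZ z).2 ⟨hz, h2⟩)), n, eq_bot_iff.2 fun z hz => by
      have h2 := ((hZ z).1 hz.1).2
      rw [mem_cent1.1 hz.2.2, mul_assoc, jj, mul_one] at h2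
      exact eq_one_of_odd hW hz.2.1 (mul_eq_one_iff_eq_inv.2 h2)⟩
  rw [← sd.relIndex_right, inf_relIndex_left]

theorem relIndex_cent_le {X Z : Subgroup G} {g₁ g₂ : G}
    (hf : ∀ c ∈ X, g₁ * c * g₁⁻¹ * (g₂ * c * g₂⁻¹)⁻¹ ∈ Z) :
    (𝐂[g₂⁻¹ * g₁] : Subgroup G).relIndex X ≤ 𝐨(Z) :=
  Nat.card_le_card_of_injective (fun c : X ⧸ (𝐂[g₂⁻¹ * g₁] : Subgroup G).subgroupOf X =>
    (⟨_, hf c.out c.out.2⟩ : Z)) fun c c' e => out_eq (by
      have e : g₁ * c.out * g₁⁻¹ * (g₂ * c.out * g₂⁻¹)⁻¹ =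
        g₁ * c'.out * g₁⁻¹ * (g₂ * c'.out * g₂⁻¹)⁻¹ := congrArg Subtype.val e
      refine (cent1_inv _).le (mem_cent1_iff_conj.2 ?_)
      calc _ = (c.out : G)⁻¹ * g₁⁻¹ * (g₁ * c'.out * g₁⁻¹ * (g₂ * c'.out * g₂⁻¹)⁻¹) * g₂ * c.out := by
            group
        _ = _ := by rw [← e]; group)

theorem eq_one_of_inv {W : Subgroup G} (hW : Odd 𝐨(W)) {j z : G} (jj : j * j = 1) (hz : z ∈ W)
    (h1 : j * z * j = z⁻¹) (h2 : z ∈ 𝐂[j]) : z = 1 := by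
  rw [mem_cent1.1 h2, mul_assoc, jj, mul_one] at h1
  exact eq_one_of_odd hW hz (mul_eq_one_iff_eq_inv.2 h1)

namespace TD

variable {U L K : Subgroup G} {y t s a b : G} {w p k l : ℕ} (h : TD U L K y t s a b w p k l)
include h

local notation "𝐄" => (zpowers a ⊔ zpowers b : Subgroup G)
local notation "𝐐" => pCoreOf p U

theorem KU : K ≤ U := fun _ hc => h.mem_U (h.cl.KL hc).2
  (h.cl.odd.of_dvd_nat (orderOf_dvd_card_of_mem hc))

theorem bs : zpowers b ≤ 𝐂[s] := zpowers_le.2 h.hb.2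

theorem bP : zpowers b ≤ 𝐐 ⊓ 𝐂[s] := zpowers_le.2 h.hb

theorem K_s {c : G} (hc : c ∈ K) (hs : c ∈ 𝐂[s]) : c = 1 :=
  eq_one_of_inv h.cl.odd h.ss hc (h.inv_K hc) hs

theorem mem_K {g : G} (hg : g ∈ U) (gR : g ∈ 𝐍(L)) (e : s * g * s = g⁻¹) : g ∈ K :=
  h.cl.mem s h.sL h.v4 g ⟨gR, h.dh.Ut hg⟩ (h.dh.odd_of_mem hg) e

theorem PR : 𝐐 ⊓ 𝐂[s] ≤ 𝐍(L) := h.PL.trans (cent_le_norm L)

theorem mem_b {g : G} (hg : g ∈ 𝐐 ⊓ 𝐂[s]) (e : g ^ p = 1) : g ∈ zpowers b := by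
  obtain ⟨x, hx, c, hc, rfl⟩ := (mem_sup_of_norm (h.ab.trans (cent_le_norm _))).1
    (h.om g ⟨hg.1, h.PR hg⟩ e)
  rwa [h.K_s (zpowers_le.2 h.ha.1 hx) ((mul_mem_cancel_right (h.bs hc)).1 hg.2), one_mul]

theorem b_mem {g : G} (hg : g ∈ 𝐐 ⊓ 𝐂[s]) (g1 : g ≠ 1) : b ∈ zpowers g := by
  obtain ⟨z, hz, oz⟩ := exists_mem_orderOf_eq_prime h.pp (prime_dvd_card_of_isPGroup h.pp
    ((H2.isPGroup_pCoreOf p U).to_le (zpowers_le.2 hg.1)) (zpowers_ne_bot.2 g1))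
  have := zpowers_eq_of_card_prime (h.card_b ▸ h.pp)
    (h.mem_b (zpowers_le.2 hg hz) (oz ▸ pow_orderOf_eq_one z))
    fun e => h.pp.one_lt.ne (by rw [← oz, e, orderOf_one])
  exact zpowers_le.2 hz (this ▸ mem_zpowers b)

theorem not_QR : ¬ 𝐐 ≤ 𝐍(L) := fun e =>
  h.not_normal (((h.HQ h.pp).trans_eq (by rw [inf_of_le_left e])).trans h.norm_E)

theorem core_cent {r : ℕ} (hr : r.Prime) (ne : r ≠ p) : pCoreOf r U ≤ 𝐂(𝐐) := by
  rw [pCoreOf_eq hr, pCoreOf_eq h.pp]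
  exact piCoreOf_le_cent (Set.disjoint_singleton.2 ne) U

theorem core_le_K {r : ℕ} (hr : r.Prime) (ne : r ≠ p) : pCoreOf r U ≤ K := fun g hg => by
  obtain ⟨c, hc, e, he, rfl⟩ := h.dec r hr g ⟨hg, h.cb (cent_le_cent1 h.hb.1 (h.core_cent hr ne hg))⟩
  have : pCoreOf r U ⊓ 𝐂(L) = ⊥ := by
    by_contra h1
    exact h.not_QR ((cent_comm.1 (inf_le_left.trans (h.core_cent hr ne))).trans
      ((cent_le_norm _).trans (h.nx _ (inf_le_inf_right _ (H2.pCoreOf_le_fittingOf hr U)) h1)))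
  rw [this, mem_bot] at hc
  rw [hc, one_mul]
  exact he.1

theorem prime_eq {g : G} {r : ℕ} (hg : g ∈ fittingOf U) (hr : r.Prime) (og : orderOf g = r)
    (gK : g ∉ K) : r = p := by
  by_contra ne
  refine gK (h.core_le_K hr ne ?_)
  rw [← pCoreOf_fittingOf hr, pCoreOf_eq hr]
  exact zpowers_le.1 (le_piCoreOf_of_isNilpotent inferInstance (zpowers_le.2 hg)
    (isPi_of_card_prime hr (by rw [Nat.card_zpowers, og]) rfl))

theorem isP {W : Subgroup G} (hW : ∀ g ∈ W, (orderOf g).Prime → orderOf g ≠ p → g ∈ fittingOf U)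
    (h0 : ∀ g ∈ W, g ∈ K → g = 1) : IsPGroup p W :=
  (isPi_singleton_iff h.pp).1 fun r hr hd => by
    obtain ⟨g, hg, rfl⟩ := exists_mem_orderOf_eq_prime hr hd
    by_contra ne
    exact ne (h.prime_eq (hW g hg hr ne) hr rfl fun e => hr.one_lt.ne (by
      rw [h0 g hg e, orderOf_one]))

theorem le_Q {W : Subgroup G} (hW : W ≤ fittingOf U) (h0 : ∀ g ∈ W, g ∈ K → g = 1) : W ≤ 𝐐 := by
  rw [← pCoreOf_fittingOf h.pp, pCoreOf_eq h.pp]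
  exact le_piCoreOf_of_isNilpotent inferInstance hW
    ((isPi_singleton_iff h.pp).2 (h.isP (fun g hg _ _ => hW hg) h0))

theorem solvU : Group.IsSolvable U := H1.isSolvable_of_le h.dh.UH h.dh.solv

theorem norm_P : 𝐍((𝐐 ⊓ 𝐂[s] : Subgroup G)) ≤ 𝐍(L) :=
  h.nb ▸ norm_le_norm_of_le_cyclic h.cyc h.bP

theorem BR : U ⊓ 𝐂[s] ≤ 𝐍(L) :=
  (H1.le_normalizer_inf (inf_le_left.trans (h.dh.Ut.trans (h.HQ h.pp)))
    (inf_le_right.trans (le_norm_self _))).trans h.norm_P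

theorem N_dvd : (k + l) * l ∣ (𝐍(L) : Subgroup G).relIndex 𝐂[t] * (𝐂[t] : Subgroup G).index := by
  have e : (𝐍(L) ⊓ 𝐂[t]) ⊔ L = 𝐍(L) := le_antisymm (sup_le inf_le_left h.cl.LR) fun g hg => by
    obtain ⟨x, hx, e⟩ := h.cl.conj _ (cjn hg h.cl.tL) (fun e => h.t1 (conj_eq_one_iff.1 e))
      (conj_sq h.tt)
    have : x⁻¹ * g ∈ 𝐍(L) ⊓ 𝐂[t] := mem_inf.2 ⟨mul_mem (inv_mem (h.cl.LR hx)) hg,
      mem_cent1_iff_conj.2 (by
        rw [show x⁻¹ * g * t * (x⁻¹ * g)⁻¹ = x⁻¹ * (g * t * g⁻¹) * x by group, ← e]; group)⟩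
    simpa using mul_mem (mem_sup_right hx) (mem_sup_left this)
  have h1 := H8.relIndex_eq_relIndex_sup (𝐍(L) ⊓ 𝐂[t]) L inf_le_left
  rw [e, ← inf_relIndex_left L, ← inf_assoc, inf_of_le_left h.cl.LR, inf_relIndex_left,
    h.c2.idx] at h1
  rw [← inf_relIndex_right 𝐍(L), relIndex_mul_index inf_le_right,
    ← relIndex_mul_index (inf_le_left : 𝐍(L) ⊓ 𝐂[t] ≤ 𝐍(L)), ← h1]
  exact Dvd.intro _ rfl

theorem coprime_N : ((k + l) * l).Coprime 𝐨(fittingOf U) := by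
  have h1 : l.Coprime k := by
    rcases h.c2.num with e | e
    · simp [e]
    · simp [← e]
  have h2 : ((k + l) * l).Coprime k := Nat.Coprime.mul_left (by simpa using h1) h1
  refine Nat.coprime_of_dvd fun r hr d1 d2 => ?_
  obtain ⟨g, hg, og⟩ := exists_mem_orderOf_eq_prime hr d2
  have : r ∣ 𝐨(K) := by
    by_cases gK : g ∈ K
    · exact og ▸ orderOf_dvd_card_of_mem gK
    · exact h.prime_eq hg hr og gK ▸ h.p_dvd
  exact hr.one_lt.ne' (Nat.eq_one_of_dvd_coprimes h2 d1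
    (this.trans ((Dvd.intro_left _ rfl).trans h.c2.dvd)))

theorem N_ge : 55 ≤ (k + l) * l := by
  have := h.two_p
  have := h.three_le
  rcases h.c2.num with e | e <;> nlinarith

end TD

end Cfsg.Agent.P15
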