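/-
P15, chapter Split.
-/
import Cfsg.Agent.P15.Split1

set_option autoImplicit false
set_option linter.unusedSectionVars false

namespace Cfsg.Agent.P15

open Subgroup Cfsg Cfsg.Agent Cfsg.Agent.FT
open Cfsg.Agent.P5 (V4 Tri inv_eq_of_sq eq_one_of_odd)
open scoped commutatorElement

universe u

variable {G : Type u} [Group G] [Finite G]

/-- A counterexample to `SplitStmt`. -/
structure SP (U L K Y : Subgroup G) (y t s a b : G) (w p k l : ℕ) : Prop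
    extends TD U L K y t s a b w p k l where
  ex : Ex U Y t p
  bY : b ∉ Y
  Ya : ¬ Y ≤ zpowers a

namespace SP

variable {U L K Y : Subgroup G} {y t s a b : G} {w p k l : ℕ} (h : SP U L K Y y t s a b w p k l)
include h

local notation "𝐐" => pCoreOf p U
local notation "𝐀" => (fittingOf U ⊓ 𝐂(Y) : Subgroup G)

theorem YU : Y ≤ U := h.ex.1.trans h.QU

theorem invY : ∀ g ∈ Y, s * g * s = g⁻¹ :=
  Cfsg.Agent.L.inverts_of_fpf h.ss (h.ex.2.1 h.sH) fun g hg hc => by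
    by_contra g1
    exact h.bY (zpowers_le.2 hg (h.b_mem ⟨h.ex.1 hg, mem_cent1_iff_commute.2 hc⟩ g1))

theorem not_YR : ¬ Y ≤ 𝐍(L) := fun e => h.Ya fun g hg => by
  obtain ⟨x, hx, c, hc, rfl⟩ := (mem_sup_of_norm (h.ab.trans (cent_le_norm _))).1
    (h.om g ⟨h.ex.1 hg, e hg⟩ (h.ex.2.2 g hg))
  rwa [h.K_s ((mul_mem_cancel_left (zpowers_le.2 h.ha.1 hx)).1
    (h.mem_K (h.YU hg) (e hg) (h.invY _ hg))) (h.bs hc), mul_one]

theorem bC : b ∉ 𝐂(Y) := fun e => h.not_YR ((mem_cent_iff_cent1.1 e).trans h.cb)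

theorem AU : 𝐀 ≤ U := inf_le_left.trans (H2.fittingOf_le U)

theorem HA : 𝐂[t] ≤ 𝐍(𝐀) :=
  H1.le_normalizer_inf (h.HU.trans (H2.normalizer_le_normalizer_fittingOf U))
    (H1.le_normalizer_centralizer h.ex.2.1)

theorem invA : ∀ g ∈ 𝐀, s * g * s = g⁻¹ :=
  Cfsg.Agent.L.inverts_of_fpf h.ss (h.HA h.sH) fun g hg hc => by
    by_contra g1
    have gs : g ∈ 𝐂[s] := mem_cent1_iff_commute.2 hc
    have := h.le_Q (W := 𝐀 ⊓ 𝐂[s]) (inf_le_left.trans inf_le_left) (fun _ hx e => h.K_s e hx.2)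
      ⟨hg, gs⟩
    exact h.bC (zpowers_le.2 hg.2 (h.b_mem ⟨this, gs⟩ g1))

theorem comm_le : ⁅U, zpowers s⁆ ≤ 𝐀 := by
  have hn : ⁅U, zpowers s⁆ ⊲ U := ⟨comm_le_left_iff.2 (zpowers_le.2 h.dh.sU), by
    rw [commutator_comm]; exact H1.le_normalizer_commutator_self⟩
  have h1 : ⁅U, zpowers s⁆ ≤ 𝐂(Y) :=
    P5.Mx.comm_le_cent_of_inverts h.ss (h.ex.2.1 h.sH) h.invY (h.dh.Ut.trans h.ex.2.1)
  have h2 : ⁅U, zpowers s⁆ ≤ 𝐂(𝐀) :=
    P5.Mx.comm_le_cent_of_inverts h.ss (h.HA h.sH) h.invA (h.dh.Ut.trans h.HA)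
  have h3 : fittingOf ⁅U, zpowers s⁆ ≤ 𝐀 :=
    le_inf (fittingOf_le_of_normal hn) ((H2.fittingOf_le _).trans h1)
  exact ((le_inf le_rfl (h2.trans (cent_anti h3))).trans
    (cent_fittingOf_le (H1.isSolvable_of_le hn.1 h.solvU))).trans h3

theorem mem_A (z : G) : z ∈ 𝐀 ↔ z ∈ U ∧ s * z * s = z⁻¹ := by
  refine ⟨fun hz => ⟨h.AU hz, h.invA z hz⟩, fun ⟨h1, h2⟩ => h.comm_le ?_⟩
  have := P5.comm_eq_of_inv (W := zpowers z) (by rw [Nat.card_zpowers]; exact h.dh.odd_of_mem h1)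
    h.ss fun _ hx => inv_zp h.ss h2 hx
  exact commutator_mono (zpowers_le.2 h1) le_rfl (this.ge (mem_zpowers z))

theorem invA' {z : G} (hz : z ∈ 𝐀) : s * z * s⁻¹ = z⁻¹ := by rw [inv_eq_of_sq h.ss, h.invA z hz]

theorem comm_A {x z : G} (hx : x ∈ 𝐀) (hz : z ∈ 𝐀) : x * z = z * x := by
  have e := h.invA' (mul_mem hz hx)
  rw [← conj_mul, h.invA' hz, h.invA' hx, ← mul_inv_rev] at e
  exact inv_injective e

theorem k1 : kk U s = 𝐨(𝐀) := relIndex_eq_card_inv h.dh.odd h.ss h.dh.sU h.mem_A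

theorem dec_U {u : G} (hu : u ∈ U) : ∃ x ∈ U ⊓ 𝐂[s], ∃ z ∈ 𝐀, u = x * z := by
  obtain ⟨x, hx, z, hz, h1, h2, e⟩ := P5.Mx.exists_cent_mul_inv h.dh.odd h.ss h.dh.sU hu
  exact ⟨x, ⟨hx, mem_cent1_iff_commute.2 h1.symm⟩, z, (h.mem_A z).2 ⟨hz, h2⟩, e⟩

theorem ys : y * s = s * y⁻¹ := by
  rw [← h.dh.inv, ← mul_assoc, ← mul_assoc, h.ss, one_mul]

theorem yyA {z : G} (hz : z ∈ 𝐀) : z ∈ 𝐂[y * y] := by
  have e := h.invA _ (cjn (h.HA h.yH) hz)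
  have e' : s * y⁻¹ * s = y := by rw [← h.ys, mul_assoc, h.ss, mul_one]
  rw [show s * (y * z * y⁻¹) * s = s * y * s * (s * s)⁻¹ * (s * z * s) * (s * s)⁻¹ * (s * y⁻¹ * s) by
    group, h.dh.inv, h.invA z hz, e', h.ss] at e
  refine inv_mem_iff.1 (mem_cent1.2 ?_)
  calc y * y * z⁻¹ = y * (y * z * y⁻¹)⁻¹ * y := by group
    _ = _ := by rw [← e]; group

theorem yy : U ≤ 𝐂[y * y] := fun u hu => by
  obtain ⟨x, hx, z, hz, rfl⟩ := h.dec_U hu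
  refine mul_mem ?_ (h.yyA hz)
  have h1 : x * (y * y) * x⁻¹ * (y * y)⁻¹ ∈ 𝐀 := by
    have h2 := cjn (h.HA h.yH) (h.comm_le (commutator_mem_commutator (cjn' h.dh.yU hx.1)
      (mem_zpowers s)))
    have e1 : y * s * y⁻¹ = y * y * s := by rw [mul_assoc, ← h.ys, mul_assoc]
    have e2 : s * x⁻¹ * s⁻¹ = x⁻¹ := mem_cent1_iff_conj.1 (mem_cent1_comm.1 (inv_mem (mem_inf.1 hx).2))
    rwa [show y * ⁅y⁻¹ * x * y, s⁆ * y⁻¹ = x * (y * s * y⁻¹) * x⁻¹ * (y * s * y⁻¹)⁻¹ by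
      rw [commutatorElement_def]; group, e1, show x * (y * y * s) * x⁻¹ * (y * y * s)⁻¹ =
      x * (y * y) * (s * x⁻¹ * s⁻¹) * (y * y)⁻¹ by group, e2] at h2
  have h3 : (y * y) ^ w = 1 := by rw [← sq, ← pow_mul, mul_comm, pow_mul, ← h.dh.ord]; simp
  have h4 := Commute.mul_pow (mem_cent1_iff_commute.1 (h.yyA h1)).symm w
  rw [inv_mul_cancel_right, conj_pow, h3] at h4
  obtain ⟨n, hn⟩ := h.dh.pw
  have h5 : orderOf (x * (y * y) * x⁻¹ * (y * y)⁻¹) = 1 := Nat.eq_one_of_dvd_coprimes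
    (Nat.Coprime.pow_right _ (Nat.coprime_two_right.2 (h.dh.odd_of_mem (h.AU h1)))) dvd_rfl
    (orderOf_dvd_of_pow_eq_one (n := 2 ^ (n + 2)) (by rw [← hn]; simpa using h4.symm))
  exact mem_cent1_iff_conj.2 (mul_inv_eq_one.1 (orderOf_eq_one_iff.1 h5))

theorem conj_s {x : G} (hx : x ∈ U ⊓ 𝐂[s]) : y * x * y⁻¹ ∈ 𝐂[s] := by
  have e : y * (s * (y * y)) * y⁻¹ = s := by rw [← mul_assoc, h.ys]; group
  rw [← e, cent1_conj, conj_mem_conj_iff]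
  exact mem_cent1_comm.1 (mul_mem (mem_cent1_comm.1 hx.2) (mem_cent1_comm.1 (h.yy hx.1)))

theorem yR : y ∈ 𝐍(L) := h.norm_P (mem_norm_of_conj_le fun _ hx => by
  obtain ⟨z, hz, rfl⟩ := mem_conj'.1 hx
  exact ⟨cjn (h.HQ h.pp h.yH) hz.1, h.conj_s ⟨h.QU hz.1, hz.2⟩⟩)

theorem inv_K2 {c : G} (hc : c ∈ K) : s * y * c * (s * y) = c⁻¹ :=
  h.c2.inv _ (mul_mem (h.cl.LR h.sL) h.yR) h.dh.swap.v4 c hc

theorem sy_eq : s * y = y⁻¹ * s := by rw [← h.dh.inv, mul_assoc, h.ss, mul_one]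

theorem yK : y ∈ 𝐂(K) := mem_cent.2 fun c hc => by
  have e := (h.inv_K2 hc).trans (h.inv_K hc).symm
  rw [mul_assoc s, mul_assoc s, mul_assoc s, mul_right_inj, h.sy_eq, ← mul_assoc,
    mul_left_inj] at e
  exact (mul_inv_eq_iff_eq_mul.1 e).symm

theorem P_le : 𝐐 ⊓ 𝐂[s] ≤ zpowers b := fun g hg => by
  have PY : 𝐐 ⊓ 𝐂[s] ≤ 𝐍(Y) := inf_le_left.trans (h.QH.trans h.ex.2.1)
  have h0 : (Y ⊔ 𝐐 ⊓ 𝐂[s]) ⊓ 𝐍(L) < Y ⊔ 𝐐 ⊓ 𝐂[s] := lt_of_le_of_ne inf_le_left fun e =>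
    h.not_YR (le_sup_left.trans (e.ge.trans inf_le_right))
  obtain ⟨u, ⟨hu, un⟩, h1⟩ := SetLike.exists_of_lt (lt_inf_norm_of_isNilpotent
    (isNilpotent_of_isPGroup h.pp ((H2.isPGroup_pCoreOf p U).to_le (sup_le h.ex.1 inf_le_left))) h0)
  obtain ⟨c, hc, x, hx, rfl⟩ := (mem_sup_of_norm PY).1 hu
  have cn : c ∈ 𝐍(((Y ⊔ 𝐐 ⊓ 𝐂[s]) ⊓ 𝐍(L) : Subgroup G)) :=
    (mul_mem_cancel_right (le_normalizer (mem_inf.2 ⟨mem_sup_right hx, h.PR hx⟩))).1 un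
  have h2 : c * g * c⁻¹ * g⁻¹ ∈ Y := by
    rw [mul_assoc c, mul_assoc c]
    exact mul_mem hc (cjn (PY hg) (inv_mem hc))
  have h3 : c * g * c⁻¹ * g⁻¹ ∈ K := h.mem_K (h.YU h2)
    (mul_mem (cjn cn (mem_inf.2 ⟨mem_sup_right hg, h.PR hg⟩)).2 (inv_mem (h.PR hg))) (h.invY _ h2)
  have h4 := Commute.mul_pow (mem_cent.1 (h.PL hg) _ (h.cl.KL h3).1) p
  rw [inv_mul_cancel_right, conj_pow, h.ex.2.2 _ h2, one_mul] at h4
  refine h.mem_b hg (by_contra fun g1 => h1 ⟨hu, mul_mem (h.cb ?_) (h.PR hx)⟩)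
  exact cent1_le_cent1_of_mem_zpowers (h.b_mem (pow_mem hg p) g1) (mem_cent1_iff_conj.2 h4)

theorem centF {x : G} (xH : x ∈ 𝐂[t]) (xb : x ∈ 𝐂[b]) (xK : x ∈ 𝐂(K))
    (hc : ¬ p ∣ orderOf x) : x ∈ 𝐂(fittingOf U) := by
  refine zpowers_le.1 (P5.Mx.le_cent_fittingOf fun r hr => ?_)
  by_cases e : r = p
  swap
  · exact zpowers_le.2 (cent_anti (h.core_le_K hr e) xK)
  subst e
  have := Fact.mk hr
  have pQ := H2.isPGroup_pCoreOf r U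
  obtain ⟨n, hn⟩ := exists_card_eq_pow hr pQ
  refine H1.pxq_lemma (P := zpowers b) (isPGroup_of_card_prime h.card_b) pQ
    ((zpowers_le.2 h.hb.1).trans le_normalizer) (zpowers_le.2 (h.HQ hr xH))
    (by rw [cent_zpowers]; exact zpowers_le.2 (mem_cent1_comm.1 xb))
    (by rw [hn, Nat.card_zpowers]
        exact Nat.Coprime.pow_right _ ((Nat.Prime.coprime_iff_not_dvd hr).2 hc).symm) fun g hg => ?_
  rw [cent_zpowers] at hg ⊢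
  obtain ⟨c, hc, e, he, rfl⟩ := h.dec r hr g ⟨hg.1, h.cb hg.2⟩
  exact mul_mem (zpowers_le.2 (mem_cent1_comm.1 xb) (h.P_le ⟨hc.1, cent_le_cent1 h.sL hc.2⟩))
    (mem_cent_iff_cent1.1 xK he.1)

theorem m_eq : (𝐍(L) : Subgroup G).relIndex 𝐂[t] = (𝐍(L) : Subgroup G).relIndex 𝐀 := by
  have AH : 𝐀 ≤ 𝐂[t] := h.AU.trans h.dh.Ut
  have e : (𝐍(L) ⊓ 𝐂[t]) ⊔ 𝐀 = 𝐂[t] := le_antisymm (sup_le inf_le_right AH) fun g hg => by
    have h1 : U ≤ (𝐍(L) ⊓ 𝐂[t]) ⊔ 𝐀 := fun u hu => by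
      obtain ⟨x, hx, z, hz, rfl⟩ := h.dec_U hu
      exact mul_mem (mem_sup_left ⟨h.BR hx, h.dh.Ut hx.1⟩) (mem_sup_right hz)
    have h2 : zpowers y ≤ (𝐍(L) ⊓ 𝐂[t]) ⊔ 𝐀 := zpowers_le.2 (mem_sup_left ⟨h.yR, h.yH⟩)
    obtain ⟨u, hu, z, hz, rfl | rfl⟩ := h.dh.cover g ⟨mem_top g, hg⟩
    · exact mul_mem (h1 hu) (h2 hz)
    · exact mul_mem (mul_mem (h1 hu) (h2 hz)) (mem_sup_left ⟨h.cl.LR h.sL, h.sH⟩)
  have h1 := H8.relIndex_eq_relIndex_sup (𝐍(L) ⊓ 𝐂[t]) 𝐀 (inf_le_right.trans h.HA)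
  rw [e, inf_relIndex_right, ← inf_relIndex_right _ 𝐀, inf_assoc, inf_of_le_right AH,
    inf_relIndex_right] at h1
  exact h1.symm

theorem N_dvd' {c j : ℕ} (hj : j ∣ kk U s) (e : (𝐂[t] : Subgroup G).index = c * j ^ 2) :
    (k + l) * l ∣ c := by
  have h0 : ((k + l) * l).Coprime 𝐨(𝐀) :=
    h.coprime_N.coprime_dvd_right (Subgroup.card_dvd_of_le inf_le_left)
  have h1 := h.N_dvd
  rw [h.m_eq, e] at h1
  exact ((h0.coprime_dvd_right (h.k1 ▸ hj)).pow_right 2).dvd_of_dvd_mul_right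
    ((h0.coprime_dvd_right (relIndex_dvd_card' _ _)).dvd_of_dvd_mul_left h1)

theorem not_cent : y ∉ 𝐂[b] := fun e => by
  obtain ⟨n, hn⟩ := h.dh.pw
  have h1 := h.centF h.yH e h.yK fun d => h.p2 ((Nat.prime_dvd_prime_iff_eq h.pp Nat.prime_two).1
    (h.pp.dvd_of_dvd_pow (by rwa [h.dh.ord, hn] at d)))
  have h2 := coprime_cent_fitting h.dh.KU (by
    rw [Nat.card_zpowers, h.dh.ord, hn]
    exact Nat.Coprime.pow_left _ (Nat.coprime_two_left.2 h.dh.odd)) h.solvU (zpowers_le.2 h1)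
  rcases h.gf.ca U y t s w h.dh (h2 (mem_zpowers y)) with h3 | h3
  · exact h.bC (h.comm_le (h3.ge (h.QU h.hb.1))).2
  · have := Nat.le_of_dvd (by norm_num) (h.N_dvd' dvd_rfl h3.2)
    have := h.N_ge
    omega

theorem inv_b : y * b * y⁻¹ = b⁻¹ := by
  have h1 := h.conj_b h.yR
  by_contra ne
  have h2 := cent1_eq_of_card_prime (h.card_b ▸ h.pp) (mul_mem h1 (mem_zpowers b))
    fun e => ne (eq_inv_of_mul_eq_one_left e)
  refine h.not_cent ?_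
  rw [← cent_zpowers, ← h2, mem_cent1_iff_conj, ← conj_mul, (comm_zp h1 (mem_zpowers b)).eq]
  congr 1
  have := mem_cent1_iff_conj.1 (mem_cent1_comm.1 (h.yy (h.QU h.hb.1)))
  rw [← mul_assoc, ← mul_assoc]
  simpa [mul_assoc] using this

theorem D_le : U ⊓ 𝐂[s] ⊓ (𝐂[b] ⊓ 𝐂(K)) ≤ zpowers b := by
  have pD : IsPGroup p (U ⊓ 𝐂[s] ⊓ (𝐂[b] ⊓ 𝐂(K)) : Subgroup G) :=
    h.isP (fun g hg hr ne => cent_fittingOf_le h.solvU ⟨hg.1.1, h.centF (h.dh.Ut hg.1.1) hg.2.1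
      hg.2.2 fun d => ne ((Nat.prime_dvd_prime_iff_eq h.pp hr).1 d).symm⟩) fun g hg e =>
        h.K_s e hg.1.2
  have UQ : U ≤ 𝐍(𝐐) := h.dh.Ut.trans (h.HQ h.pp)
  have DU : U ⊓ 𝐂[s] ⊓ (𝐂[b] ⊓ 𝐂(K)) ≤ U := inf_le_left.trans inf_le_left
  have h1 : fittingOf U ≤ 𝐍((U ⊓ 𝐂[s] ⊓ (𝐂[b] ⊓ 𝐂(K)) ⊔ 𝐐 : Subgroup G)) := by
    rw [H2.fittingOf_eq_iSup_pCoreOf]
    refine iSup_le fun r => ?_
    by_cases e : r.1 = p
    · rw [e]
      exact le_sup_right.trans le_normalizer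
    · exact H1.le_normalizer_sup ((h.core_le_K r.2 e).trans ((cent_comm.1
        (inf_le_right.trans inf_le_right)).trans (cent_le_norm _))) ((H2.pCoreOf_le _ _).trans UQ)
  have h2 : U ⊓ 𝐂[s] ≤ 𝐍((U ⊓ 𝐂[s] ⊓ (𝐂[b] ⊓ 𝐂(K)) ⊔ 𝐐 : Subgroup G)) := by
    refine H1.le_normalizer_sup (H1.le_normalizer_inf le_normalizer (H1.le_normalizer_inf ?_
      (H1.le_normalizer_centralizer ((le_inf h.BR (inf_le_left.trans h.dh.Ut)).trans h.cl.nK))))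
      (inf_le_left.trans UQ)
    rw [← cent_zpowers b]
    exact H1.le_normalizer_centralizer (h.nb ▸ h.BR)
  have h3 := le_pCoreOf ⟨sup_le DU h.QU, fun u hu => by
    obtain ⟨x, hx, z, hz, rfl⟩ := h.dec_U hu
    exact mul_mem (h2 hx) (h1 hz.1)⟩ (isPGroup_sup pD (H2.isPGroup_pCoreOf p U) (DU.trans UQ))
  exact (le_inf (le_sup_left.trans h3) (inf_le_left.trans inf_le_right)).trans h.P_le

theorem idx1 : (𝐂[s * y] : Subgroup G).relIndex (U ⊓ 𝐂[s]) = p := by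
  have jj := h.dh.swap.ss
  rw [← h.card_b]
  refine relIndex_eq_card_inv h.dh.odd_B jj (mul_mem (mem_norm_of_conj_le ?_) (mem_norm_of_conj_le ?_))
    fun z => ⟨fun hz => ⟨⟨h.QU (h.bP hz).1, h.bs hz⟩, inv_zp jj ?_ hz⟩, fun ⟨h1, h2⟩ => h.D_le ⟨h1, ?_⟩⟩
  · exact conj_le_of_mem_norm le_rfl (P5.mem_norm_inf h.dh.sU (le_normalizer (self_mem_cent1 s)))
  · intro _ hx
    obtain ⟨z, hz, rfl⟩ := mem_conj'.1 hx
    exact ⟨cjn h.dh.yU hz.1, h.conj_s hz⟩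
  · nth_rewrite 2 [h.sy_eq]
    rw [show s * y * b * (y⁻¹ * s) = s * (y * b * y⁻¹) * s by group, h.inv_b,
      mem_cent1.1 (inv_mem h.hb.2), mul_assoc, h.ss, mul_one]
  · have h3 := P5.comm_eq_of_inv (W := zpowers z)
      (by rw [Nat.card_zpowers]; exact h.dh.odd_of_mem h1.1) jj fun _ hx => inv_zp jj h2 hx
    have n1 : zpowers z ≤ 𝐍(L) ⊓ 𝐂[t] := zpowers_le.2 ⟨h.BR h1, h.dh.Ut h1.1⟩
    have n2 : zpowers (s * y) ≤ 𝐍(L) ⊓ 𝐂[t] :=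
      zpowers_le.2 (mem_inf.2 ⟨mul_mem (h.cl.LR h.sL) h.yR, mul_mem h.sH h.yH⟩)
    have := h.cl.cyc
    rw [← cent_zpowers b]
    exact (le_inf (H6.commutator_le_centralizer_of_isCyclic (h.nb ▸ n1.trans inf_le_left)
      (h.nb ▸ n2.trans inf_le_left)) (H6.commutator_le_centralizer_of_isCyclic (n1.trans h.cl.nK)
      (n2.trans h.cl.nK))) (h3.ge (mem_zpowers z))

theorem idx2 : (𝐂[s] : Subgroup G).relIndex (U ⊓ 𝐂[s * y]) = 𝐨((𝐀 ⊓ 𝐂[s * y] : Subgroup G)) := by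
  refine relIndex_eq_card_inv h.dh.swap.odd_B h.ss (mem_norm_of_conj_le fun _ hx => ?_) fun z =>
    ⟨fun hz => ⟨⟨h.AU hz.1, hz.2⟩, h.invA z hz.1⟩, fun ⟨h1, h2⟩ => ⟨(h.mem_A z).2 ⟨h1.1, h2⟩, h1.2⟩⟩
  obtain ⟨z, hz, rfl⟩ := mem_conj'.1 hx
  refine ⟨cjn h.dh.sU hz.1, ?_⟩
  have e : s * (s * y * (y * y)⁻¹) * s⁻¹ = s * y := by
    rw [show s * (s * y * (y * y)⁻¹) * s⁻¹ = s * (s * y⁻¹) * s⁻¹ by group, ← h.ys]; group
  rw [← e, cent1_conj]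
  exact conj_mem_conj (mem_cent1_comm.1 (mul_mem (mem_cent1_comm.1 hz.2)
    (inv_mem (mem_cent1_comm.1 (h.yy hz.1))))) s

theorem ratio : p * kk U s = 𝐨((𝐀 ⊓ 𝐂[s * y] : Subgroup G)) * kk U (s * y) := by
  have h1 := relIndex_mul_relIndex (U ⊓ 𝐂[s] ⊓ 𝐂[s * y]) (U ⊓ 𝐂[s]) U inf_le_left inf_le_left
  have h2 := relIndex_mul_relIndex (U ⊓ 𝐂[s * y] ⊓ 𝐂[s]) (U ⊓ 𝐂[s * y]) U inf_le_left inf_le_left
  rw [inf_relIndex_left, inf_relIndex_left, h.idx1] at h1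
  rw [inf_relIndex_left, inf_relIndex_left, h.idx2, inf_right_comm U] at h2
  exact h1.trans h2.symm

theorem m_le : (𝐍(L) : Subgroup G).relIndex 𝐂[t] ≤ 𝐨((𝐀 ⊓ 𝐂[s * y] : Subgroup G)) ^ 2 := by
  have key : ∀ f ∈ 𝐀, y * f * y⁻¹ = f⁻¹ → f ∈ 𝐀 ⊓ 𝐂[s * y] := fun f hf e =>
    ⟨hf, mem_cent1_comm.1 (mem_cent1_iff_conj.2 (by
      rw [show s * y * f * (s * y)⁻¹ = s * (y * f * y⁻¹) * s⁻¹ by group, e, h.invA' (inv_mem hf),
        inv_inv]))⟩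
  have yA := h.HA h.yH
  have bA := h.HA (h.QH h.hb.1)
  have h1 := relIndex_cent_le (X := 𝐀) (Z := 𝐀 ⊓ 𝐂[s * y]) (g₁ := y) (g₂ := 1) fun c hc => by
    simp only [one_mul, inv_one, mul_one]
    refine key _ (mul_mem (cjn yA hc) (inv_mem hc)) ?_
    have := mem_cent1_iff_conj.1 (mem_cent1_comm.1 (h.yyA hc))
    rw [← conj_mul, show y * (y * c * y⁻¹) * y⁻¹ = y * y * c * (y * y)⁻¹ by group, this]
    group
  have h2 := relIndex_cent_le (X := 𝐀 ⊓ 𝐂[y]) (Z := 𝐀 ⊓ 𝐂[s * y]) (g₁ := b) (g₂ := b⁻¹)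
    fun c hc => by
      refine key _ (mul_mem (cjn bA hc.1) (inv_mem (cjn (inv_mem bA) hc.1))) ?_
      have e := mem_cent1_iff_conj.1 (mem_cent1_comm.1 hc.2)
      calc _ = (y * b * y⁻¹) * (y * c * y⁻¹) * (y * b * y⁻¹)⁻¹ *
            ((y * b * y⁻¹)⁻¹ * (y * c * y⁻¹) * (y * b * y⁻¹))⁻¹ := by group
        _ = _ := by rw [h.inv_b, e]; simp only [mul_inv_rev, inv_inv, mul_assoc]
  have h3 : 𝐂[b⁻¹⁻¹ * b] ≤ 𝐍(L) := by
    rw [inv_inv, cent1_eq_of_card_prime (h.card_b ▸ h.pp) (mul_mem (mem_zpowers b) (mem_zpowers b))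
      fun e => h.b1 (eq_one_of_odd h.dh.odd (h.QU h.hb.1) e), cent_zpowers]
    exact h.cb
  have h4 := relIndex_mul_relIndex (𝐀 ⊓ 𝐂[y] ⊓ 𝐂[b⁻¹⁻¹ * b]) (𝐀 ⊓ 𝐂[y]) 𝐀 inf_le_left inf_le_left
  rw [inf_relIndex_left, inf_relIndex_left] at h4
  rw [inv_one, one_mul] at h1
  rw [h.m_eq, sq]
  exact (relIndex_le_of_le_left (inf_le_right.trans h3) index_ne_zero_of_finite).trans
    (h4.ge.trans (Nat.mul_le_mul h2 h1))

theorem not_dvd (h3 : p = 3 ∨ p = 5) {j : ℕ} (hj : j ∣ kk U s)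
    (e3 : p = 3 → (𝐂[t] : Subgroup G).index = 105 * j ^ 2)
    (e5 : p = 5 → (𝐂[t] : Subgroup G).index = 189 * j ^ 2) : False := by
  obtain ⟨c, hc⟩ := (Nat.mul_dvd_mul_left 2 h.p_dvd).trans h.c2.dvd
  have h1 := h.two_p
  have h2 := h.c2.num
  rcases h3 with rfl | rfl
  · have d := h.N_dvd' hj (e3 rfl)
    have := Nat.le_of_dvd (by norm_num) d
    have : k < 12 := by rcases h2 with rfl | rfl <;> nlinarith
    obtain rfl : k = 6 := by omega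
    obtain rfl | rfl : l = 7 ∨ l = 5 := by omega
    all_goals norm_num at d
  · have d := h.N_dvd' hj (e5 rfl)
    have := Nat.le_of_dvd (by norm_num) d
    have : k < 20 := by rcases h2 with rfl | rfl <;> nlinarith
    obtain rfl : k = 10 := by omega
    obtain rfl | rfl : l = 11 ∨ l = 9 := by omega
    all_goals norm_num at d

theorem false : False := by
  obtain ⟨e, he⟩ := exists_card_eq_pow h.pp (h.isP (W := 𝐀 ⊓ 𝐂[s * y]) (fun g hg _ _ => hg.1.1)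
    fun g hg e => eq_one_of_inv h.cl.odd h.dh.swap.ss e (h.inv_K2 e) hg.2)
  have h1 := h.ratio
  have h2 := h.m_le
  have h3 := h.three_le
  have h4 := h.gf.num _ _ _ _ h.dh.pw (h.dh.kk_odd _) (h.dh.kk_odd _) h.dh.form
  have h5 := h.dh.kk_pos s
  have h6 := h.dh.kk_pos (s * y)
  have h7 : p < 6 → p = 3 ∨ p = 5 := fun _ => by
    have := h.pp
    obtain rfl | rfl | rfl : p = 3 ∨ p = 4 ∨ p = 5 := by omega
    · simp
    · norm_num at this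
    · simp
  rw [relIndex_top_right] at h4
  obtain ⟨-, -, a1, a2, a3, a4, a5, a6, -⟩ := h4
  rw [he] at h1 h2
  rcases e with _ | _ | _ | e
  · rw [pow_zero, one_mul] at h1
    exact h.not_dvd (h7 (by nlinarith)) dvd_rfl (fun e => (a3 (by rw [← h1, e])).2)
      fun e => (a4 (by rw [← h1, e])).2
  · rw [zero_add, pow_one] at h1 h2
    have e1 := Nat.eq_of_mul_eq_mul_left h.pp.pos h1
    have c := h.count
    have d := h.wk_le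
    rw [← e1, show w * (kk U s + kk U s) = 2 * (w * kk U s) by ring] at c
    have d2 := Nat.mul_le_mul h2 (Nat.pow_le_pow_left (Nat.mul_le_mul_left 2 (d.trans
      (Nat.mul_le_mul_left 2 (Nat.mul_le_mul_right k h2)))) 2)
    linarith
  · have e1 : kk U s = p * kk U (s * y) := Nat.eq_of_mul_eq_mul_left h.pp.pos (by rw [h1]; ring)
    exact h.not_dvd (h7 (by nlinarith)) (Dvd.intro_left _ e1.symm) (fun e => (a5 (by rw [e1, e])).2)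
      fun e => (a6 (by rw [e1, e])).2
  · have e1 : kk U s = p ^ e * p * p * kk U (s * y) :=
      Nat.eq_of_mul_eq_mul_left h.pp.pos (by rw [h1]; ring)
    have : 1 * 3 * 3 ≤ p ^ e * p * p :=
      Nat.mul_le_mul (Nat.mul_le_mul (pow_pos h.pp.pos e) h3) h3
    nlinarith

end SP

theorem splitStmt (_ : CountStmt.{u}) : SplitStmt.{u} := fun _ _ _ _ _ _ _ _ _ _ _ _ _ _ _ h _ hY =>
  by_contra fun e => SP.false ⟨h, hY, fun e' => e (.inl e'), fun e' => e (.inr e')⟩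

end Cfsg.Agent.P15
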