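/-
P15: the Gorenstein-Walter theorem.
-/
import Cfsg.Agent.P15.Main0
import Cfsg.Agent.P15.CLL
import Cfsg.Agent.P15.NM
import Cfsg.Agent.P15.B1
import Cfsg.Agent.P15.B2
import Cfsg.Agent.P15.Split

set_option autoImplicit false

namespace Cfsg.Agent.P15

universe u

theorem ind_all (n : ℕ) : Ind.{u} n :=
  ind_of cllStmt nmStmt b1Stmt b2Stmt (splitStmt countStmt) n

/-- A nonabelian simple group with dihedral Sylow `2`-subgroups is `PSL₂(q)` or of type `A₇`. -/
theorem kn_of_dc (G : Type u) [Group G] [Finite G] (hs : IsSimpleGroup G)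
    (na : ¬ IsMulCommutative G) (dc : DC G) : Kn G :=
  ind_all _ G (Nat.lt_succ_self _) hs na dc

theorem gw : P29.GWStmt.{u} := gw_of cllStmt nmStmt b1Stmt b2Stmt (splitStmt countStmt)

end Cfsg.Agent.P15
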