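/-
P15: homogeneous groups with dihedral or abelian Sylow 2-subgroups.
-/
import Cfsg.Agent.P15.Main
import Cfsg.Agent.P14.Main0
import Cfsg.Agent.P12.Fin2
import Cfsg.Agent.P7.Final
import Cfsg.Agent.P7.L2Main

set_option autoImplicit false
set_option linter.unusedSectionVars false
set_option linter.style.haveILetI false

namespace Cfsg.Agent.P15

open Subgroup Cfsg Cfsg.Agent Cfsg.Agent.FT Cfsg.Agent.L Cfsg.Agent.P7
open Cfsg.Agent.H5 (PiHom)
open Cfsg.Agent.H4.SL2 (SL)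

universe u

/-- In a group of Ree type the primes of `q² - q + 1` are orders of strongly real elements. -/
def ReeReal : Prop := ∀ (G : Type u) [Group G] [Finite G] (t : G) (L U : Subgroup G) (q : ℕ),
  IsSimpleGroup G → P7.Ree t L U q → ∀ p : ℕ, p.Prime → p ∣ q ^ 2 - q + 1 →
    ∃ u j : G, orderOf u = p ∧ j * j = 1 ∧ j * u * j = u⁻¹

namespace Fi

theorem sl_sq {F : Type*} [Field F] (h2 : (2 : F) = 0) {y : SL F} (h : y 0 0 + y 1 1 = 0) :
    y * y = 1 := by
  have d := y.det_coe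
  rw [Matrix.det_fin_two] at d
  refine sl_ext ?_ ?_ ?_ ?_ <;> simp only [sle]
  · linear_combination d + (y 0 0) * h + (y 0 1 * y 1 0 - y 0 0 * y 1 1) * h2
  · linear_combination (y 0 1) * h
  · linear_combination (y 1 0) * h
  · linear_combination d + (y 1 1) * h + (y 0 1 * y 1 0 - y 0 0 * y 1 1) * h2

theorem sl_real {F : Type*} [Field F] [Finite F] (h2 : (2 : F) = 0) (x : SL F) :
    ∃ w : SL F, w * w = 1 ∧ w * x * w = x⁻¹ := by
  suffices ∃ w : SL F, w 0 0 + w 1 1 = 0 ∧ (w * x) 0 0 + (w * x) 1 1 = 0 by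
    obtain ⟨w, h1, h3⟩ := this
    exact ⟨w, sl_sq h2 h1, eq_inv_of_mul_eq_one_left (by rw [mul_assoc]; exact sl_sq h2 h3)⟩
  by_cases hb : x 0 1 = 0 <;> by_cases hc : x 1 0 = 0
  · by_cases e : x 0 0 + x 1 1 = 0
    · exact ⟨1, by simp only [sle]; linear_combination h2, by rwa [one_mul]⟩
    exact ⟨mkSL2 0 1 1 0 (by linear_combination -h2), by simp only [sle]; ring,
      by simp only [sle, hb, hc]; ring⟩
  · refine ⟨mkSL2 1 (-(x 0 0 + x 1 1) / x 1 0) 0 1 (by ring),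
      by simp only [sle]; linear_combination h2, ?_⟩
    simp only [sle]; field_simp; ring
  · refine ⟨mkSL2 1 0 (-(x 0 0 + x 1 1) / x 0 1) 1 (by ring),
      by simp only [sle]; linear_combination h2, ?_⟩
    simp only [sle]; field_simp; ring
  · obtain ⟨l, hl⟩ := FiniteField.isSquare_of_char_two (F := F)
      (CharP.ringChar_of_prime_eq_zero Nat.prime_two (by exact_mod_cast h2)) (x 0 1 * x 1 0)⁻¹
    have d : (0 : F) * 0 - x 0 1 * l * -(x 1 0 * l) = 1 := by
      rw [show (0 : F) * 0 - x 0 1 * l * -(x 1 0 * l) = x 0 1 * x 1 0 * (l * l) by ring, ← hl]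
      field_simp
    exact ⟨mkSL2 0 (x 0 1 * l) (-(x 1 0 * l)) 0 d, by simp only [sle]; ring,
      by simp only [sle]; ring⟩

variable {G : Type u} [Group G] [Finite G] {σ : Set ℕ} (h : PiHom σ G) (h2 : 2 ∈ σ)
include h h2

/-- An element of prime order inverted by a 2-element. -/
theorem mem_of_inv {y w : G} {p k : ℕ} (hp : p.Prime) (hy : orderOf y = p) (ww : w ^ 2 ^ k = 1)
    (hw : w * y * w⁻¹ = y⁻¹) : p ∈ σ := by
  by_contra h4
  have h5 := h (zpowers y) (fun q hq hqd => by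
    rw [Nat.card_zpowers, hy, Nat.prime_dvd_prime_iff_eq hq hp] at hqd
    exact hqd ▸ h4) w (mem_norm_of_conj_le (by
      rw [← zpowers_conj, hw]; exact zpowers_le_of_mem (inv_mem (mem_zpowers y))))
    (fun q hq hqd => (Nat.prime_dvd_prime_iff_eq hq Nat.prime_two).1
      (hq.dvd_of_dvd_pow (hqd.trans (orderOf_dvd_of_pow_eq_one ww))) ▸ h2) y (mem_zpowers y)
  rw [← h5, mul_inv_cancel_right] at hw
  have := orderOf_dvd_of_pow_eq_one (show y ^ 2 = 1 by rw [pow_two]; nth_rewrite 1 [hw]; simp)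
  exact h4 ((Nat.prime_dvd_prime_iff_eq hp Nat.prime_two).1 (hy ▸ this) ▸ h2)

theorem mem_of_real {y w : G} {p : ℕ} (hp : p.Prime) (hy : orderOf y = p) (ww : w * w = 1)
    (hw : w * y * w = y⁻¹) : p ∈ σ :=
  mem_of_inv h h2 hp hy (k := 1) (by rw [pow_one, sq, ww])
    (by rw [inv_eq_of_mul_eq_one_right ww, hw])

theorem cov {F : Type*} [Field F] {π : SL F →* G} {L : Subgroup G} (c : Cov π L)
    (h3 : 3 < Nat.card F) : IsPiNum σ 𝐨(L) := by
  have key : ∀ p : ℕ, p.Prime → p ∉ σ → ∀ a ∈ L, orderOf a = p → p ∣ Nat.card F := by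
    intro p hp hs a ha oa
    obtain ⟨x, rfl⟩ := c.exists_eq ha
    have x1 : π x ≠ 1 := fun e => hp.one_lt.ne (by rw [← oa, e, orderOf_one])
    rcases c.cases x1 with ⟨e, -⟩ | ⟨-, e⟩
    · obtain ⟨j, -, jj, -, hj, -⟩ := c.exists_inv x1 e
      exact absurd (mem_of_inv h h2 hp oa (k := 1) (by rw [pow_one, sq, jj])
        (hj _ (c.self_mem x))) hs
    · exact e ▸ oa ▸ orderOf_dvd_card_of_mem (c.self_mem x)
  intro p hp hd
  by_contra hs
  obtain ⟨a, ha, oa⟩ := exists_mem_orderOf_eq_prime hp hd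
  have h4 := key p hp hs a ha oa
  haveI := c.finite
  let _ := Fintype.ofFinite F
  obtain ⟨r, _, n, hr, hn⟩ := FiniteField.card' F
  rw [← Nat.card_eq_fintype_card] at hn
  have h5 : ∀ q : ℕ, q.Prime → q ∣ Nat.card F → q = r := fun q hq e =>
    (Nat.prime_dvd_prime_iff_eq hq hr).1 (hq.dvd_of_dvd_pow (hn ▸ e))
  have h6 := c.card_HD
  obtain ⟨q, hq, dq⟩ := Nat.exists_prime_and_dvd (n := 𝐨(HD π)) (by omega)
  obtain ⟨b, hb, ob⟩ := exists_mem_orderOf_eq_prime hq dq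
  have h7 : ¬ q ∣ Nat.card F := fun e =>
    hq.one_lt.ne' (Nat.dvd_one.1 ((Nat.dvd_add_right (dq.mul_left 2)).1 (h6 ▸ e)))
  have h8 := h (PU π) (fun q hq e => h5 q hq (c.card_PU ▸ e) ▸ h5 p hp h4 ▸ hs) b
    (c.normP.ge (mem_sup_right hb)).2 (fun q' hq' e => by
      rw [ob, Nat.prime_dvd_prime_iff_eq hq' hq] at e
      by_contra e'
      exact h7 (key q hq (e ▸ e') b (c.HD_le hb) ob))
  have u1 : π (uni 1) ≠ 1 := mt c.uni_eq_one.1 one_ne_zero
  have hu : π (uni 1) ∈ PU π := mem_PU.2 ⟨1, rfl⟩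
  exact h7 (c.card_PU ▸ ob ▸ orderOf_dvd_card_of_mem
    ((c.centP hu u1).le ⟨c.HD_le hb, cent_le_cent1 hu h8⟩))

omit h2 in
theorem sqfree (hs : IsSimpleGroup G) (na : ¬ IsMulCommutative G)
    (h0 : ∀ p : ℕ, p.Prime → p ∉ σ → ¬ p * p ∣ Nat.card G) : IsPiNum σ (Nat.card G) := by
  intro p
  induction p using Nat.strong_induction_on with
  | _ p ih =>
  intro hp hd
  by_contra hσ
  haveI := Fact.mk hp
  obtain ⟨y, -, hy⟩ := exists_mem_orderOf_eq_prime hp (H := (⊤ : Subgroup G)) (by rwa [card_top])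
  have hP : 𝐨(zpowers y) = p := by rw [Nat.card_zpowers, hy]
  have hc : IsCyclic (zpowers y) := isCyclic_of_prime_card hP
  have h1 := Subgroup.card_subgroup_dvd_card (normalizerMonoidHom (zpowers y)).range
  rw [← index_ker, normalizerMonoidHom_ker, IsCyclic.card_mulAut, hP, Nat.totient_prime hp] at h1
  have h3 : (𝐂(zpowers y)).relIndex 𝐍(zpowers y) = 1 := by
    by_contra e
    obtain ⟨r, hr, dr⟩ := Nat.exists_prime_and_dvd e
    have := hp.two_le
    refine H5.piHom_iff.1 h _ (ne_bot_of_card_prime (hP ▸ hp)) (fun q hq e => ?_) r hr dr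
      (ih r (lt_of_le_of_lt (Nat.le_of_dvd (by omega) (dr.trans h1)) (by omega)) hr
        (dr.trans ((relIndex_dvd_card _ _).trans (card_subgroup_dvd_card _))))
    rw [hP, Nat.prime_dvd_prime_iff_eq hq hp] at e
    exact e ▸ hσ
  refine hp.one_lt.ne (hy.symm ▸ ?_)
  rw [P12.eq_one_of_syl hp hs na (S := zpowers y) ⟨le_top, isPGroup_of_card_prime hP, fun e =>
    h0 p hp hσ ?_⟩ (isMulComm_of_isCyclic hc) (mem_zpowers y)
    fun n hn => mem_cent.1 (relIndex_eq_one.1 h3 hn) y (mem_zpowers y), orderOf_one]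
  rw [← (zpowers y).card_mul_index, hP, ← relIndex_top_right]
  exact Nat.mul_dvd_mul_left p e

theorem eac (hs : IsSimpleGroup G) (na : ¬ IsMulCommutative G) (he : L.EAC G) :
    IsPiNum σ (Nat.card G) := fun p hp hd => by
  obtain ⟨n, hn, -, F, _, _, hF, ⟨e⟩⟩ := P12.eac_psl hs na he (by
    by_contra h
    haveI := feit_thompson G (Nat.odd_iff.2 (by omega))
    exact na ⟨⟨IsSimpleGroup.comm_iff_isSolvable.2 inferInstance⟩⟩)
  have c2 : (2 : F) = 0 := by
    have h1 := FiniteField.cast_card_eq_zero F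
    rw [hF, Nat.cast_pow] at h1
    exact pow_eq_zero_iff (by omega) |>.1 h1
  obtain ⟨y, -, hy⟩ := exists_mem_orderOf_eq_prime hp (H := (⊤ : Subgroup G)) (by rwa [card_top])
  obtain ⟨x, hx⟩ := QuotientGroup.mk'_surjective _ (e y)
  obtain ⟨w, ww, hw⟩ := sl_real c2 x
  refine mem_of_real h h2 hp hy (w := e.symm (QuotientGroup.mk' _ w)) (e.injective ?_)
    (e.injective ?_)
  · rw [map_mul, e.apply_symm_apply, ← map_mul, ww, map_one, map_one]
  · rw [map_mul, map_mul, map_inv, e.apply_symm_apply, ← hx, ← map_mul, ← map_mul, hw, map_inv]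

theorem l2 {L : Subgroup G} {q : ℕ} (c : IsL2 L q) : IsPiNum σ (q * (q - 1) * (q + 1)) := by
  obtain ⟨F, _, π, hπ, rfl⟩ := c.cov
  intro p hp hd
  rcases hp.dvd_mul.1 (hπ.card_L ▸ hd) with e | e
  · exact (Nat.prime_dvd_prime_iff_eq hp Nat.prime_two).1 e ▸ h2
  · exact cov h h2 hπ (by have := c.five; omega) p hp e

theorem simple (hR : ReeReal.{u}) (hs : IsSimpleGroup G) (na : ¬ IsMulCommutative G)
    (hc : (∀ P : Subgroup G, IsPGroup 2 P → IsMulCommutative P) ∨ DC G) :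
    IsPiNum σ (Nat.card G) := by
  rcases hc with ab | dc
  · rcases walterAll hs na ab with e | ⟨q, e⟩ | e | ⟨t, L, -, e⟩ | ⟨t, L, U, q, e⟩
    · exact eac h h2 hs na e
    · obtain ⟨F, _, π, hπ, rfl⟩ := e.cov
      exact card_top (G := G) ▸ cov h h2 hπ (by have := e.five; omega)
    · exact eac h h2 hs na e.1
    · refine sqfree h hs na fun p hp hσ d => ?_
      have d' := (dvd_mul_right p p).trans d
      rw [e] at d d'
      rw [show 175560 = 2 ^ 3 * 3 * 5 * 7 * 11 * 19 by norm_num] at d'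
      simp only [hp.dvd_mul] at d'
      rcases d' with ((((d' | d') | d') | d') | d') | d'
      · exact hσ ((Nat.prime_dvd_prime_iff_eq hp Nat.prime_two).1 (hp.dvd_of_dvd_pow d') ▸ h2)
      all_goals
        obtain rfl := (Nat.prime_dvd_prime_iff_eq hp (by norm_num)).1 d'
        norm_num at d
    · intro p hp hd
      have big := e.big
      by_cases d : p ∣ q ^ 2 - q + 1
      · obtain ⟨u, j, h3, h4, h5⟩ := hR G t L U q hs e p hp d
        exact mem_of_real h h2 hp h3 h4 h5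
      refine l2 h h2 e.l2 p hp ?_
      obtain ⟨s, rfl⟩ : ∃ s, q = s + 1 := ⟨q - 1, by omega⟩
      rw [show (s + 1) ^ 2 - (s + 1) = (s + 1) * s from Nat.sub_eq_of_eq_add (by ring)] at d
      rw [e.card, show (s + 1) ^ 3 + 1 = ((s + 1) * s + 1) * (s + 1 + 1) by ring] at hd
      simp only [hp.dvd_mul] at hd ⊢
      rcases hd with (hd | hd | hd) | hd
      exacts [.inl (.inl (hp.dvd_of_dvd_pow hd)), absurd hd d, .inr hd, .inl (.inr hd)]
  · rcases KD.kn (ind_all _) dc (Nat.lt_succ_self _) (L := ⊤) (topEquiv.isSimpleGroup)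
      (fun e => na ⟨⟨fun a b => congrArg Subtype.val (e.1.1 ⟨a, trivial⟩ ⟨b, trivial⟩)⟩⟩) with
      ⟨F, _, π, hπ, e⟩ | ⟨U, y, t, s, e⟩
    · exact card_top (G := G) ▸ cov h h2 hπ e
    obtain ⟨u, hu, ou⟩ := exists_mem_orderOf_eq_prime Nat.prime_three (H := U) (by rw [e.cU])
    have h3 : 3 ∈ σ := mem_of_inv h h2 Nat.prime_three (y := u) (w := y) (k := 2)
      (by rw [orderOf_coe, ou]) (by rw [← orderOf_dvd_iff_pow_eq_one, orderOf_coe, e.dh.ord]; norm_num)
      (congrArg Subtype.val (e.iy u hu))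
    refine sqfree h hs na fun p hp hσ d => ?_
    have d' := (dvd_mul_right p p).trans d
    have e1 := e.card
    rw [card_top, card_top] at e1
    rw [e1] at d d'
    rw [show 2520 = 2 ^ 3 * 3 ^ 2 * 5 * 7 by norm_num] at d'
    simp only [hp.dvd_mul] at d'
    rcases d' with ((d' | d') | d') | d'
    · exact hσ ((Nat.prime_dvd_prime_iff_eq hp Nat.prime_two).1 (hp.dvd_of_dvd_pow d') ▸ h2)
    · exact hσ ((Nat.prime_dvd_prime_iff_eq hp Nat.prime_three).1 (hp.dvd_of_dvd_pow d') ▸ h3)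
    all_goals
      obtain rfl := (Nat.prime_dvd_prime_iff_eq hp (by norm_num)).1 d'
      norm_num at d

omit h h2

theorem ab_sub (ab : ∀ P : Subgroup G, IsPGroup 2 P → IsMulCommutative P) (N : Subgroup G) :
    ∀ P : Subgroup N, IsPGroup 2 P → IsMulCommutative P := fun _ hP =>
  (isMulComm_map_iff N.subtype_injective).1 (ab _ (hP.map N.subtype))

theorem ab_of_syl {S : Subgroup G} (hS : IsSyl 2 S ⊤) (h : IsMulCommutative S) :
    ∀ P : Subgroup G, IsPGroup 2 P → IsMulCommutative P := fun P hP => by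
  obtain ⟨g, -, h1⟩ := hS.exists_conj_le Nat.prime_two hP le_top
  exact (isMulComm_map_iff (conj_injective g)).1 (isMulComm_of_le h1 h)

theorem ab_quot (ab : ∀ P : Subgroup G, IsPGroup 2 P → IsMulCommutative P) (N : Subgroup G)
    [N.Normal] : ∀ P : Subgroup (G ⧸ N), IsPGroup 2 P → IsMulCommutative P := by
  obtain ⟨S⟩ : Nonempty (Sylow 2 G) := inferInstance
  have := ab S S.isPGroup'
  exact ab_of_syl (isSyl_top_coe Nat.prime_two (S.mapSurjective (QuotientGroup.mk'_surjective N)))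
    (Subgroup.map_isMulCommutative _ _)

theorem dd_of_dih {S : Subgroup G} (hS : IsPGroup 2 S) {n : ℕ} (e : S ≃* DihedralGroup n) :
    Dd S (e.symm (.r 1)) := by
  have fin : Finite (DihedralGroup n) := Finite.of_equiv _ e.toEquiv
  have hn : NeZero n := ⟨by rintro rfl; exact not_finite (DihedralGroup 0)⟩
  have k0 : ∀ i, ((e.symm (.r i) : S) : G) ∈ zpowers ((e.symm (.r 1) : S) : G) := fun i =>
    ⟨i.val, by
      change _ ^ ((i.val : ℕ) : ℤ) = _
      rw [zpow_natCast, ← Subgroup.coe_pow, ← map_pow, DihedralGroup.r_one_pow, ZMod.natCast_zmod_val]⟩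
  have k : ∀ g ∈ S, g ∉ zpowers ((e.symm (.r 1) : S) : G) → ∃ i, g = e.symm (.sr i) := by
    intro g hg g1
    rcases h : e ⟨g, hg⟩ with i | i
    · exact absurd (by simpa [← h] using k0 i) g1
    · exact ⟨i, by simp [← h]⟩
  refine ⟨hS, (e.symm _).2, fun g hg g1 => ?_, fun g hg g1 => ?_, fun g hg g' hg' g1 g2 => ?_⟩
  · obtain ⟨i, rfl⟩ := k g hg g1
    rw [← Subgroup.coe_mul, ← map_mul, DihedralGroup.sr_mul_self, map_one, Subgroup.coe_one]
  · obtain ⟨i, rfl⟩ := k g hg g1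
    rw [← Subgroup.coe_mul, ← Subgroup.coe_mul, ← Subgroup.coe_inv, ← map_mul, ← map_mul,
      ← map_inv]
    simp
  · obtain ⟨i, rfl⟩ := k g hg g1
    obtain ⟨j, rfl⟩ := k g' hg' g2
    rw [← Subgroup.coe_mul, ← map_mul, DihedralGroup.sr_mul_sr]
    exact k0 _

theorem piSep (hR : ReeReal.{u}) (h2 : 2 ∈ σ) (G : Type u) [Group G] [Finite G] :
    (∀ P : Subgroup G, IsPGroup 2 P → IsMulCommutative P) ∨ DC G → PiHom σ G → PiSep σ G := by
  refine induction_on_card (P := fun G _ _ =>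
    (∀ P : Subgroup G, IsPGroup 2 P → IsMulCommutative P) ∨ DC G → PiHom σ G → PiSep σ G) G ?_
  intro G _ _ ih h3 h
  rcases subsingleton_or_nontrivial G with h0 | h0
  · exact piSep_of_isPiNum (by rw [Nat.card_unique]; exact isPiNum_one σ)
  obtain ⟨N, hN, -⟩ := exists_isMinNormal_le (⊤ : Subgroup G) top_ne_bot
  haveI := hN.1
  by_cases e : N = ⊤
  · subst e
    haveI hs : IsSimpleGroup G := ⟨fun K hK => hN.2.2 K hK le_top⟩
    by_cases na : IsMulCommutative G
    · haveI := H1.isSolvable_of_isMulCommutative na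
      exact piSep_of_isSolvable σ
    exact piSep_of_isPiNum (simple h h2 hR hs na h3)
  · have h4 := ih N (card_lt_of_ne_top e) (h3.imp (ab_sub · N) (·.subgroup N))
      (P14.piHom_subgroup h N)
    exact h4.of_normal_of_quotient N (ih _ (card_quotient_lt N hN.2.1)
      (h3.imp (ab_quot · N) (·.quotient N))
      ((hN.isPiSubgroup_or h4).elim (h.quotient N) (P14.piHom_quotient h N)))

end Fi

theorem s4047 (hR : ReeReal.{u}) {G : Type u} [Group G] [Finite G] (π : Set ℕ)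
    (hodd : ∀ p ∈ π, p.Prime ∧ p ≠ 2) (h2 : ∀ S : Sylow 2 G, IsMulCommutative S ∨
      ∃ n : ℕ, Nonempty ((S : Subgroup G) ≃* DihedralGroup n))
    (hhom : (∀ H : Subgroup G, H ≠ ⊥ → (∀ p : ℕ, p.Prime → p ∣ Nat.card ↥H → p ∈ π) →
      ∀ p : ℕ, p.Prime → p ∣ (centralizer (H : Set G)).relIndex (normalizer (H : Set G)) → p ∈ π)) :
    ∃ K : Subgroup G, ∀ x : G, x ∈ K ↔ ∀ p : ℕ, p.Prime → p ∣ orderOf x → p ∉ π := by
  have h : PiHom πᶜ G := H5.piHom_iff.2 (by simpa using hhom)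
  refine H5.closed_iff.2 ⟨Fi.piSep (σ := πᶜ) hR (fun e => (hodd 2 e).2 rfl) G ?_ h, h⟩
  obtain ⟨S⟩ : Nonempty (Sylow 2 G) := inferInstance
  exact (h2 S).imp (Fi.ab_of_syl (isSyl_top_coe Nat.prime_two S)) fun ⟨_, ⟨e⟩⟩ =>
    dc_of_syl (isSyl_top_coe Nat.prime_two S) (Fi.dd_of_dih S.isPGroup' e)

end Cfsg.Agent.P15
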